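import Cfsg.Agent.Lib.UnionTwoClasses.CharTwo
import Cfsg.Agent.Lib.G2Octonion.Order

/-!
# G₂ in characteristic two as a union of two classes of subgroups

Every automorphism stabilises a pair `{x, x + 1}` with `x` of trace one; there are two classes of
such pairs, according to the norm modulo `{s² + s}`.
-/

set_option autoImplicit false

namespace Cfsg.Agent.UnionTwoClasses

open Cfsg.Lie G2Oct Matrix
open LinearMap (BilinForm)

variable {F : Type*} [Field F]

/-- the trace of an octonion -/
def octTr (x : Fin 8 → F) : F := x 0 + x 7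

/-- the norm of an octonion -/
def octQ (x : Fin 8 → F) : F := x 0 * x 7 - dot3 (zA F x) (zB F x)

/-- the polar form of the norm -/
def octPolar (F : Type*) [Field F] : BilinForm F (Fin 8 → F) :=
  LinearMap.mk₂ F (fun x y => octQ (x + y) - octQ x - octQ y)
    (fun x y z => by simp [octQ, dot3]; ring) (fun c x y => by simp [octQ, dot3]; ring)
    (fun x y z => by simp [octQ, dot3]; ring) (fun c x y => by simp [octQ, dot3]; ring)

theorem octPolar_apply (x y : Fin 8 → F) : octPolar F x y = octQ (x + y) - octQ x - octQ y := rfl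

theorem octTr_mk (α β : F) (a b : Fin 3 → F) : octTr (mk α a b β) = α + β := rfl

theorem octQ_mk (α β : F) (a b : Fin 3 → F) : octQ (mk α a b β) = α * β - dot3 a b := by
  rw [octQ, zA_mk, zB_mk, mk_zero, mk_seven]

theorem octPolar_nondeg : (octPolar F).Nondegenerate := by
  have key : ∀ x : Fin 8 → F, (∀ y, octPolar F x y = 0) → x = 0 := by
    intro x h
    have hval := fun (α β : F) (a b : Fin 3 → F) => h (mk α a b β)
    simp only [octPolar_apply] at hval
    rw [← mk_eta x] at hval ⊢
    simp only [mk_add, octQ_mk] at hval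
    have e0 := hval 1 0 0 0
    have e7 := hval 0 1 0 0
    have ea := fun i : Fin 3 => hval 0 0 (Pi.single i 1) 0
    have eb := fun i : Fin 3 => hval 0 0 0 (Pi.single i 1)
    simp [dot3] at e0 e7
    refine Eq.trans ?_ (mk_000 (F := F))
    have ha : zA F x = 0 := by
      ext i
      have := eb i
      fin_cases i <;> simp [dot3] at this ⊢ <;> linear_combination -this
    have hb : zB F x = 0 := by
      ext i
      have := ea i
      fin_cases i <;> simp [dot3] at this ⊢ <;> linear_combination -this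
    rw [ha, hb]
    congr 1
    · linear_combination e7
    · linear_combination e0
  refine ⟨key, fun y hy => key y fun x => ?_⟩
  rw [octPolar_apply, add_comm y x]
  have := hy x
  rw [octPolar_apply] at this
  linear_combination this

theorem octPolar_one (x : Fin 8 → F) : octPolar F x one8 = octTr x := by
  rw [octPolar_apply, octTr, one8, ← mk_eta x, mk_add, octQ_mk, octQ_mk, octQ_mk, add_zero,
    add_zero, dot_zero_l, mk_zero, mk_seven]
  ring

theorem mulVec_sq (x : Fin 8 → F) : zornMul x x = octTr x • x - octQ x • one8 := by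
  conv_lhs => rw [← mk_eta x, zornMul_mk, G2Oct.cross_self, G2Oct.cross_self]
  rw [octTr, octQ]
  conv_rhs => rw [← mk_eta x, one8, mk_smul, mk_smul]
  ext i
  fin_cases i <;> simp [mk, dot3] <;> ring

theorem octTr_smul_one (c : F) : octTr (c • one8 : Fin 8 → F) = c + c := by
  rw [one8, mk_smul, octTr_mk]; simp

/-- trace and norm are invariant -/
theorem octQ_app {g : GL (Fin 8) F} (hg : g ∈ Lie.G2 F) (x : Fin 8 → F) :
    octTr (app g x) = octTr x ∧ octQ (app g x) = octQ x := by
  by_cases hx : ∃ c : F, app g x = c • one8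
  · obtain ⟨c, hc⟩ := hx
    have : x = c • one8 := app_inj g (by rw [hc, app_smul, app_one8 hg])
    rw [hc, this]; exact ⟨rfl, rfl⟩
  push Not at hx
  have h1 := congrArg (app g) (mulVec_sq x)
  rw [mem_G2.1 hg, mulVec_sq, app_sub, app_smul, app_smul, app_one8 hg] at h1
  have h2 : (octTr (app g x) - octTr x) • app g x = (octQ (app g x) - octQ x) • (one8 : Fin 8 → F) := by
    linear_combination (norm := module) h1
  have ht : octTr (app g x) = octTr x := by
    by_contra hne
    refine hx ((octTr (app g x) - octTr x)⁻¹ * (octQ (app g x) - octQ x)) ?_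
    rw [mul_smul, ← h2, inv_smul_smul₀ (sub_ne_zero.2 hne)]
  refine ⟨ht, ?_⟩
  rw [ht, sub_self, zero_smul] at h2
  have h3 := congrFun h2 0
  simp [one8, mk] at h3
  linear_combination -h3

theorem octPolar_app {g : GL (Fin 8) F} (hg : g ∈ Lie.G2 F) (x y : Fin 8 → F) :
    octPolar F (app g x) (app g y) = octPolar F x y := by
  rw [octPolar_apply, octPolar_apply, ← app_add, (octQ_app hg _).2, (octQ_app hg _).2,
    (octQ_app hg _).2]

theorem exists_cross (b : Fin 3 → F) : ∃ u w : Fin 3 → F, cross3 u w = b := by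
  by_cases h0 : b 0 = 0
  · by_cases h1 : b 1 = 0
    · exact ⟨![1, 0, 0], ![0, b 2, 0], by ext i; fin_cases i <;> simp [cross3, h0, h1]⟩
    · refine ⟨![1, 0, 0], ![0, b 2, -b 1], ?_⟩
      ext i; fin_cases i <;> simp [cross3, h0]
  · refine ⟨![-b 1 / b 0, 1, 0], ![-b 2, 0, b 0], ?_⟩
    ext i; fin_cases i <;> simp [cross3, h0]

variable [CharP F 2]

theorem octQ_add_one (x : Fin 8 → F) (c : F) :
    octQ (x + c • one8) = octQ x + c * octTr x + c ^ 2 := by
  conv_lhs => rw [← mk_eta x, one8, mk_smul, mk_add, smul_zero, add_zero, add_zero, octQ_mk]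
  rw [octQ, octTr]; ring

theorem octTr_add_one (x : Fin 8 → F) (c : F) : octTr (x + c • one8) = octTr x := by
  conv_lhs => rw [← mk_eta x, one8, mk_smul, mk_add, octTr_mk]
  rw [octTr]
  linear_combination c * (CharTwo.two_eq_zero (R := F))

/-- every automorphism stabilises a pair of trace one -/
theorem exists_stable_pair [Finite F] {g : GL (Fin 8) F} (hg : g ∈ Lie.G2 F) :
    ∃ x : Fin 8 → F, octTr x = 1 ∧ (app g x = x ∨ app g x = x + one8) := by
  by_cases hfix : ∃ x, app g x = x ∧ octTr x ≠ 0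
  · obtain ⟨x, hx, ht⟩ := hfix
    refine ⟨(octTr x)⁻¹ • x, ?_, Or.inl (by rw [app_smul, hx])⟩
    have : octTr ((octTr x)⁻¹ • x) = (octTr x)⁻¹ * octTr x := by simp [octTr, mul_add]
    rw [this, inv_mul_cancel₀ ht]
  push Not at hfix
  obtain ⟨L, hL⟩ : ∃ L : (Fin 8 → F) ≃ₗ[F] (Fin 8 → F), L = Orth.glEquiv (Fin 8) F g := ⟨_, rfl⟩
  have hLa : ∀ x, L x = app g x := fun x => by rw [hL]
  obtain ⟨t, ht⟩ : ∃ t : (Fin 8 → F) →ₗ[F] F, ∀ x, t x = octTr x :=
    ⟨(octPolar F).flip one8, fun x => octPolar_one x⟩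
  obtain ⟨N, hN⟩ : ∃ N : (Fin 8 → F) →ₗ[F] (Fin 8 → F),
      N = (L : (Fin 8 → F) →ₗ[F] (Fin 8 → F)) - LinearMap.id := ⟨_, rfl⟩
  have hker : t ∈ (LinearMap.ker N).dualAnnihilator := by
    rw [Submodule.mem_dualAnnihilator]
    intro v hv
    rw [LinearMap.mem_ker, hN, LinearMap.sub_apply, LinearMap.id_apply, sub_eq_zero] at hv
    rw [ht]
    exact hfix v ((hLa v).symm.trans hv)
  rw [← LinearMap.range_dualMap_eq_dualAnnihilator_ker] at hker
  obtain ⟨m, hm⟩ := hker
  obtain ⟨w, hw⟩ := AltForm.exists_repr_functional (octPolar_nondeg (F := F)) m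
  obtain ⟨u, hu⟩ := app_surj g w
  have key : u - w - one8 = 0 := by
    apply octPolar_nondeg.2
    intro x
    have h1 : octPolar F (app g x) w = octPolar F x u := by rw [← hu, octPolar_app hg]
    have h2 : octTr x = octPolar F (app g x) w - octPolar F x w := by
      rw [← ht, ← hm, LinearMap.dualMap_apply, hN, LinearMap.sub_apply, LinearMap.id_apply,
        LinearEquiv.coe_coe, hLa, map_sub, ← hw, ← hw]
    rw [map_sub, map_sub, octPolar_one, h2, h1]
    ring
  have hgu : app g u = u + one8 := by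
    rw [hu]
    have h2 : u = w + one8 := by linear_combination (norm := module) key
    rw [h2]; ext i; simp [add_assoc, CharTwo.add_self_eq_zero]
  refine ⟨u, ?_, Or.inr hgu⟩
  have h3 := (octQ_app hg u).2
  rw [hgu, ← one_smul F (one8 : Fin 8 → F), octQ_add_one] at h3
  have h4 : octTr u + 1 = 0 := by linear_combination h3
  exact CharTwo.add_eq_zero.1 h4

/-- vectors of trace one and norm `d` not of the form `s² + s` are conjugate -/
theorem exists_to_pair {d : F} (hd : ¬ ArtinSchreier d) {x : Fin 8 → F} (ht : octTr x = 1)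
    (hq : octQ x = d) :
    ∃ h ∈ Lie.G2 F, app h x = mk 0 ![1, 0, 0] (-d • ![1, 0, 0]) 1 := by
  have step : ∀ {y : Fin 8 → F} (L : (Fin 8 → F) ≃ₗ[F] (Fin 8 → F))
      (hL : ∀ p r, L (zornMul p r) = zornMul (L p) (L r)) {z : Fin 8 → F},
      (∃ h ∈ Lie.G2 F, app h (L y) = z) → ∃ h ∈ Lie.G2 F, app h y = z := by
    rintro y L hL z ⟨h, hh, he⟩
    exact ⟨h * (Orth.glEquiv (Fin 8) F).symm L, mul_mem hh (symm_mem hL), by
      rw [app_mul, app_symm, he]⟩
  -- make the first vector non-zero
  have key : ∀ (α β : F) (a b : Fin 3 → F), a ≠ 0 → α + β = 1 → α * β - dot3 a b = d →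
      ∃ h ∈ Lie.G2 F, app h (mk α a b β) = mk 0 ![1, 0, 0] (-d • ![1, 0, 0]) 1 := by
    intro α β a b ha hs hdot
    obtain ⟨w, hw⟩ := exists_dot ha α
    refine step (psiEquiv w) (psi_mul w) ?_
    rw [psi_mk, hw, sub_self]
    obtain ⟨a', ha'⟩ : ∃ a', a' = a + cross3 w b := ⟨_, rfl⟩
    obtain ⟨b', hb'⟩ : ∃ b', b' = b + (α - β) • w - α • w := ⟨_, rfl⟩
    rw [← ha', ← hb', add_comm β α, hs]
    have hdot' : dot3 a' b' = -d := by
      have hw' := hw
      simp only [dot3] at hw' hdot ⊢
      simp only [ha', hb', cross3, Pi.add_apply, Pi.sub_apply, Pi.smul_apply, smul_eq_mul,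
        Matrix.cons_val_zero, Matrix.cons_val_one, Matrix.cons_val]
      linear_combination (-β) * hw' - hdot
    have hd0 : d ≠ 0 := fun h => hd ⟨0, by rw [h]; ring⟩
    obtain ⟨u, v, huv⟩ := exists_cross ((-d)⁻¹ • b')
    obtain ⟨M, hM⟩ : ∃ M : Matrix (Fin 3) (Fin 3) F, M = Matrix.of fun i j => ![a' i, u i, v i] j :=
      ⟨_, rfl⟩
    have hdet : M.det = 1 := by
      rw [Matrix.det_fin_three, hM]
      simp only [Matrix.of_apply, Matrix.cons_val_zero, Matrix.cons_val_one, Matrix.cons_val]
      have h1 : dot3 a' (cross3 u v) = 1 := by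
        rw [huv]
        have : dot3 a' ((-d)⁻¹ • b') = (-d)⁻¹ * dot3 a' b' := by simp [dot3]; ring
        rw [this, hdot', inv_mul_cancel₀ (neg_ne_zero.2 hd0)]
      simp only [dot3, cross3, Matrix.cons_val_zero, Matrix.cons_val_one, Matrix.cons_val] at h1
      linear_combination h1
    let A : Matrix.SpecialLinearGroup (Fin 3) F := ⟨M, hdet⟩
    have hA : app (slHom A) (mk 0 ![1, 0, 0] (-d • ![1, 0, 0]) 1) = mk 0 a' b' 1 := by
      rw [app_slHom, slFun_mk]
      congr 1
      · show M *ᵥ _ = _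
        ext i
        simp [hM, Matrix.mulVec, dotProduct, Fin.sum_univ_three]
      · show cof M *ᵥ _ = _
        have hbu : b' = -d • cross3 u v := by
          rw [huv, smul_inv_smul₀ (neg_ne_zero.2 hd0)]
        rw [hbu, Matrix.mulVec_smul]
        congr 1
        ext i
        fin_cases i <;> simp [hM, cof, cross3, Matrix.mulVec, dotProduct, Fin.sum_univ_three] <;> ring
    refine ⟨(slHom A)⁻¹, inv_mem (slHom_mem A), ?_⟩
    apply app_inj (slHom A)
    rw [← app_mul, mul_inv_cancel, app_one, hA]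
  obtain ⟨α, a, b, β, rfl⟩ : ∃ (α : F) (a b : Fin 3 → F) (β : F), x = mk α a b β :=
    ⟨_, _, _, _, (mk_eta x).symm⟩
  rw [octTr_mk] at ht
  rw [octQ_mk] at hq
  by_cases ha : a = 0
  · subst ha
    rw [dot_zero_l, sub_zero] at hq
    by_cases hb : b = 0
    · exfalso
      apply hd
      refine ⟨α, ?_⟩
      linear_combination hq - α * ht + α ^ 2 * (CharTwo.two_eq_zero (R := F))
    · obtain ⟨v, hv, hv0⟩ : ∃ v : Fin 3 → F, dot3 v b = 0 ∧ v ≠ 0 := by
        by_cases h0 : b 0 = 0
        · refine ⟨![1, 0, 0], by simp [dot3, h0], fun h => ?_⟩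
          simpa using congrFun h 0
        · refine ⟨![-b 1, b 0, 0], by simp [dot3]; ring, fun h => ?_⟩
          exact h0 (by simpa using congrFun h 1)
      refine step (phiEquiv v) (phi_mul v) ?_
      rw [phi_mk, hv, cross_zero_r, sub_zero, add_zero, sub_zero, zero_smul, sub_zero, zero_add]
      refine key α β _ b ?_ ht ?_
      · have h1 : β - α = 1 := by linear_combination ht - α * (CharTwo.two_eq_zero (R := F))
        rw [h1, one_smul]
        exact hv0
      · rw [show dot3 ((β - α) • v) b = (β - α) * dot3 v b by simp [dot3]; ring, hv, mul_zero,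
          sub_zero, hq]
  · exact key α β a b ha ht hq

/-- the elements preserving the pair of a vector -/
def pairStab (F : Type*) [Field F] (y : Fin 8 → F) (hy : y + one8 + one8 = y) : Subgroup (Lie.G2 F) where
  carrier := {g | app g.1 y = y ∨ app g.1 y = y + one8}
  one_mem' := Or.inl (by rw [OneMemClass.coe_one, app_one])
  mul_mem' {a b} ha hb := by
    show app (a.1 * b.1) y = y ∨ app (a.1 * b.1) y = y + one8
    rw [app_mul]
    rcases hb with hb | hb <;> rw [hb]
    · exact ha
    · rw [app_add, app_one8 a.2]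
      rcases ha with ha | ha <;> rw [ha]
      · exact Or.inr rfl
      · exact Or.inl hy
  inv_mem' {a} ha := by
    show app (a.1⁻¹) y = y ∨ app (a.1⁻¹) y = y + one8
    rcases ha with ha | ha
    · left
      apply app_inj a.1
      rw [← app_mul, mul_inv_cancel, app_one, ha]
    · right
      apply app_inj a.1
      rw [← app_mul, mul_inv_cancel, app_one, app_add, app_one8 a.2, ha, hy]

/-- `G₂` over a field of characteristic two with at least four elements -/
theorem covered_g2_two [Finite F] : Covered (Lie.G2 F) := by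
  obtain ⟨d, hd⟩ := exists_not_artinSchreier (F := F)
  have hadd : ∀ y : Fin 8 → F, y + one8 + one8 = y := fun y => by
    rw [add_assoc]
    ext i
    simp [CharTwo.add_self_eq_zero]
  obtain ⟨y, hy⟩ : ∃ y : Fin 8 → F, y = mk 0 ![1, 0, 0] (-d • ![1, 0, 0]) 1 := ⟨_, rfl⟩
  refine ⟨pairStab F idem0 (hadd _), pairStab F y (hadd _), ?_, ?_, fun g => ?_⟩
  · intro h
    have hm : (⟨_, symm_mem (psi_mul (F := F) ![1, 0, 0])⟩ : Lie.G2 F) ∈ pairStab F idem0 (hadd _) :=
      h ▸ Subgroup.mem_top _
    rcases hm with hm | hm <;> · rw [app_symm, idem0, psi_mk] at hm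
                                 simp [idem0, one8, mk_add, mk, dot3, cross3] at hm
  · intro h
    have hm : (⟨_, symm_mem (psi_mul (F := F) ![0, 1, 0])⟩ : Lie.G2 F) ∈ pairStab F y (hadd _) :=
      h ▸ Subgroup.mem_top _
    have hd0 : d ≠ 0 := fun h => hd ⟨0, by rw [h]; ring⟩
    rcases hm with hm | hm <;> · rw [app_symm, hy, psi_mk] at hm
                                 simp [one8, mk_add, mk, dot3, cross3, hd0] at hm
  obtain ⟨x, hxt, hgx⟩ := exists_stable_pair g.2
  have hmove : ∀ (z : Fin 8 → F) (c : F) (h : GL (Fin 8) F) (hh : h ∈ Lie.G2 F),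
      app h (x + c • one8) = z →
        (⟨h, hh⟩ : Lie.G2 F) * g * (⟨h, hh⟩ : Lie.G2 F)⁻¹ ∈ pairStab F z (hadd _) := by
    intro z c h hh hz
    show app (h * g.1 * h⁻¹) z = z ∨ app (h * g.1 * h⁻¹) z = z + one8
    rw [← hz, app_mul, app_mul, ← app_mul h⁻¹, inv_mul_cancel, app_one, app_add, app_smul,
      app_one8 g.2]
    rcases hgx with hgx | hgx
    · exact Or.inl (by rw [hgx])
    · right
      rw [hgx, add_right_comm, app_add _ _ one8, app_one8 hh]
  by_cases hq : ArtinSchreier (octQ x)
  · obtain ⟨s, hs⟩ := hq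
    have hz : x + s • one8 ∈ idemSet F := by
      obtain ⟨α, a, b, β, hx⟩ : ∃ (α : F) (a b : Fin 3 → F) (β : F), x + s • one8 = mk α a b β :=
        ⟨_, _, _, _, (mk_eta _).symm⟩
      have h1 := octTr_add_one x s
      have h2 := octQ_add_one x s
      rw [hx, octTr_mk, hxt] at h1
      rw [hx, octQ_mk, hxt, ← hs] at h2
      rw [hx]
      refine (idem_iff _ _ _ _).2 ⟨h1, ?_⟩
      linear_combination -h2 + (-(s ^ 2) - s) * (CharTwo.two_eq_zero (R := F))
    obtain ⟨h, hh, he⟩ := reach_all hz
    exact ⟨⟨h, hh⟩, Or.inl (hmove _ s h hh he)⟩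
  · obtain ⟨s, hs⟩ := artinSchreier_add hq hd
    obtain ⟨h, hh, he⟩ := exists_to_pair hd (x := x + s • one8) (by rw [octTr_add_one, hxt]) (by
      rw [octQ_add_one, hxt, mul_one]
      linear_combination hs + (octQ x) * (CharTwo.two_eq_zero (R := F)))
    refine ⟨⟨h, hh⟩, Or.inr ?_⟩
    rw [← hy] at he
    exact hmove _ s h hh he

end Cfsg.Agent.UnionTwoClasses
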