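import Mathlib

/-!
# Coverings of a group by two conjugacy classes of subgroups

Passing to quotients, stabilisers of subspaces and of spaces of endomorphisms.
-/

set_option autoImplicit false

namespace Cfsg.Agent.UnionTwoClasses

/-- the group is covered by the conjugates of two proper subgroups -/
def Covered (G : Type*) [Group G] : Prop :=
  ∃ H K : Subgroup G, H ≠ ⊤ ∧ K ≠ ⊤ ∧ ∀ g : G, ∃ x : G, x * g * x⁻¹ ∈ H ∨ x * g * x⁻¹ ∈ K

theorem covered_quotient {G : Type*} [Group G] (N : Subgroup G) [N.Normal] (H K : Subgroup G)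
    (hNH : N ≤ H) (hNK : N ≤ K) (hH : H ≠ ⊤) (hK : K ≠ ⊤)
    (hcov : ∀ g : G, ∃ x : G, x * g * x⁻¹ ∈ H ∨ x * g * x⁻¹ ∈ K) : Covered (G ⧸ N) := by
  have hne : ∀ L : Subgroup G, N ≤ L → L ≠ ⊤ → L.map (QuotientGroup.mk' N) ≠ ⊤ := by
    intro L hNL hL h
    apply hL
    have h' := congrArg (Subgroup.comap (QuotientGroup.mk' N)) h
    rwa [Subgroup.comap_map_eq, QuotientGroup.ker_mk', sup_eq_left.2 hNL, Subgroup.comap_top] at h'
  refine ⟨_, _, hne H hNH hH, hne K hNK hK, fun g => ?_⟩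
  obtain ⟨g, rfl⟩ := QuotientGroup.mk'_surjective N g
  obtain ⟨x, hx⟩ := hcov g
  refine ⟨QuotientGroup.mk' N x, ?_⟩
  rw [← map_inv, ← map_mul, ← map_mul]
  exact hx.imp (fun h => ⟨_, h, rfl⟩) (fun h => ⟨_, h, rfl⟩)

variable {F V : Type*} [Field F] [AddCommGroup V] [Module F V]
variable {G : Type*} [Group G]

/-- a covering by two proper subgroups containing the elements that act as scalars -/
def CoveredMod (ρ : G →* (V ≃ₗ[F] V)) : Prop :=
  ∃ H K : Subgroup G, H ≠ ⊤ ∧ K ≠ ⊤ ∧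
    (∀ (g : G) (c : F), (∀ v, ρ g v = c • v) → g ∈ H ∧ g ∈ K) ∧
    ∀ g : G, ∃ x : G, x * g * x⁻¹ ∈ H ∨ x * g * x⁻¹ ∈ K

theorem covered_of_coveredMod {ρ : G →* (V ≃ₗ[F] V)} (N : Subgroup G) [N.Normal]
    (hN : ∀ g ∈ N, ∃ c : F, ∀ v, ρ g v = c • v) (h : CoveredMod ρ) : Covered (G ⧸ N) := by
  obtain ⟨H, K, hH, hK, hsc, hcov⟩ := h
  refine covered_quotient N H K (fun g hg => ?_) (fun g hg => ?_) hH hK hcov
  · obtain ⟨c, hc⟩ := hN g hg
    exact (hsc g c hc).1
  · obtain ⟨c, hc⟩ := hN g hg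
    exact (hsc g c hc).2

/-- the image of a conjugate -/
theorem rho_conj_apply (ρ : G →* (V ≃ₗ[F] V)) (x g : G) (v : V) :
    ρ (x * g * x⁻¹) (ρ x v) = ρ x (ρ g v) := by
  rw [map_mul, map_mul, map_inv, LinearEquiv.mul_apply, LinearEquiv.mul_apply]
  congr 2
  exact (ρ x).symm_apply_apply v

/-- the elements preserving a set of vectors -/
def setStab (ρ : G →* (V ≃ₗ[F] V)) (S : Set V) : Subgroup G where
  carrier := {g | ∀ x, ρ g x ∈ S ↔ x ∈ S}
  one_mem' x := by rw [map_one]; rfl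
  mul_mem' {a b} ha hb x := by rw [map_mul, LinearEquiv.mul_apply, ha, hb]
  inv_mem' {a} ha x := by
    have h : ρ a (ρ a⁻¹ x) = x := by rw [map_inv]; exact (ρ a).apply_symm_apply x
    conv_rhs => rw [← h]
    rw [ha]

theorem mem_setStab {ρ : G →* (V ≃ₗ[F] V)} {S : Set V} {g : G} :
    g ∈ setStab ρ S ↔ ∀ x, ρ g x ∈ S ↔ x ∈ S := Iff.rfl

/-- carrying a stable set onto another conjugates into the stabiliser -/
theorem conj_mem_setStab {ρ : G →* (V ≃ₗ[F] V)} {S S' : Set V} {g x : G}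
    (hg : g ∈ setStab ρ S') (hx : ∀ a, ρ x a ∈ S ↔ a ∈ S') : x * g * x⁻¹ ∈ setStab ρ S := by
  intro a
  obtain ⟨b, rfl⟩ := (ρ x).surjective a
  rw [rho_conj_apply, hx, hx, hg]

theorem setStab_ne_top {ρ : G →* (V ≃ₗ[F] V)} {S : Set V} (g : G) {a : V} (ha : a ∈ S)
    (hga : ρ g a ∉ S) : setStab ρ S ≠ ⊤ := fun h =>
  hga ((mem_setStab.1 (h ▸ Subgroup.mem_top g) a).2 ha)

variable [FiniteDimensional F V]

/-- mapping a subspace into itself is preserving it -/
theorem mem_setStab_of_le {ρ : G →* (V ≃ₗ[F] V)} {S : Submodule F V} {g : G}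
    (h : ∀ x ∈ S, ρ g x ∈ S) : g ∈ setStab ρ (S : Set V) := by
  intro x
  refine ⟨fun hx => ?_, h x⟩
  have hS : S.map (ρ g).toLinearMap = S :=
    Submodule.eq_of_le_of_finrank_eq (Submodule.map_le_iff_le_comap.2 h)
      (LinearEquiv.finrank_map_eq (ρ g) S)
  have hx' : ρ g x ∈ S.map (ρ g).toLinearMap := hS.symm ▸ hx
  obtain ⟨y, hy, hyx⟩ := hx'
  exact (ρ g).injective hyx ▸ hy

/-- a conjugate preserves a subspace once the image of a preserved one is in it -/
theorem conj_mem_setStab_of_le {ρ : G →* (V ≃ₗ[F] V)} {S S' : Submodule F V} {g x : G}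
    (hg : ∀ v ∈ S', ρ g v ∈ S') (hx : ∀ v ∈ S', ρ x v ∈ S)
    (hdim : Module.finrank F S' = Module.finrank F S) :
    x * g * x⁻¹ ∈ setStab ρ (S : Set V) := by
  refine mem_setStab_of_le fun v hv => ?_
  have hS : S'.map (ρ x).toLinearMap = S :=
    Submodule.eq_of_le_of_finrank_eq (Submodule.map_le_iff_le_comap.2 hx)
      ((LinearEquiv.finrank_map_eq (ρ x) S').trans hdim)
  have hv' : v ∈ S'.map (ρ x).toLinearMap := hS.symm ▸ hv
  obtain ⟨w, hw, rfl⟩ := hv'
  rw [LinearEquiv.coe_coe, rho_conj_apply]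
  exact hx _ (hg w hw)

/-- the elements normalising a space of endomorphisms -/
def lineNormal (ρ : G →* (V ≃ₗ[F] V)) (A : Submodule F (Module.End F V)) : Subgroup G where
  carrier := {g | ∀ X, (ρ g).conj X ∈ A ↔ X ∈ A}
  one_mem' X := by
    rw [map_one, show (1 : V ≃ₗ[F] V).conj X = X from LinearMap.ext fun v => by
      rw [LinearEquiv.conj_apply_apply]; rfl]
  mul_mem' {a b} ha hb X := by
    rw [map_mul, show (ρ a * ρ b).conj X = (ρ a).conj ((ρ b).conj X) from LinearMap.ext fun v => by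
      simp only [LinearEquiv.conj_apply_apply]; rfl, ha, hb]
  inv_mem' {a} ha X := by
    have h : (ρ a).conj ((ρ a⁻¹).conj X) = X := by
      refine LinearMap.ext fun v => ?_
      simp only [LinearEquiv.conj_apply_apply]
      rw [map_inv]
      show (ρ a) ((ρ a).symm (X ((ρ a) ((ρ a).symm v)))) = X v
      rw [LinearEquiv.apply_symm_apply, LinearEquiv.apply_symm_apply]
    conv_rhs => rw [← h]
    rw [ha]

theorem mem_lineNormal {ρ : G →* (V ≃ₗ[F] V)} {A : Submodule F (Module.End F V)} {g : G} :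
    g ∈ lineNormal ρ A ↔ ∀ X, (ρ g).conj X ∈ A ↔ X ∈ A := Iff.rfl

/-- it is enough to map the space into itself -/
theorem mem_lineNormal_of_le {ρ : G →* (V ≃ₗ[F] V)} {A : Submodule F (Module.End F V)} {g : G}
    (h : ∀ X ∈ A, (ρ g).conj X ∈ A) : g ∈ lineNormal ρ A := by
  intro X
  refine ⟨fun hX => ?_, h X⟩
  have hS : A.map (ρ g).conj.toLinearMap = A :=
    Submodule.eq_of_le_of_finrank_eq (Submodule.map_le_iff_le_comap.2 h)
      (LinearEquiv.finrank_map_eq (ρ g).conj A)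
  have hX' : (ρ g).conj X ∈ A.map (ρ g).conj.toLinearMap := hS.symm ▸ hX
  obtain ⟨Y, hY, hYX⟩ := hX'
  exact (ρ g).conj.injective hYX ▸ hY

omit [FiniteDimensional F V] in
theorem exists_ne_zero_of_ne_zero {φ : V →ₗ[F] F} (hφ : φ ≠ 0) : ∃ v, φ v ≠ 0 := by
  by_contra hh
  push Not at hh
  exact hφ (LinearMap.ext hh)

/-- a transvection does not normalise a field of endomorphisms -/
theorem lineNormal_ne_top (ρ : G →* (V ≃ₗ[F] V)) (A : Submodule F (Module.End F V))
    (hinv : ∀ X ∈ A, X ≠ 0 → Function.Injective X) (hdim : 3 ≤ Module.finrank F V)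
    {X : Module.End F V} (hX : X ∈ A) (hXv : ∀ v : V, v ≠ 0 → ∀ c : F, X v ≠ c • v)
    (g : G) (w : V) (φ : V →ₗ[F] F) (hw : w ≠ 0) (hφ : φ ≠ 0)
    (hg : ∀ v, ρ g v = v + φ v • w) :
    lineNormal ρ A ≠ ⊤ := by
  intro h
  have hg' : (ρ g).conj X ∈ A := (mem_lineNormal.1 (h ▸ Subgroup.mem_top g) X).2 hX
  set Y := (ρ g).conj X - X with hY
  have hYA : Y ∈ A := A.sub_mem hg' hX
  have hcomm : ∀ v, Y (ρ g v) = φ (X v) • w - φ v • X w := by
    intro v
    rw [hY, LinearMap.sub_apply, LinearEquiv.conj_apply_apply, LinearEquiv.symm_apply_apply, hg v,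
      hg (X v), map_add, map_smul]
    abel
  have hY0 : Y = 0 := by
    by_contra hne
    obtain ⟨v, hv, hv0⟩ : ∃ v : V, (φ.prod (φ.comp X)) v = 0 ∧ v ≠ 0 := by
      have hk := LinearMap.finrank_range_add_finrank_ker (φ.prod (φ.comp X))
      have hr := Submodule.finrank_le (LinearMap.range (φ.prod (φ.comp X)))
      rw [Module.finrank_prod, Module.finrank_self] at hr
      have hpos : 0 < Module.finrank F (LinearMap.ker (φ.prod (φ.comp X))) := by omega
      obtain ⟨⟨v, hv⟩, hv0⟩ := Module.finrank_pos_iff_exists_ne_zero.1 hpos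
      exact ⟨v, hv, fun e => hv0 (Subtype.ext e)⟩
    have hv' : φ v = 0 ∧ φ (X v) = 0 := Prod.mk_eq_zero.1 hv
    have := hcomm v
    rw [hg v, hv'.1, hv'.2] at this
    simp only [zero_smul, add_zero, sub_self] at this
    exact hv0 (hinv Y hYA hne (this.trans (map_zero Y).symm))
  have hc0 : ∀ v, φ v • X w = φ (X v) • w := by
    intro v
    have h1 := hcomm v
    rw [hY0, LinearMap.zero_apply] at h1
    linear_combination (norm := module) h1
  obtain ⟨v, hv⟩ := exists_ne_zero_of_ne_zero hφ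
  refine hXv w hw ((φ v)⁻¹ * φ (X v)) ?_
  rw [mul_smul, ← hc0, inv_smul_smul₀ hv]

/-- the elements commuting with an endomorphism -/
def commutant (ρ : G →* (V ≃ₗ[F] V)) (X : Module.End F V) : Subgroup G where
  carrier := {g | ∀ v, ρ g (X v) = X (ρ g v)}
  one_mem' v := by rw [map_one]; rfl
  mul_mem' {a b} ha hb v := by
    rw [map_mul, LinearEquiv.mul_apply, LinearEquiv.mul_apply, hb, ha]
  inv_mem' {a} ha v := by
    apply (ρ a).injective
    rw [map_inv, ha]
    show (ρ a) ((ρ a).symm (X v)) = X ((ρ a) ((ρ a).symm v))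
    rw [LinearEquiv.apply_symm_apply, LinearEquiv.apply_symm_apply]

omit [FiniteDimensional F V] in
theorem mem_commutant {ρ : G →* (V ≃ₗ[F] V)} {X : Module.End F V} {g : G} :
    g ∈ commutant ρ X ↔ ∀ v, ρ g (X v) = X (ρ g v) := Iff.rfl

omit [FiniteDimensional F V] in
/-- a transvection does not commute with an endomorphism without eigenvectors -/
theorem commutant_ne_top (ρ : G →* (V ≃ₗ[F] V)) {X : Module.End F V}
    (hXv : ∀ v : V, v ≠ 0 → ∀ c : F, X v ≠ c • v)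
    (g : G) (w : V) (φ : V →ₗ[F] F) (hw : w ≠ 0) (hφ : φ ≠ 0)
    (hg : ∀ v, ρ g v = v + φ v • w) : commutant ρ X ≠ ⊤ := by
  intro h
  have hc := mem_commutant.1 (h ▸ Subgroup.mem_top g)
  obtain ⟨v, hv⟩ := exists_ne_zero_of_ne_zero hφ
  have h1 := hc v
  rw [hg, hg, map_add, map_smul, add_right_inj] at h1
  refine hXv w hw ((φ v)⁻¹ * φ (X v)) ?_
  rw [mul_smul, h1, inv_smul_smul₀ hv]

omit [FiniteDimensional F V] in
theorem scalar_mem_commutant {ρ : G →* (V ≃ₗ[F] V)} (X : Module.End F V) {g : G} {c : F}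
    (hg : ∀ v, ρ g v = c • v) : g ∈ commutant ρ X := fun v => by rw [hg, hg, map_smul]

theorem scalar_mem_setStab {ρ : G →* (V ≃ₗ[F] V)} (S : Submodule F V) {g : G} {c : F}
    (hg : ∀ v, ρ g v = c • v) : g ∈ setStab ρ (S : Set V) :=
  mem_setStab_of_le fun x hx => by rw [hg]; exact S.smul_mem c hx

theorem scalar_mem_lineNormal {ρ : G →* (V ≃ₗ[F] V)} (A : Submodule F (Module.End F V)) {g : G}
    {c : F} (hg : ∀ v, ρ g v = c • v) : g ∈ lineNormal ρ A := by
  refine mem_lineNormal_of_le fun X hX => ?_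
  have : (ρ g).conj X = X := LinearMap.ext fun v => by
    obtain ⟨u, rfl⟩ := (ρ g).surjective v
    rw [LinearEquiv.conj_apply_apply, LinearEquiv.symm_apply_apply, hg, hg, map_smul]
  rwa [this]

omit [FiniteDimensional F V] in
/-- membership of a conjugate in the commutant -/
theorem conj_mem_commutant {ρ : G →* (V ≃ₗ[F] V)} {X Y : Module.End F V} {g x : G}
    (hg : ∀ v, ρ g (Y v) = Y (ρ g v)) (hx : ∀ v, ρ x (Y v) = X (ρ x v)) :
    x * g * x⁻¹ ∈ commutant ρ X := by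
  intro v
  obtain ⟨u, rfl⟩ := (ρ x).surjective v
  rw [← hx, rho_conj_apply, rho_conj_apply, hg, hx]

end Cfsg.Agent.UnionTwoClasses
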