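import Cfsg.Agent.Lib.UnionTwoClasses.Basic
import Cfsg.Agent.Lib.Classical.AlternatingWitt
import Cfsg.Agent.Lib.Classical.Symplectic

/-!
# The symplectic groups in characteristic two as unions of two orthogonal classes

Every element fixes a quadratic form polarising the alternating form, and there are two classes of
such forms.
-/

set_option autoImplicit false

universe u v

namespace Cfsg.Agent.UnionTwoClasses

open LinearMap (BilinForm)

variable {F : Type u} [Field F] [CharP F 2]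

/-- the squares plus their roots -/
def ArtinSchreier (d : F) : Prop := ∃ s : F, s ^ 2 + s = d

theorem artinSchreier_add [Finite F] {a b : F} (ha : ¬ ArtinSchreier a) (hb : ¬ ArtinSchreier b) :
    ArtinSchreier (a + b) := by
  let f : F →+ F := AddMonoidHom.mk' (fun s => s ^ 2 + s) fun x y => by
    rw [CharTwo.add_sq]; ring
  have hker : Nat.card f.ker = 2 := by
    have : (f.ker : Set F) = {0, 1} := by
      ext x
      rw [SetLike.mem_coe, AddMonoidHom.mem_ker, Set.mem_insert_iff, Set.mem_singleton_iff]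
      show x ^ 2 + x = 0 ↔ _
      constructor
      · intro h
        have h' : x * (x + 1) = 0 := by linear_combination h
        rcases mul_eq_zero.1 h' with h1 | h1
        · exact Or.inl h1
        · exact Or.inr (CharTwo.add_eq_zero.1 h1)
      · rintro (rfl | rfl)
        · ring
        · rw [one_pow, CharTwo.add_self_eq_zero]
    rw [← SetLike.coe_sort_coe, this, Nat.card_coe_set_eq, Set.ncard_pair zero_ne_one]
  have hidx : f.range.index = 2 := by
    have h1 := f.range.card_mul_index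
    have h2 := f.ker.card_mul_index
    rw [AddSubgroup.index_ker, hker] at h2
    have hpos : 0 < Nat.card f.range := Nat.card_pos
    have : Nat.card f.range * f.range.index = Nat.card f.range * 2 := by rw [h1, ← h2, mul_comm]
    exact Nat.eq_of_mul_eq_mul_left hpos this
  exact (AddSubgroup.add_mem_iff_of_index_two hidx).2 ⟨fun h => absurd h ha, fun h => absurd h hb⟩

theorem exists_not_artinSchreier [Finite F] : ∃ d : F, ¬ ArtinSchreier d := by
  by_contra h
  push Not at h
  have hs : Function.Surjective fun s : F => s ^ 2 + s := h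
  have h01 : (0 : F) = 1 := (Finite.surjective_iff_bijective.1 hs).1 (by
    show (0 : F) ^ 2 + 0 = 1 ^ 2 + 1
    rw [one_pow, CharTwo.add_self_eq_zero]; ring)
  exact zero_ne_one h01

variable {V : Type v} [AddCommGroup V] [Module F V] {B : BilinForm F V}

/-- a quadratic form with polar `B` -/
def Polarises (B : BilinForm F V) (Q : V → F) : Prop :=
  (∀ (c : F) (x : V), Q (c • x) = c ^ 2 * Q x) ∧ ∀ x y : V, Q (x + y) = Q x + Q y + B x y

omit [CharP F 2] in
theorem polarises_add_sq {Q : V → F} (hQ : Polarises B Q) (h2 : (2 : F) = 0) (l : V →ₗ[F] F) :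
    Polarises B (fun x => Q x + l x ^ 2) := by
  refine ⟨fun c x => ?_, fun x y => ?_⟩
  · show Q (c • x) + l (c • x) ^ 2 = _
    rw [hQ.1, map_smul, smul_eq_mul]; ring
  · show Q (x + y) + l (x + y) ^ 2 = _
    rw [hQ.2, map_add]
    linear_combination (l x * l y) * h2

variable [Finite F] [FiniteDimensional F V]

/-- every isometry fixes some quadratic form -/
theorem exists_fixed_polarisation (hB : B.Nondegenerate) {Q : V → F} (hQ : Polarises B Q)
    {g : V ≃ₗ[F] V} (hg : g ∈ AltForm.isoGroup B) :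
    ∃ u : V, ∀ x, Q (g x) + B (g x) u ^ 2 = Q x + B x u ^ 2 := by
  let δ : V →+ F := AddMonoidHom.mk' (fun v => Q (g v) + Q v) fun x y => by
    rw [map_add, hQ.2, hQ.2, hg]
    linear_combination (B x y) * (CharTwo.two_eq_zero (R := F))
  let l : V →ₗ[F] F :=
    { toFun := fun v => (frobeniusEquiv F 2).symm (δ v)
      map_add' := fun x y => by rw [map_add, map_add]
      map_smul' := fun c x => by
        apply (frobeniusEquiv F 2).injective
        rw [RingEquiv.apply_symm_apply, RingHom.id_apply, smul_eq_mul, map_mul,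
          RingEquiv.apply_symm_apply, frobeniusEquiv_def]
        show Q (g (c • x)) + Q (c • x) = c ^ 2 * (Q (g x) + Q x)
        rw [map_smul, hQ.1, hQ.1]; ring }
  have hl : ∀ v, l v ^ 2 = Q (g v) + Q v := fun v => by
    show ((frobeniusEquiv F 2).symm (δ v)) ^ 2 = _
    rw [← frobeniusEquiv_def, RingEquiv.apply_symm_apply]
    rfl
  obtain ⟨N, hN⟩ : ∃ N : V →ₗ[F] V, N = (g : V →ₗ[F] V) - LinearMap.id := ⟨_, rfl⟩
  have hker : l ∈ (LinearMap.ker N).dualAnnihilator := by
    rw [Submodule.mem_dualAnnihilator]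
    intro v hv
    rw [LinearMap.mem_ker, hN, LinearMap.sub_apply, LinearMap.id_apply, sub_eq_zero] at hv
    apply eq_zero_of_pow_eq_zero (n := 2)
    rw [hl, show g v = v from hv, CharTwo.add_self_eq_zero]
  rw [← LinearMap.range_dualMap_eq_dualAnnihilator_ker] at hker
  obtain ⟨m, hm⟩ := hker
  obtain ⟨u, hu⟩ := AltForm.exists_repr_functional hB m
  refine ⟨u, fun x => ?_⟩
  have h1 : B (g x) u = B x u + l x := by
    rw [hu, hu, ← hm, LinearMap.dualMap_apply, hN, LinearMap.sub_apply, LinearMap.id_apply, map_sub,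
      add_sub_cancel]
    rfl
  rw [h1, CharTwo.add_sq, hl]
  linear_combination (Q (g x)) * (CharTwo.two_eq_zero (R := F))

omit [Finite F] [FiniteDimensional F V] in
/-- the effect of a transvection on a quadratic form -/
theorem polarises_transv {Q : V → F} (hQ : Polarises B Q) (hA : B.IsAlt) (w : V) (c : F) (x : V) :
    Q (AltForm.transv hA w c x) = Q x + (c + c ^ 2 * Q w) * B x w ^ 2 := by
  rw [AltForm.transv_apply, hQ.2, hQ.1, map_smul, smul_eq_mul]; ring

/-- a quadratic form `Q + B(·,u)²` is isometric to `Q` when `Q u` is `s² + s` -/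
theorem exists_isometry_shift {Q : V → F} (hQ : Polarises B Q) (hA : B.IsAlt) {u : V}
    (hu : ArtinSchreier (Q u)) :
    ∃ T : V ≃ₗ[F] V, T ∈ AltForm.isoGroup B ∧ ∀ x, Q (T x) = Q x + B x u ^ 2 := by
  obtain ⟨s, hs⟩ := hu
  obtain ⟨c, hc⟩ : ∃ c : F, c + c ^ 2 * Q u = 1 := by
    rcases eq_or_ne (Q u) 0 with h0 | h0
    · exact ⟨1, by rw [h0]; ring⟩
    · refine ⟨s / Q u, ?_⟩
      field_simp
      linear_combination hs
  exact ⟨AltForm.transv hA u c, AltForm.transv_mem_iso hA u c, fun x => by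
    rw [polarises_transv hQ, hc, one_mul]⟩

variable {G : Type*} [Group G]

/-- the elements fixing a quadratic form -/
def quadStab (ρ : G →* (V ≃ₗ[F] V)) (Q : V → F) : Subgroup G where
  carrier := {g | ∀ x, Q (ρ g x) = Q x}
  one_mem' x := by rw [map_one]; rfl
  mul_mem' {a b} ha hb x := by rw [map_mul, LinearEquiv.mul_apply, ha, hb]
  inv_mem' {a} ha x := by
    conv_rhs => rw [show x = ρ a (ρ a⁻¹ x) by rw [map_inv]; exact ((ρ a).apply_symm_apply x).symm]
    rw [ha]

/-- the symplectic groups in characteristic two -/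
theorem coveredMod_symp_two (hB : B.Nondegenerate) (hA : B.IsAlt) {Q₀ : V → F}
    (hQ₀ : Polarises B Q₀) {u₀ : V} (hu₀ : ¬ ArtinSchreier (Q₀ u₀))
    (hsing : ∃ w : V, w ≠ 0 ∧ Q₀ w = 0 ∧ B w u₀ = 0)
    (ρ : G →* (V ≃ₗ[F] V)) (hmem : ∀ g, ρ g ∈ AltForm.isoGroup B)
    (hsurj : ∀ P : V ≃ₗ[F] V, P ∈ AltForm.isoGroup B → ∃ g, ρ g = P) :
    CoveredMod ρ := by
  obtain ⟨Q₁, hQ₁⟩ : ∃ Q₁ : V → F, Q₁ = fun x => Q₀ x + B x u₀ ^ 2 := ⟨_, rfl⟩
  have hQ₁' : Polarises B Q₁ := hQ₁ ▸ polarises_add_sq hQ₀ CharTwo.two_eq_zero (B.flip u₀)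
  have hne : ∀ Q : V → F, Polarises B Q → (∃ w : V, w ≠ 0 ∧ Q w = 0) → quadStab ρ Q ≠ ⊤ := by
    rintro Q hQ ⟨w, hw, hQw⟩ h
    obtain ⟨t, ht⟩ := hsurj _ (AltForm.transv_mem_iso hA w 1)
    obtain ⟨y, hy⟩ := AltForm.exists_eq_one hB hw
    have h1 : Q (ρ t y) = Q y := (h ▸ Subgroup.mem_top t : t ∈ quadStab ρ Q) y
    rw [ht, polarises_transv hQ, hQw, AltForm.swap hA w y, hy] at h1
    simp at h1
  obtain ⟨w, hw, hQw, hBw⟩ := hsing
  refine ⟨quadStab ρ Q₀, quadStab ρ Q₁, hne Q₀ hQ₀ ⟨w, hw, hQw⟩,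
    hne Q₁ hQ₁' ⟨w, hw, by simp [hQ₁, hQw, hBw]⟩, fun g c hg => ?_, fun g => ?_⟩
  · -- a scalar isometry is trivial in characteristic two
    obtain ⟨y, hy⟩ := AltForm.exists_eq_one hB hw
    have h1 := hmem g w y
    rw [hg, hg, map_smul, map_smul, LinearMap.smul_apply, hy, smul_eq_mul, smul_eq_mul,
      mul_one] at h1
    have hc : c = 1 := by
      apply frobenius_inj F 2
      rw [frobenius_def, frobenius_def, one_pow, sq]
      exact h1
    have hfix : ∀ x, ρ g x = x := fun x => by rw [hg, hc, one_smul]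
    exact ⟨fun x => by rw [hfix], fun x => by rw [hfix]⟩
  obtain ⟨u, hu⟩ := exists_fixed_polarisation hB hQ₀ (hmem g)
  have hconj : ∀ (Q : V → F) (v : V), Polarises B Q →
      (∀ x, Q x + B x v ^ 2 = Q₀ x + B x u ^ 2) → ArtinSchreier (Q v) →
      ∃ x : G, x * g * x⁻¹ ∈ quadStab ρ Q := by
    intro Q v hQ hQv hv
    obtain ⟨T, hT, hTQ⟩ := exists_isometry_shift hQ hA hv
    obtain ⟨x, hx⟩ := hsurj T hT
    refine ⟨x, fun y => ?_⟩
    obtain ⟨z, rfl⟩ := (ρ x).surjective y
    rw [rho_conj_apply, hx, hTQ, hTQ, hQv, hQv, hu]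
  by_cases hu' : ArtinSchreier (Q₀ u)
  · obtain ⟨x, hx⟩ := hconj Q₀ u hQ₀ (fun _ => rfl) hu'
    exact ⟨x, Or.inl hx⟩
  · obtain ⟨x, hx⟩ := hconj Q₁ (u + u₀) hQ₁' (fun x => by
      simp only [hQ₁, map_add, CharTwo.add_sq]
      linear_combination (B x u₀ ^ 2) * (CharTwo.two_eq_zero (R := F))) (by
      obtain ⟨s, hs⟩ := artinSchreier_add hu' hu₀
      refine ⟨s + B u u₀, ?_⟩
      simp only [hQ₁]
      rw [hQ₀.2, map_add, LinearMap.add_apply, hA.self_eq_zero, add_zero, CharTwo.add_sq]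
      linear_combination hs)
    exact ⟨x, Or.inr hx⟩

/-- the standard split quadratic form -/
def splitQuad (m : ℕ) (F : Type u) [Field F] (v : Fin m ⊕ Fin m → F) : F :=
  ∑ i, v (Sum.inl i) * v (Sum.inr i)

omit [Finite F] [CharP F 2] in
theorem polarises_splitQuad (h2 : (2 : F) = 0) (m : ℕ) :
    Polarises (ClassicalSp.spBilin m F) (splitQuad m F) := by
  have hneg : ∀ a : F, -a = a := fun a => by linear_combination (-a) * h2
  refine ⟨fun c x => ?_, fun x y => ?_⟩
  · simp only [splitQuad, Pi.smul_apply, smul_eq_mul, Finset.mul_sum]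
    exact Finset.sum_congr rfl fun i _ => by ring
  · rw [ClassicalSp.spBilin_apply, ClassicalSp.sympForm_eq, Matrix.J, Matrix.fromBlocks_mulVec,
      dotProduct, Fintype.sum_sum_type]
    simp only [splitQuad, Pi.add_apply, Sum.elim_inl, Sum.elim_inr, Matrix.zero_mulVec,
      Matrix.neg_mulVec, Matrix.one_mulVec, Pi.zero_apply, Pi.neg_apply, zero_add, add_zero,
      Function.comp_apply, hneg, ← Finset.sum_add_distrib]
    exact Finset.sum_congr rfl fun i _ => by ring

omit [FiniteDimensional F V] in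
/-- the projective symplectic groups in characteristic two are covered by two classes -/
theorem covered_psp_two {m : ℕ} (hm : 2 ≤ m) : Covered (Cfsg.PSp m F) := by
  classical
  obtain ⟨d, hd⟩ := exists_not_artinSchreier (F := F)
  let i₀ : Fin m := ⟨0, by omega⟩
  let i₁ : Fin m := ⟨1, by omega⟩
  have h01 : i₀ ≠ i₁ := by simp [i₀, i₁, Fin.ext_iff]
  let u₀ : Fin m ⊕ Fin m → F := Pi.single (Sum.inl i₀) d + Pi.single (Sum.inr i₀) 1
  let w : Fin m ⊕ Fin m → F := Pi.single (Sum.inl i₁) 1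
  refine covered_of_coveredMod _ ?_ (coveredMod_symp_two ClassicalSp.spBilin_nondeg
    ClassicalSp.spBilin_isAlt (polarises_splitQuad CharTwo.two_eq_zero m) (u₀ := u₀) ?_ ⟨w, ?_, ?_, ?_⟩
    ClassicalSp.toEquiv ClassicalSp.toEquiv_mem fun P hP => ClassicalSp.toEquiv_surj hP)
  · intro g hg
    have hc : ClassicalSp.spEquiv g ∈
        Subgroup.center (AltForm.isoGroup (ClassicalSp.spBilin m F)) := by
      rw [Subgroup.mem_center_iff]
      intro k
      obtain ⟨k, rfl⟩ := (ClassicalSp.spEquiv (m := m) (F := F)).surjective k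
      rw [← map_mul, ← map_mul, Subgroup.mem_center_iff.1 hg k]
    rcases (ClassicalSp.isoGroup_mem_center_iff (by omega) _).1 hc with h | h
    · exact ⟨1, fun v => by rw [one_smul]; exact h v⟩
    · exact ⟨-1, fun v => by rw [neg_smul, one_smul]; exact h v⟩
  · convert hd
    simp [splitQuad, u₀, Pi.single_apply, Finset.sum_eq_single i₀]
  · intro h
    simpa [w] using congrFun h (Sum.inl i₁)
  · simp [splitQuad, w]
  · rw [ClassicalSp.spBilin_apply, ClassicalSp.sympForm_eq, Matrix.J, Matrix.fromBlocks_mulVec,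
      dotProduct, Fintype.sum_sum_type]
    simp [w, u₀, Pi.single_apply, Matrix.neg_mulVec, h01, h01.symm]

end Cfsg.Agent.UnionTwoClasses
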