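import Cfsg.Agent.Lib.UnionTwoClasses.Basic

/-!
# The linear groups of degree two, three and four as unions of two classes of subgroups

An element without eigenvector commutes with a root of a fixed irreducible polynomial.
-/

set_option autoImplicit false

namespace Cfsg.Agent.UnionTwoClasses

open Polynomial Module

variable {F : Type*} [Field F]

/-- an irreducible polynomial of each degree -/
theorem exists_irreducible_monic [Finite F] (d : ℕ) [NeZero d] :
    ∃ p : F[X], p.Monic ∧ Irreducible p ∧ p.natDegree = d := by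
  obtain ⟨r, hr⟩ := CharP.exists F
  haveI : CharP F r := hr
  haveI : Fact r.Prime := ⟨CharP.char_is_prime F r⟩
  obtain ⟨x, hx⟩ := Field.exists_primitive_element F (FiniteField.Extension F r d)
  have hi : IsIntegral F x := Algebra.IsIntegral.isIntegral x
  refine ⟨minpoly F x, minpoly.monic hi, minpoly.irreducible hi, ?_⟩
  rw [← IntermediateField.adjoin.finrank hi, hx, IntermediateField.finrank_top',
    FiniteField.finrank_extension]

/-- a root of `p` modulo an irreducible polynomial of suitable degree -/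
theorem exists_root_mod_irreducible [Finite F] {p a : F[X]} (hp : p.Monic) (hpi : Irreducible p)
    (ha : a.Monic) (hai : Irreducible a) (hdvd : p.natDegree ∣ a.natDegree) :
    ∃ r : F[X], a ∣ p.comp r := by
  haveI : Fact (Irreducible p) := ⟨hpi⟩
  haveI : Fact (Irreducible a) := ⟨hai⟩
  haveI : Module.Finite F (AdjoinRoot a) := ha.finite_adjoinRoot
  haveI : Finite (AdjoinRoot a) := Module.finite_of_finite F
  obtain ⟨ψ⟩ := FiniteField.nonempty_algHom_of_finrank_dvd (F := F) (K := AdjoinRoot p)
    (L := AdjoinRoot a) (by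
      rw [(AdjoinRoot.powerBasis hpi.ne_zero).finrank, (AdjoinRoot.powerBasis hai.ne_zero).finrank,
        AdjoinRoot.powerBasis_dim, AdjoinRoot.powerBasis_dim]
      exact hdvd)
  obtain ⟨r, hr⟩ := AdjoinRoot.mk_surjective (ψ (AdjoinRoot.root p))
  refine ⟨r, ?_⟩
  rw [← AdjoinRoot.mk_eq_zero, ← AdjoinRoot.aeval_eq, Polynomial.aeval_comp, AdjoinRoot.aeval_eq,
    hr, Polynomial.aeval_algHom_apply, AdjoinRoot.aeval_eq, AdjoinRoot.mk_self, map_zero]

/-- a root of `p` modulo a product of two coprime polynomials -/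
theorem exists_root_mod_mul {p a b : F[X]} (hab : IsCoprime a b) {r s : F[X]}
    (hr : a ∣ p.comp r) (hs : b ∣ p.comp s) : ∃ t : F[X], a * b ∣ p.comp t := by
  obtain ⟨u, v, huv⟩ := hab
  refine ⟨s * (u * a) + r * (v * b), IsCoprime.mul_dvd ⟨u, v, huv⟩ ?_ ?_⟩
  · refine (dvd_iff_dvd_of_dvd_sub ?_).2 hr
    have h : a ∣ s * (u * a) + r * (v * b) - r :=
      ⟨(s - r) * u, by linear_combination r * huv⟩
    have h2 := sub_dvd_eval_sub (s * (u * a) + r * (v * b)) r (p.map C)
    rw [eval_map, eval_map] at h2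
    exact h.trans h2
  · refine (dvd_iff_dvd_of_dvd_sub ?_).2 hs
    have h : b ∣ s * (u * a) + r * (v * b) - s :=
      ⟨(r - s) * v, by linear_combination s * huv⟩
    have h2 := sub_dvd_eval_sub (s * (u * a) + r * (v * b)) s (p.map C)
    rw [eval_map, eval_map] at h2
    exact h.trans h2

variable {V : Type*} [AddCommGroup V] [Module F V] [FiniteDimensional F V]

/-- A degree two, three or four endomorphism without eigenvector commutes with a root of `p`. -/
theorem exists_commute_root [Finite F] {n : ℕ} (hn2 : 2 ≤ n) (hn4 : n ≤ 4)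
    (hdim : finrank F V = n) {p : F[X]} (hp : p.Monic) (hpi : Irreducible p)
    (hpd : p.natDegree = if n = 4 then 2 else n)
    (g : Module.End F V) (hg : ∀ v : V, v ≠ 0 → ∀ c : F, g v ≠ c • v) :
    ∃ y : Module.End F V, aeval y p = 0 ∧ Commute g y := by
  classical
  haveI := Fintype.ofFinite F
  obtain ⟨f, hf⟩ : ∃ f, f = g.charpoly := ⟨_, rfl⟩
  have hfm : f.Monic := hf ▸ g.charpoly_monic
  have hfd : f.natDegree = n := by rw [hf, g.charpoly_natDegree, hdim]
  have hfg : aeval g f = 0 := hf ▸ g.aeval_self_charpoly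
  have hroot : ∀ c : F, ¬ f.IsRoot c := by
    intro c hc
    rw [hf, ← Module.End.hasEigenvalue_iff_isRoot_charpoly] at hc
    obtain ⟨v, hv⟩ := hc.exists_hasEigenvector
    exact hg v hv.2 c hv.apply_eq_smul
  -- a polynomial in `g` killed by `a`, and a root of `p` modulo `a`
  have key : ∀ (a q : F[X]), aeval (aeval g q) a = 0 → (∃ r, a ∣ p.comp r) →
      ∃ y : Module.End F V, aeval y p = 0 ∧ Commute g y := by
    rintro a q ha ⟨r, hr⟩
    refine ⟨aeval (aeval g q) r, ?_, ?_⟩
    · obtain ⟨w, hw⟩ := hr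
      rw [← Polynomial.aeval_comp, hw, map_mul, ha, zero_mul]
    · rw [← Polynomial.aeval_comp]
      nth_rewrite 1 [show g = aeval g (X : F[X]) from (aeval_X g).symm]
      exact (Commute.all X _).map (aeval g)
  have hXg : aeval (aeval g (X : F[X])) f = 0 := by rw [aeval_X, hfg]
  by_cases h4 : n = 4
  swap
  · have hfi : Irreducible f := irreducible_of_degree_le_three_of_not_isRoot
      (Finset.mem_Icc.2 ⟨by omega, by omega⟩) hroot
    refine key f X hXg (exists_root_mod_irreducible hp hpi hfm hfi ?_)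
    rw [hpd, if_neg h4, hfd]
  subst h4
  rw [if_pos rfl] at hpd
  by_cases hfi : Irreducible f
  · exact key f X hXg (exists_root_mod_irreducible hp hpi hfm hfi (by rw [hpd, hfd]; norm_num))
  have hne1 : f ≠ 1 := fun e => by rw [e, natDegree_one] at hfd; omega
  obtain ⟨a, b, ha, hb, hab, hda, hdb⟩ : ∃ a b : F[X], a.Monic ∧ b.Monic ∧ a * b = f ∧
      a.natDegree ≠ 0 ∧ b.natDegree ≠ 0 := by
    have := (hfm.irreducible_iff_natDegree).not.1 hfi
    push Not at this
    exact this hne1
  have hsum : a.natDegree + b.natDegree = 4 := by rw [← ha.natDegree_mul hb, hab, hfd]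
  have hroota : ∀ c : F, ¬ a.IsRoot c := fun c hc => hroot c (hc.dvd ⟨b, hab.symm⟩)
  have hrootb : ∀ c : F, ¬ b.IsRoot c := fun c hc =>
    hroot c (hc.dvd ⟨a, by rw [mul_comm, hab]⟩)
  have hlin : ∀ u : F[X], u.Monic → u.natDegree = 1 → ∃ c : F, u.IsRoot c := fun u hu h1 =>
    ⟨-u.coeff 0, by rw [hu.eq_X_add_C h1]; simp⟩
  have hda1 : a.natDegree ≠ 1 := fun h => by
    obtain ⟨c, hc⟩ := hlin a ha h; exact hroota c hc
  have hdb1 : b.natDegree ≠ 1 := fun h => by
    obtain ⟨c, hc⟩ := hlin b hb h; exact hrootb c hc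
  have hai : Irreducible a := irreducible_of_degree_le_three_of_not_isRoot
    (Finset.mem_Icc.2 ⟨by omega, by omega⟩) hroota
  have hbi : Irreducible b := irreducible_of_degree_le_three_of_not_isRoot
    (Finset.mem_Icc.2 ⟨by omega, by omega⟩) hrootb
  have hra := exists_root_mod_irreducible hp hpi ha hai (by rw [hpd]; exact ⟨1, by omega⟩)
  by_cases hcop : a = b
  · subst hcop
    refine key a (X ^ (Fintype.card F) ^ 2) ?_ hra
    rw [← Polynomial.aeval_comp, ← Polynomial.expand_eq_comp_X_pow, sq, Polynomial.expand_mul,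
      FiniteField.expand_card, map_pow, FiniteField.expand_card, map_pow, ← pow_mul]
    have h2 : 2 ≤ Fintype.card F * Fintype.card F := by
      have := Fintype.one_lt_card (α := F)
      nlinarith
    obtain ⟨k, hk⟩ : ∃ k, Fintype.card F * Fintype.card F = 2 + k := ⟨_, (by omega : _ = 2 + (Fintype.card F * Fintype.card F - 2))⟩
    rw [hk, pow_add, ← map_pow, sq, hab, hfg, zero_mul]
  · have hco : IsCoprime a b := (hai.coprime_iff_not_dvd).2 fun hd =>
      hcop (Polynomial.eq_of_monic_of_associated ha hb (hai.associated_of_dvd hbi hd))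
    obtain ⟨r, hr⟩ := hra
    obtain ⟨s, hs⟩ := exists_root_mod_irreducible hp hpi hb hbi (by rw [hpd]; exact ⟨1, by omega⟩)
    refine key f X hXg ?_
    rw [← hab]
    exact exists_root_mod_mul hco hr hs

section fields

variable {L : Type*} [Field L] [Algebra F L] [Module.Finite F L]

omit [Module.Finite F L] in
/-- an action of a field is a free module -/
theorem exists_model (ι : L →ₐ[F] Module.End F V) :
    ∃ (k : ℕ) (e : (Fin k → L) ≃ₗ[F] V), ∀ (l : L) (x : Fin k → L), e (l • x) = ι l (e x) := by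
  letI : Module L V := Module.compHom V ι.toRingHom
  haveI : IsScalarTower F L V := ⟨fun c l v => by
    show ι (c • l) v = c • ι l v
    rw [map_smul]; rfl⟩
  haveI : Module.Finite L V := Module.Finite.of_restrictScalars_finite F L V
  let b := Module.finBasis L V
  exact ⟨_, b.equivFun.symm.restrictScalars F, fun l x => b.equivFun.symm.map_smul l x⟩

/-- two actions of a finite field are conjugate by a map of determinant one -/
theorem exists_conj [Finite F] [Nontrivial V] (ι ι' : L →ₐ[F] Module.End F V) :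
    ∃ P : V ≃ₗ[F] V, LinearMap.det (P : Module.End F V) = 1 ∧
      ∀ (l : L) (v : V), P (ι l v) = ι' l (P v) := by
  classical
  haveI : Finite L := Module.finite_of_finite F
  obtain ⟨k, e, he⟩ := exists_model ι
  obtain ⟨k', e', he'⟩ := exists_model ι'
  have hk : k = k' := by
    have h1 := e.finrank_eq
    rw [← e'.finrank_eq, Module.finrank_pi_fintype, Module.finrank_pi_fintype] at h1
    simpa [(Module.finrank_pos (R := F) (M := L)).ne'] using h1
  subst hk
  have hkpos : 0 < k := by
    by_contra h0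
    have : k = 0 := by omega
    subst this
    have := e.symm.toEquiv.subsingleton
    exact not_subsingleton V this
  obtain ⟨P0, hP0⟩ : ∃ P0 : V ≃ₗ[F] V, P0 = e.symm.trans e' := ⟨_, rfl⟩
  obtain ⟨l₀, hl₀⟩ := FiniteField.norm_surjective F L
    (LinearMap.det (P0 : Module.End F V))⁻¹
  have hl0ne : l₀ ≠ 0 := by
    intro h
    rw [h, Algebra.norm_zero] at hl₀
    exact inv_ne_zero P0.isUnit_det'.ne_zero hl₀.symm
  obtain ⟨d, hd⟩ : ∃ d : Fin k → L, d = Function.update (fun _ => 1) ⟨0, hkpos⟩ l₀ := ⟨_, rfl⟩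
  have hdne : ∀ i, d i ≠ 0 := by
    intro i
    rw [hd]
    rcases eq_or_ne i ⟨0, hkpos⟩ with rfl | hi
    · simpa using hl0ne
    · simp [hi]
  let T : (Fin k → L) ≃ₗ[L] (Fin k → L) :=
    LinearEquiv.piCongrRight fun i => LinearEquiv.smulOfUnit (Units.mk0 (d i) (hdne i))
  have hT : (T : (Fin k → L) →ₗ[L] (Fin k → L)) = Matrix.toLin' (Matrix.diagonal d) := by
    refine LinearMap.ext fun x => funext fun i => ?_
    rw [Matrix.toLin'_apply, Matrix.mulVec_diagonal]
    rfl
  have hdetT : LinearMap.det ((T.restrictScalars F : (Fin k → L) ≃ₗ[F] (Fin k → L)) :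
      Module.End F (Fin k → L)) = Algebra.norm F l₀ := by
    show LinearMap.det ((T : (Fin k → L) →ₗ[L] (Fin k → L)).restrictScalars F) = _
    rw [LinearMap.det_restrictScalars, hT, LinearMap.det_toLin', Matrix.det_diagonal, hd,
      Finset.prod_update_of_mem (Finset.mem_univ _)]
    simp
  refine ⟨(e.symm.trans (T.restrictScalars F)).trans e', ?_, fun l v => ?_⟩
  · have : (((e.symm.trans (T.restrictScalars F)).trans e' : V ≃ₗ[F] V) : Module.End F V) =
        (P0 : Module.End F V).comp ((e : (Fin k → L) →ₗ[F] V).comp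
          (((T.restrictScalars F : (Fin k → L) ≃ₗ[F] (Fin k → L)) : Module.End F (Fin k → L)).comp
            (e.symm : V →ₗ[F] (Fin k → L)))) := by
      refine LinearMap.ext fun v => ?_
      simp [hP0]
    rw [this, LinearMap.det_comp, LinearMap.det_conj, hdetT, hl₀,
      mul_inv_cancel₀ P0.isUnit_det'.ne_zero]
  · obtain ⟨x, rfl⟩ := e.surjective v
    simp only [LinearEquiv.trans_apply, LinearEquiv.restrictScalars_apply]
    rw [← he, LinearEquiv.symm_apply_apply, LinearEquiv.symm_apply_apply, map_smul, he']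

end fields

/-- the action of the field of a root -/
noncomputable def rootHom {p : F[X]} (y : Module.End F V) (hy : aeval y p = 0) :
    AdjoinRoot p →ₐ[F] Module.End F V :=
  Ideal.Quotient.liftₐ (Ideal.span {p}) (aeval y) fun a ha => by
    obtain ⟨b, rfl⟩ := Ideal.mem_span_singleton.1 ha
    rw [map_mul, hy, zero_mul]

omit [FiniteDimensional F V] in
theorem rootHom_root {p : F[X]} (y : Module.End F V) (hy : aeval y p = 0) :
    rootHom y hy (AdjoinRoot.root p) = y := aeval_X y

/-- an endomorphism without eigenvectors that is killed by `p` -/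
theorem exists_root_end {p : F[X]} (hp : p.Monic) (hpi : Irreducible p) (hd : 2 ≤ p.natDegree)
    {k : ℕ} (hk : finrank F V = k * p.natDegree) :
    ∃ J : Module.End F V, aeval J p = 0 ∧ ∀ v : V, v ≠ 0 → ∀ c : F, J v ≠ c • v := by
  haveI : Fact (Irreducible p) := ⟨hpi⟩
  haveI : Module.Finite F (AdjoinRoot p) := hp.finite_adjoinRoot
  let e : (Fin k → AdjoinRoot p) ≃ₗ[F] V := LinearEquiv.ofFinrankEq _ _ (by
    rw [Module.finrank_pi_fintype, (AdjoinRoot.powerBasis hpi.ne_zero).finrank,
      AdjoinRoot.powerBasis_dim, hk]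
    simp)
  let ι : AdjoinRoot p →ₐ[F] Module.End F V :=
    (e.conjAlgEquiv F).toAlgHom.comp (Algebra.lsmul F F (Fin k → AdjoinRoot p))
  refine ⟨ι (AdjoinRoot.root p), ?_, fun v hv c h => ?_⟩
  · rw [Polynomial.aeval_algHom_apply, AdjoinRoot.aeval_eq, AdjoinRoot.mk_self, map_zero]
  have hne : AdjoinRoot.root p - algebraMap F (AdjoinRoot p) c ≠ 0 := by
    intro h0
    have h1 : p ∣ X - C c := by
      rw [← AdjoinRoot.mk_eq_zero, map_sub, AdjoinRoot.mk_X, AdjoinRoot.mk_C]
      exact h0
    have := natDegree_le_of_dvd h1 (X_sub_C_ne_zero c)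
    rw [natDegree_X_sub_C] at this
    omega
  apply hv
  have h2 : ι (AdjoinRoot.root p - algebraMap F (AdjoinRoot p) c) v = 0 := by
    rw [map_sub, AlgHom.commutes, LinearMap.sub_apply, Module.algebraMap_end_apply, h, sub_self]
  have h3 := congrArg (ι (AdjoinRoot.root p - algebraMap F (AdjoinRoot p) c)⁻¹) h2
  rw [← Module.End.mul_apply, ← map_mul, inv_mul_cancel₀ hne, map_one, map_zero] at h3
  exact h3

/-- moving a non-zero vector into a line by a map of determinant one -/
theorem exists_det_one_line {v e : V} (hv : v ≠ 0) (he : e ≠ 0) :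
    ∃ P : V ≃ₗ[F] V, LinearMap.det (P : Module.End F V) = 1 ∧ P v ∈ Submodule.span F {e} := by
  by_cases hve : v ∈ Submodule.span F {e}
  · exact ⟨LinearEquiv.refl F V, by simp, hve⟩
  have hnot : v ∉ Submodule.span F {e - v} := by
    intro h
    obtain ⟨a, ha⟩ := Submodule.mem_span_singleton.1 h
    have ha0 : a ≠ 0 := by rintro rfl; exact hv (by simpa using ha.symm)
    have ha1 : a + 1 ≠ 0 := by
      intro h1
      have h2 : a • e = 0 := by
        have : a • e = (a + 1) • v := by rw [add_smul, one_smul, ← sub_eq_iff_eq_add', ← smul_sub, ha]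
        rw [this, h1, zero_smul]
      exact he ((smul_eq_zero.1 h2).resolve_left ha0)
    refine hve (Submodule.mem_span_singleton.2 ⟨(a + 1)⁻¹ * a, ?_⟩)
    rw [mul_smul, inv_smul_eq_iff₀ ha1, add_smul, one_smul, ← sub_eq_iff_eq_add', ← smul_sub, ha]
  obtain ⟨φ, hφv, hφ⟩ := Submodule.exists_dual_map_eq_bot_of_notMem hnot inferInstance
  have hφw : ((φ v)⁻¹ • φ) (e - v) = 0 := by
    have : φ (e - v) ∈ (Submodule.span F {e - v}).map φ :=
      Submodule.mem_map_of_mem (Submodule.mem_span_singleton_self _)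
    rw [hφ, Submodule.mem_bot] at this
    simp [this]
  refine ⟨LinearEquiv.transvection hφw, ?_, ?_⟩
  · rw [← LinearEquiv.coe_det, LinearEquiv.transvection.det_eq_one]; rfl
  · rw [LinearEquiv.transvection.apply, LinearMap.smul_apply, smul_eq_mul, inv_mul_cancel₀ hφv,
      one_smul, add_sub_cancel]
    exact Submodule.mem_span_singleton_self e

/-- the linear groups of degree two, three and four are covered by two classes -/
theorem coveredMod_linear [Finite F] {n : ℕ} (hn2 : 2 ≤ n) (hn4 : n ≤ 4)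
    (hdim : finrank F V = n) {G : Type*} [Group G] (ρ : G →* (V ≃ₗ[F] V))
    (hsurj : ∀ P : V ≃ₗ[F] V, LinearMap.det (P : Module.End F V) = 1 → ∃ g, ρ g = P) :
    CoveredMod ρ := by
  classical
  haveI : Nontrivial V := Module.nontrivial_of_finrank_pos (R := F) (by omega)
  haveI : NeZero (if n = 4 then 2 else n) := ⟨by split_ifs <;> omega⟩
  obtain ⟨p, hp, hpi, hpd⟩ := exists_irreducible_monic (F := F) (if n = 4 then 2 else n)
  obtain ⟨J, hJ, hJv⟩ := exists_root_end (V := V) hp hpi (by rw [hpd]; split_ifs <;> omega)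
    (k := if n = 4 then 2 else 1) (by rw [hdim, hpd]; split_ifs <;> omega)
  obtain ⟨b⟩ : Nonempty (Basis (Fin n) F V) := ⟨Module.finBasisOfFinrankEq F V hdim⟩
  obtain ⟨i, j, hij⟩ : ∃ i j : Fin n, i ≠ j :=
    ⟨⟨0, by omega⟩, ⟨1, by omega⟩, by simp [Fin.ext_iff]⟩
  have hfv : b.coord i (b j) = 0 := by simp [Basis.coord_apply, hij.symm]
  obtain ⟨t, ht⟩ := hsurj (LinearEquiv.transvection hfv) (by
    rw [← LinearEquiv.coe_det, LinearEquiv.transvection.det_eq_one]; rfl)
  have htv : ∀ v, ρ t v = v + b.coord i v • b j := fun v => by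
    rw [ht, LinearEquiv.transvection.apply]
  refine ⟨setStab ρ (Submodule.span F {b i} : Submodule F V), commutant ρ J, ?_, ?_,
    fun g c hg => ⟨scalar_mem_setStab _ hg, scalar_mem_commutant J hg⟩, fun g => ?_⟩
  · refine setStab_ne_top t (Submodule.mem_span_singleton_self (b i)) ?_
    rw [htv, SetLike.mem_coe, Submodule.mem_span_singleton]
    rintro ⟨a, ha⟩
    have := congrArg (b.coord j) ha
    simp [Basis.coord_apply, hij, hij.symm] at this
  · exact commutant_ne_top ρ hJv t (b j) (b.coord i) (b.ne_zero j)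
      (fun h => by simpa [Basis.coord_apply] using LinearMap.congr_fun h (b i)) htv
  by_cases heig : ∃ v : V, v ≠ 0 ∧ ∃ c : F, ρ g v = c • v
  · obtain ⟨v, hv, c, hc⟩ := heig
    obtain ⟨P, hP, hPv⟩ := exists_det_one_line (F := F) hv (b.ne_zero i)
    obtain ⟨x, hx⟩ := hsurj P hP
    refine ⟨x, Or.inl (conj_mem_setStab_of_le (S' := Submodule.span F {v}) ?_ ?_ ?_)⟩
    · intro w hw
      obtain ⟨a, rfl⟩ := Submodule.mem_span_singleton.1 hw
      rw [map_smul, hc]
      exact Submodule.smul_mem _ _ (Submodule.smul_mem _ _ (Submodule.mem_span_singleton_self v))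
    · intro w hw
      obtain ⟨a, rfl⟩ := Submodule.mem_span_singleton.1 hw
      rw [map_smul, hx]
      exact Submodule.smul_mem _ _ hPv
    · rw [finrank_span_singleton hv, finrank_span_singleton (b.ne_zero i)]
  · push Not at heig
    obtain ⟨y, hy, hgy⟩ := exists_commute_root hn2 hn4 hdim hp hpi hpd (ρ g : Module.End F V) heig
    haveI : Fact (Irreducible p) := ⟨hpi⟩
    haveI : Module.Finite F (AdjoinRoot p) := hp.finite_adjoinRoot
    obtain ⟨P, hP, hPy⟩ := exists_conj (rootHom y hy) (rootHom J hJ)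
    obtain ⟨x, hx⟩ := hsurj P hP
    refine ⟨x, Or.inr (conj_mem_commutant (Y := y) (fun v => LinearMap.congr_fun hgy.eq v)
      fun v => ?_)⟩
    have := hPy (AdjoinRoot.root p) v
    rw [rootHom_root, rootHom_root] at this
    rw [hx, this]

end Cfsg.Agent.UnionTwoClasses
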