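import Cfsg.Agent.Lib.UnionTwoClasses.Symp6Normal
import Cfsg.Agent.Lib.UnionTwoClasses.Linear

/-!
# The symplectic group of degree six in characteristic three as a union of two classes of subgroups

The form is the trace of the standard form on the plane over the cubic extension; an isometry fixes
a non-degenerate plane or is conjugate to one normalising the scalars of that extension.
-/

set_option autoImplicit false

namespace Cfsg.Agent.UnionTwoClasses

open Polynomial Module
open LinearMap (BilinForm)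

variable {F : Type*} [Field F] [Finite F] [CharP F 3] {L : Type*} [Field L] [Algebra F L]
  [Module.Finite F L]

/-- the trace of the standard alternating form on `L × L` -/
noncomputable def traceSymp (F L : Type*) [Field F] [Field L] [Algebra F L] : BilinForm F (L × L) :=
  LinearMap.mk₂ F (fun u v => Algebra.trace F L (u.1 * v.2 - u.2 * v.1))
    (fun u u' v => by rw [← map_add]; congr 1; simp only [Prod.fst_add, Prod.snd_add]; ring)
    (fun c u v => by
      rw [← map_smul]; congr 1; simp only [Prod.smul_fst, Prod.smul_snd, smul_mul_assoc, smul_sub])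
    (fun u v v' => by rw [← map_add]; congr 1; simp only [Prod.fst_add, Prod.snd_add]; ring)
    (fun c u v => by
      rw [← map_smul]; congr 1; simp only [Prod.smul_fst, Prod.smul_snd, mul_smul_comm, smul_sub])

omit [Finite F] [CharP F 3] [Module.Finite F L] in
theorem traceSymp_apply (u v : L × L) :
    traceSymp F L u v = Algebra.trace F L (u.1 * v.2 - u.2 * v.1) := rfl

omit [Finite F] [CharP F 3] [Module.Finite F L] in
theorem traceSymp_isAlt : (traceSymp F L).IsAlt := fun u => by
  rw [traceSymp_apply, mul_comm u.1, sub_self, map_zero]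

omit [CharP F 3] in
theorem traceSymp_nondeg : (traceSymp F L).Nondegenerate := by
  have key : ∀ u : L × L, (∀ v, traceSymp F L u v = 0) → u = 0 := by
    intro u hu
    refine Prod.ext ?_ ?_
    · refine (traceForm_nondegenerate F L).1 _ fun w => ?_
      have := hu (0, w)
      simpa [traceSymp_apply] using this
    · refine (traceForm_nondegenerate F L).1 _ fun w => ?_
      have := hu (w, 0)
      simpa [traceSymp_apply] using this
  exact ⟨key, fun v hv => key v fun u => (traceSymp_isAlt (F := F) (L := L)).isRefl _ _ (hv u)⟩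

/-- the scalars of the extension as endomorphisms -/
noncomputable def scalarEnd (F L : Type*) [Field F] [Field L] [Algebra F L] :
    L →ₐ[F] Module.End F (L × L) := Algebra.lsmul F F (L × L)

omit [Finite F] [CharP F 3] [Module.Finite F L] in
theorem scalarEnd_apply (l : L) (u : L × L) : scalarEnd F L l u = l • u := rfl

/-- the covering -/
theorem coveredMod_symp_six (hL : finrank F L = 3) {G : Type*} [Group G]
    (ρ : G →* ((L × L) ≃ₗ[F] (L × L))) (hmem : ∀ g, ρ g ∈ AltForm.isoGroup (traceSymp F L))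
    (hsurj : ∀ P, P ∈ AltForm.isoGroup (traceSymp F L) → ∃ g, ρ g = P) :
    CoveredMod ρ := by
  classical
  haveI := Fintype.ofFinite F
  haveI : Finite L := Module.finite_of_finite F
  haveI := Fintype.ofFinite L
  have h3F := three_eq_zero' (F := F)
  have h2F := two_ne_zero' (F := F)
  have h3L : (3 : L) = 0 := by rw [← map_ofNat (algebraMap F L), h3F, map_zero]
  obtain ⟨B, hB⟩ : ∃ B, B = traceSymp F L := ⟨_, rfl⟩
  have hA : B.IsAlt := hB ▸ traceSymp_isAlt
  have hBn : B.Nondegenerate := hB ▸ traceSymp_nondeg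
  have hBa : ∀ u v : L × L, B u v = Algebra.trace F L (u.1 * v.2 - u.2 * v.1) := fun u v => by
    rw [hB, traceSymp_apply]
  rw [← hB] at hmem hsurj
  have hdim : finrank F (L × L) = 6 := by rw [Module.finrank_prod, hL]
  -- the Frobenius of the extension
  obtain ⟨σ, hσ⟩ : ∃ σ : L →ₐ[F] L, ∀ a, σ a = a ^ Fintype.card F :=
    ⟨FiniteField.frobeniusAlgHom F L, fun a => rfl⟩
  have hσ3 : ∀ a, σ (σ (σ a)) = a := fun a => by
    rw [hσ, hσ, hσ, ← pow_mul, ← pow_mul]
    have hc : Fintype.card L = Fintype.card F ^ 3 := by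
      rw [← Nat.card_eq_fintype_card, Module.natCard_eq_pow_finrank (K := F), hL,
        Nat.card_eq_fintype_card]
    calc a ^ (Fintype.card F * (Fintype.card F * Fintype.card F)) = a ^ Fintype.card L := by
          rw [hc]; ring_nf
      _ = a := FiniteField.pow_card a
  obtain ⟨sL, hsL⟩ : ∃ sL : L ≃ₐ[F] L, ∀ a, sL a = σ a :=
    ⟨AlgEquiv.ofAlgHom σ (σ.comp σ) (AlgHom.ext hσ3) (AlgHom.ext hσ3), fun a => rfl⟩
  have htrσ : ∀ a, Algebra.trace F L (σ a) = Algebra.trace F L a := fun a => by
    rw [← hsL]; exact Algebra.trace_eq_of_algEquiv sL a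
  have hTr : ∀ a, algebraMap F L (Algebra.trace F L a) = a + σ a + σ (σ a) := fun a => by
    rw [FiniteField.algebraMap_trace_eq_sum_pow, hL, Finset.sum_range_succ, Finset.sum_range_succ,
      Finset.sum_range_succ, Finset.sum_range_zero, Nat.card_eq_fintype_card, hσ, hσ, ← pow_mul]
    ring
  obtain ⟨c₀, hc₀⟩ := Algebra.trace_surjective F L 1
  -- the scalars
  obtain ⟨A, hA'⟩ : ∃ A, A = LinearMap.range (scalarEnd F L).toLinearMap := ⟨_, rfl⟩
  have hAinv : ∀ X ∈ A, X ≠ 0 → Function.Injective X := by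
    rintro X hX hX0
    rw [hA'] at hX
    obtain ⟨l, rfl⟩ := hX
    have hl : l ≠ 0 := fun h0 => hX0 (by rw [h0, map_zero])
    exact fun u v huv => smul_right_injective (L × L) hl huv
  have hmemK : ∀ (x : G) (P : (L × L) ≃ₗ[F] (L × L)), ρ x = P →
      (∀ l : L, ∃ l' : L, ∀ v, P (l • v) = l' • P v) → x ∈ lineNormal ρ A := by
    intro x P hx hP
    refine mem_lineNormal_of_le fun X hX => ?_
    rw [hA'] at hX ⊢
    obtain ⟨l, rfl⟩ := hX
    obtain ⟨l', hl'⟩ := hP l
    refine ⟨l', LinearMap.ext fun v => ?_⟩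
    obtain ⟨u, rfl⟩ := P.surjective v
    rw [LinearEquiv.conj_apply_apply, hx, LinearEquiv.symm_apply_apply]
    exact (hl' u).symm
  have conjK : ∀ (g : G) (P M : (L × L) ≃ₗ[F] (L × L)), P ∈ AltForm.isoGroup B →
      (∀ v, P (ρ g v) = M (P v)) → (∀ l : L, ∃ l' : L, ∀ v, M (l • v) = l' • M v) →
      ∃ x : G, x * g * x⁻¹ ∈ lineNormal ρ A := by
    intro g P M hP hPM hM
    obtain ⟨x, hx⟩ := hsurj P hP
    refine ⟨x, hmemK _ M (LinearEquiv.ext fun v => ?_) hM⟩
    obtain ⟨u, rfl⟩ := (ρ x).surjective v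
    rw [rho_conj_apply, hx, hPM]
  -- model elements with prescribed trace `r`
  have models : ∀ r : F, ∃ (M : (L × L) ≃ₗ[F] (L × L)) (y : L × L), M ∈ AltForm.isoGroup B ∧
      (∀ (l : L) v, M (l • v) = σ l • M v) ∧
      aeval (plusInv M) ((X - C r) ^ 3) = 0 ∧ orbitFun B M y ((X - C r) ^ 2) ≠ 0 := by
    intro r
    obtain ⟨R, hR⟩ : ∃ R, R = algebraMap F L r := ⟨_, rfl⟩
    have hσR : σ R = R := by rw [hR, AlgHom.commutes]
    have hRs : ∀ a : L, r • a = R * a := fun a => by rw [hR, Algebra.smul_def]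
    by_cases hr : r * r = 1
    · obtain ⟨θ, hθ⟩ : ∃ θ : L, Algebra.trace F L θ = 1 := ⟨c₀, hc₀⟩
      obtain ⟨e, he⟩ : ∃ e : L, e = -R := ⟨_, rfl⟩
      have hee : e * e = 1 := by
        rw [he, neg_mul_neg, hR, ← map_mul, hr, map_one]
      have hσe : σ e = e := by rw [he, map_neg, hσR]
      have hRe : R = e + e := by rw [he]; linear_combination R * h3L
      have hes : ∀ a : L, (-r) • a = e * a := fun a => by rw [neg_smul, hRs, he, neg_mul]
      obtain ⟨M, hM, hMi⟩ : ∃ M : (L × L) ≃ₗ[F] (L × L),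
          (∀ u v, M (u, v) = (e * (σ u + θ * σ v), e * σ v)) ∧
            ∀ u v, M.symm (u, v) = (e * σ (σ (u - θ * v)), e * σ (σ v)) :=
        ⟨{ toFun := fun p => (e * (σ p.1 + θ * σ p.2), e * σ p.2)
           invFun := fun p => (e * σ (σ (p.1 - θ * p.2)), e * σ (σ p.2))
           map_add' := fun p p' => by ext <;> simp <;> ring
           map_smul' := fun c p => by ext <;> simp [Algebra.smul_def] <;> ring
           left_inv := fun p => by
             ext
             · simp [hσe, hσ3]
               linear_combination p.1 * hee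
             · simp [hσe, hσ3]
               linear_combination p.2 * hee
           right_inv := fun p => by
             ext
             · simp [hσe, hσ3]
               linear_combination p.1 * hee
             · simp [hσe, hσ3]
               linear_combination p.2 * hee },
          fun u v => rfl, fun u v => rfl⟩
      obtain ⟨N, hN⟩ : ∃ N, N = aeval (plusInv M) (X - C r) := ⟨_, rfl⟩
      have hNx : ∀ u v, N (u, v) = (e * (u + σ u + σ (σ u) + θ * σ v - σ (σ (θ * v))),
          e * (v + σ v + σ (σ v))) := by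
        intro u v
        rw [hN, map_sub, aeval_X, aeval_C, LinearMap.sub_apply, plusInv_apply,
          Module.algebraMap_end_apply, hM, hMi, Prod.smul_mk, hRs, hRs, hRe]
        ext
        · simp
          linear_combination (-e * u) * h3L
        · simp
          linear_combination (-e * v) * h3L
      have hN2x : ∀ u v, N (N (u, v)) =
          (algebraMap F L (Algebra.trace F L (θ * σ v - σ (σ (θ * v)))) +
            θ * algebraMap F L (Algebra.trace F L v) -
            σ (σ θ) * algebraMap F L (Algebra.trace F L v), 0) := by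
        intro u v
        rw [hNx, hNx, hTr v, hTr (θ * σ v - σ (σ (θ * v)))]
        ext
        · simp [hσe, hσ3]
          linear_combination (θ * σ v - σ (σ θ) * σ (σ v) + σ θ * σ (σ v) - θ * v + σ (σ θ) * v
            - σ θ * σ v + θ * (v + σ v + σ (σ v)) - σ (σ θ) * (v + σ v + σ (σ v))) * hee +
            (u + σ u + σ (σ u)) * e * e * h3L
        · simp only [map_add, map_sub, map_mul, hσe, hσ3]
          linear_combination (v + σ v + σ (σ v)) * e * e * h3L
      refine ⟨M, (0, c₀), ?_, fun l v => ?_, ?_, ?_⟩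
      · intro p p'
        rw [hBa, hBa, show p = (p.1, p.2) from rfl, show p' = (p'.1, p'.2) from rfl, hM, hM,
          ← htrσ (p.1 * p'.2 - p.2 * p'.1)]
        congr 1
        simp
        linear_combination (σ p.1 * σ p'.2 - σ p.2 * σ p'.1) * hee
      · rw [show v = (v.1, v.2) from rfl, Prod.smul_mk, hM, hM]
        ext <;> simp <;> ring
      · rw [pow_succ, map_mul, ← hN, pow_two, map_mul, ← hN]
        refine LinearMap.ext fun p => ?_
        show N (N (N p)) = 0
        have h1 := hNx p.1 p.2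
        rw [show N p = (e * (p.1 + σ p.1 + σ (σ p.1) + θ * σ p.2 - σ (σ (θ * p.2))),
          e * (p.2 + σ p.2 + σ (σ p.2))) from h1, hN2x, hTr, hTr]
        ext
        · simp [hσe, hσ3]
          linear_combination (e * (θ - σ (σ θ)) * (p.2 + σ p.2 + σ (σ p.2))) * h3L
        · simp
      · rw [orbitFun_apply, pow_two, map_mul, ← hN, Module.End.mul_apply, hN2x, hc₀, map_one,
          mul_one, mul_one, hM, hBa]
        simp only [mul_zero, zero_mul, sub_zero, map_zero]
        intro h0
        obtain ⟨K, hK⟩ : ∃ K, K = Algebra.trace F L (θ * σ c₀ - σ (σ (θ * c₀))) := ⟨_, rfl⟩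
        have hK' : K = Algebra.trace F L (θ * σ c₀) - Algebra.trace F L (θ * c₀) := by
          rw [hK, map_sub, htrσ, htrσ]
        have h1 : Algebra.trace F L ((algebraMap F L K + θ - σ (σ θ)) * (e * σ c₀)) =
            (-r) * (K + (Algebra.trace F L (θ * σ c₀) - Algebra.trace F L (θ * σ (σ c₀)))) := by
          rw [show (algebraMap F L K + θ - σ (σ θ)) * (e * σ c₀) =
              (-r) • (K • σ c₀ + (θ * σ c₀ - σ (σ (θ * σ (σ c₀))))) by
            rw [hes, Algebra.smul_def, map_mul, map_mul, hσ3]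
            ring, map_smul, map_add, map_smul, map_sub, htrσ, htrσ, htrσ, hc₀, smul_eq_mul,
            smul_eq_mul, mul_one]
        rw [← hK, h1, hK'] at h0
        have h2 : θ * c₀ + θ * σ c₀ + θ * σ (σ c₀) = θ := by
          have h5 := hTr c₀
          rw [hc₀, map_one] at h5
          linear_combination (-θ) * h5
        have h4 := congrArg (Algebra.trace F L) h2
        rw [map_add, map_add, hθ] at h4
        exact one_ne_zero (α := F) (by
          linear_combination r * h0 - h4 + ((Algebra.trace F L (θ * σ c₀) +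
            Algebra.trace F L (θ * σ c₀) - Algebra.trace F L (θ * c₀) -
            Algebra.trace F L (θ * σ (σ c₀)))) * hr + (Algebra.trace F L (θ * σ c₀)) * h3F)
    · obtain ⟨M, hM, hMi⟩ : ∃ M : (L × L) ≃ₗ[F] (L × L),
          (∀ u v, M (u, v) = (-σ v, σ u + R * σ v)) ∧
            ∀ u v, M.symm (u, v) = (σ (σ (R * u + v)), -σ (σ u)) :=
        ⟨{ toFun := fun p => (-σ p.2, σ p.1 + R * σ p.2)
           invFun := fun p => (σ (σ (R * p.1 + p.2)), -σ (σ p.1))
           map_add' := fun p p' => by ext <;> simp <;> ring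
           map_smul' := fun c p => by ext <;> simp [Algebra.smul_def] <;> ring
           left_inv := fun p => by ext <;> simp [hσR, hσ3]
           right_inv := fun p => by ext <;> simp [hσR, hσ3] },
          fun u v => rfl, fun u v => rfl⟩
      obtain ⟨N, hN⟩ : ∃ N, N = aeval (plusInv M) (X - C r) := ⟨_, rfl⟩
      have hNx : ∀ u v, N (u, v) = (R * σ (σ u) - R * u + σ (σ v) - σ v,
          σ u - σ (σ u) + R * σ v - R * v) := by
        intro u v
        rw [hN, map_sub, aeval_X, aeval_C, LinearMap.sub_apply, plusInv_apply,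
          Module.algebraMap_end_apply, hM, hMi, Prod.smul_mk, hRs, hRs]
        ext <;> simp [hσR] <;> ring
      have hN2x : ∀ u v, N (N (u, v)) =
          ((R * R - 1) * algebraMap F L (Algebra.trace F L u),
            (R * R - 1) * algebraMap F L (Algebra.trace F L v)) := by
        intro u v
        rw [hNx, hNx, hTr, hTr]
        ext
        · simp [hσR, hσ3]
          linear_combination (-(R * R) * σ (σ u) + u + (R * σ v - R * σ (σ v))) * h3L
        · simp [hσR, hσ3]
          linear_combination (-(R * R) * σ v + v + (-(R * σ u) + R * σ (σ u))) * h3L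
      refine ⟨M, (c₀, 0), ?_, fun l v => ?_, ?_, ?_⟩
      · intro p p'
        rw [hBa, hBa, show p = (p.1, p.2) from rfl, show p' = (p'.1, p'.2) from rfl, hM, hM,
          ← htrσ (p.1 * p'.2 - p.2 * p'.1)]
        congr 1
        simp
        ring
      · rw [show v = (v.1, v.2) from rfl, Prod.smul_mk, hM, hM]
        ext <;> simp <;> ring
      · rw [pow_succ, map_mul, ← hN, pow_two, map_mul, ← hN]
        refine LinearMap.ext fun p => ?_
        show N (N (N p)) = 0
        have h1 := hNx p.1 p.2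
        rw [show N p = _ from h1, hN2x, hTr, hTr]
        ext <;> simp only [map_add, map_sub, map_mul, hσR, hσ3, LinearMap.zero_apply, Prod.fst_zero,
          Prod.snd_zero] <;> ring
      · rw [orbitFun_apply, pow_two, map_mul, ← hN, Module.End.mul_apply, hN2x, hM, hBa]
        simp only [hc₀, map_zero, neg_zero, mul_zero, add_zero, sub_zero, map_one, mul_one]
        rw [show (R * R - 1) * σ c₀ = (r * r - 1) • σ c₀ by
          rw [Algebra.smul_def, map_sub, map_mul, map_one, hR], map_smul, htrσ, hc₀, smul_eq_mul,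
          mul_one]
        exact sub_ne_zero.2 hr
  -- the fixed plane
  obtain ⟨u₀, hu₀⟩ : ∃ u₀ : L × L, u₀ = (c₀, 0) := ⟨_, rfl⟩
  obtain ⟨v₀, hv₀⟩ : ∃ v₀ : L × L, v₀ = (0, 1) := ⟨_, rfl⟩
  have huv₀ : B u₀ v₀ = 1 := by rw [hBa, hu₀, hv₀]; simp [hc₀]
  obtain ⟨d, hd0, hd⟩ : ∃ d : L, d ≠ 0 ∧ Algebra.trace F L (c₀ * d) = 0 := by
    obtain ⟨φ, hφ⟩ : ∃ φ : L →ₗ[F] F, ∀ a, φ a = Algebra.trace F L (c₀ * a) :=
      ⟨(Algebra.trace F L).comp (LinearMap.mulLeft F c₀), fun a => rfl⟩
    have h1 := LinearMap.finrank_range_add_finrank_ker φ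
    have h2 := Submodule.finrank_le (LinearMap.range φ)
    rw [Module.finrank_self] at h2
    obtain ⟨⟨d, hd⟩, hd0⟩ := Module.finrank_pos_iff_exists_ne_zero.1
      (show 0 < finrank F (LinearMap.ker φ) by omega)
    exact ⟨d, fun h => hd0 (Subtype.ext h), by rw [← hφ]; exact hd⟩
  obtain ⟨w, hw⟩ : ∃ w : L × L, w = (0, 1 + d) := ⟨_, rfl⟩
  have huw : B u₀ w = 1 := by rw [hBa, hu₀, hw]; simp [mul_add, map_add, hc₀, hd]
  obtain ⟨t, ht⟩ := hsurj _ (AltForm.transv_mem_iso hA w 1)
  refine ⟨setStab ρ (Submodule.span F {u₀, v₀} : Submodule F (L × L)), lineNormal ρ A, ?_, ?_,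
    fun g c hg => ⟨scalar_mem_setStab _ hg, scalar_mem_lineNormal _ hg⟩, fun g => ?_⟩
  · refine setStab_ne_top t (a := u₀) (Submodule.subset_span (by simp)) ?_
    rw [ht, AltForm.transv_apply, huw, one_mul, one_smul, SetLike.mem_coe, Submodule.mem_span_pair]
    rintro ⟨a, b, hab⟩
    have h1 := congrArg Prod.fst hab
    have h2 := congrArg Prod.snd hab
    simp [hu₀, hv₀, hw] at h1 h2
    have h3 : Algebra.trace F L (c₀ * (b • (1 : L))) = Algebra.trace F L (c₀ * (1 + d)) := by rw [h2]
    rw [mul_smul_comm, map_smul, mul_one, mul_add, map_add, mul_one, hc₀, hd, smul_eq_mul, mul_one,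
      add_zero] at h3
    rw [h3, one_smul] at h2
    exact hd0 (by linear_combination -h2)
  · obtain ⟨θ, hθ⟩ : ∃ θ : L, θ ∉ Set.range (algebraMap F L) := by
      by_contra hcon
      push Not at hcon
      have : finrank F L ≤ 1 := finrank_le_one 1 fun x => by
        obtain ⟨c, hc⟩ := hcon x
        exact ⟨c, by rw [← hc]; exact (Algebra.algebraMap_eq_smul_one c).symm⟩
      omega
    have hw0 : w ≠ 0 := fun h0 => by rw [h0, map_zero] at huw; exact zero_ne_one huw
    refine lineNormal_ne_top ρ A hAinv (by omega) (X := scalarEnd F L θ) (hA' ▸ ⟨θ, rfl⟩) ?_ t w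
      (B.flip w) hw0 (fun h0 => ?_) (fun v => by rw [ht, AltForm.transv_apply, one_mul]; rfl)
    · intro v hv a hva
      rw [scalarEnd_apply, ← IsScalarTower.algebraMap_smul L a v, ← sub_eq_zero, ← sub_smul] at hva
      exact hθ ⟨a, (sub_eq_zero.1 ((smul_eq_zero.1 hva).resolve_right hv)).symm⟩
    · have := LinearMap.congr_fun h0 u₀
      change B u₀ w = 0 at this
      rw [huw] at this
      exact one_ne_zero this
  rcases symp_six_cases hA hBn hdim h2F (hmem g) with ⟨u, v, huv, hgu, hgv⟩ |
    ⟨p, e, y, hpm, hpi, he1, hed, hiff, hsur, hy⟩ | ⟨s, hss, hs3, hs2⟩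
  · obtain ⟨P, hP, hPu, hPv⟩ := AltForm.exists_pair_map hA hBn huv huv₀
    obtain ⟨x, hx⟩ := hsurj P (AltForm.transvGroup_le hA hP)
    refine ⟨x, Or.inl (conj_mem_setStab_of_le (S' := Submodule.span F {u, v}) ?_ ?_ ?_)⟩
    · intro z hz
      obtain ⟨a, b, rfl⟩ := Submodule.mem_span_pair.1 hz
      rw [map_add, map_smul, map_smul]
      exact add_mem (Submodule.smul_mem _ _ hgu) (Submodule.smul_mem _ _ hgv)
    · intro z hz
      obtain ⟨a, b, rfl⟩ := Submodule.mem_span_pair.1 hz
      rw [map_add, map_smul, map_smul, hx, hPu, hPv]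
      exact Submodule.mem_span_pair.2 ⟨a, b, rfl⟩
    · have hmap : (Submodule.span F {u, v}).map (P : (L × L) →ₗ[F] L × L) =
          Submodule.span F {u₀, v₀} := by
        rw [Submodule.map_span]
        congr 1
        simp [Set.image_pair, hPu, hPv]
      rw [← hmap, LinearEquiv.finrank_map_eq]
  · have hdeg : (p.natDegree = 1 ∧ e = 3) ∨ (p.natDegree = 3 ∧ e = 1) := by
      have h1 : p.natDegree ≤ 3 := by
        have := Nat.le_of_dvd (by norm_num) (Dvd.intro_left e hed)
        exact this
      have h0 := hpi.natDegree_pos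
      have : e ≤ 3 := Nat.le_of_dvd (by norm_num) (Dvd.intro _ hed)
      interval_cases e <;> omega
    rcases hdeg with ⟨hp1, rfl⟩ | ⟨hp3, rfl⟩
    · -- the cyclic case over a linear factor
      obtain ⟨r, rfl⟩ : ∃ r, p = X - C r :=
        ⟨-p.coeff 0, by rw [map_neg, sub_neg_eq_add]; exact hpm.eq_X_add_C hp1⟩
      obtain ⟨M, z, hMiso, hMl, hM3, hz⟩ := models r
      obtain ⟨hiffz, -, hdimz⟩ := orbit_spec hA h2F hMiso hpm hpi he1 hM3 hz
      have hsurz : Function.Surjective (orbitMap M z) := by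
        rw [← LinearMap.range_eq_top]
        refine Submodule.eq_top_of_finrank_eq ?_
        rw [hdimz, hdim, hp1]
      obtain ⟨Φ, μ, hμ, hΦB, hΦg⟩ :=
        exists_similitude (hmem g) hMiso hA hiff hsur hy hiffz hsurz hz
      obtain ⟨D, hD⟩ : ∃ D : (L × L) ≃ₗ[F] (L × L), ∀ a b, D (a, b) = (a, μ⁻¹ • b) :=
        ⟨(LinearEquiv.refl F L).prodCongr (LinearEquiv.smulOfUnit (Units.mk0 μ⁻¹ (inv_ne_zero hμ))),
          fun a b => rfl⟩
      have hDB : ∀ a b, B (D a) (D b) = μ⁻¹ * B a b := fun a b => by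
        rw [show a = (a.1, a.2) from rfl, show b = (b.1, b.2) from rfl, hD, hD, hBa, hBa,
          ← smul_eq_mul μ⁻¹, ← map_smul]
        congr 1
        simp [smul_sub, mul_smul_comm]
      have hDl : ∀ (l : L) a, D (l • a) = l • D a := fun l a => by
        rw [show a = (a.1, a.2) from rfl, Prod.smul_mk, hD, hD, Prod.smul_mk, smul_comm]
      obtain ⟨x, hx⟩ := conjK g (Φ.trans D) ((D.symm.trans M).trans D)
        (fun a b => by
          rw [LinearEquiv.trans_apply, LinearEquiv.trans_apply, hDB, hΦB, inv_mul_cancel_left₀ hμ])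
        (fun a => by simp [hΦg])
        (fun l => ⟨σ l, fun a => by
          obtain ⟨b, rfl⟩ := D.surjective a
          simp only [LinearEquiv.trans_apply]
          rw [← hDl, LinearEquiv.symm_apply_apply, LinearEquiv.symm_apply_apply, hMl, hDl]⟩)
      exact ⟨x, Or.inr hx⟩
    · -- the cubic case
      haveI : Fact (Irreducible p) := ⟨hpi⟩
      haveI : Module.Finite F (AdjoinRoot p) := hpm.finite_adjoinRoot
      have hfin : finrank F (AdjoinRoot p) = 3 := by
        rw [(AdjoinRoot.powerBasis hpi.ne_zero).finrank, AdjoinRoot.powerBasis_dim, hp3]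
      obtain ⟨j⟩ := FiniteField.nonempty_algHom_of_finrank_dvd (F := F) (K := AdjoinRoot p) (L := L)
        (by rw [hfin, hL])
      have hjs : Function.Surjective j :=
        (LinearMap.injective_iff_surjective_of_finrank_eq_finrank (f := j.toLinearMap)
          (by rw [hfin, hL])).1 j.injective
      obtain ⟨ψ, hψ⟩ : ∃ ψ : F[X] →ₐ[F] L, ∀ P, ψ P = j (AdjoinRoot.mk p P) :=
        ⟨j.comp (AdjoinRoot.mkₐ p), fun P => rfl⟩
      have hψs : Function.Surjective ψ := fun a => by
        obtain ⟨b, rfl⟩ := hjs a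
        obtain ⟨P, rfl⟩ := AdjoinRoot.mk_surjective b
        exact ⟨P, hψ P⟩
      have hψk : ∀ P, ψ P = 0 ↔ p ∣ P := fun P => by
        rw [hψ, map_eq_zero j, AdjoinRoot.mk_eq_zero]
      simp only [pow_one, Nat.sub_self, pow_zero] at hiff hy
      obtain ⟨ω, hω⟩ : ∃ ω, ω = orbitFun B (ρ g) y := ⟨_, rfl⟩
      have hωk : ∀ P, p ∣ P → ω P = 0 := fun P hP => by
        have h1 := (hiff P 0).2 ⟨hP, dvd_zero _⟩
        rw [orbitMap_apply, map_zero, LinearMap.zero_apply, add_zero] at h1
        rw [hω, orbitFun_apply, h1, map_zero, LinearMap.zero_apply]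
      obtain ⟨sec, hsec⟩ := LinearMap.exists_rightInverse_of_surjective ψ.toLinearMap
        (LinearMap.range_eq_top.2 hψs)
      obtain ⟨c, hc⟩ := ((Algebra.traceForm F L).toDual (traceForm_nondegenerate F L)).surjective
        (ω.comp sec)
      have hωc : ∀ P, ω P = Algebra.trace F L (c * ψ P) := fun P => by
        have h1 : p ∣ P - sec (ψ P) := by
          rw [← hψk, map_sub, sub_eq_zero]
          exact (LinearMap.congr_fun hsec (ψ P)).symm
        have h2 := hωk _ h1
        rw [map_sub, sub_eq_zero] at h2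
        rw [h2]
        exact (LinearMap.congr_fun hc (ψ P)).symm
      have hc0 : c ≠ 0 := by
        intro h0
        exact hy (by rw [← hω, hωc, h0, zero_mul, map_zero])
      obtain ⟨Ψ, hΨ⟩ : ∃ Ψ : (F[X] × F[X]) →ₗ[F] L × L, ∀ P Q, Ψ (P, Q) = (c * ψ P, ψ Q) :=
        ⟨((LinearMap.mulLeft F c).comp ψ.toLinearMap).prodMap ψ.toLinearMap, fun P Q => rfl⟩
      have hΨs : Function.Surjective Ψ := fun a => by
        obtain ⟨P, hP⟩ := hψs (c⁻¹ * a.1)
        obtain ⟨Q, hQ⟩ := hψs a.2
        exact ⟨(P, Q), by rw [hΨ, hP, hQ, mul_inv_cancel_left₀ hc0]⟩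
      obtain ⟨P, hP⟩ := exists_equiv_of_ker hsur hΨs (fun m => by
        obtain ⟨R, S⟩ := m
        rw [hiff, hΨ, Prod.mk_eq_zero, mul_eq_zero, or_iff_right hc0, hψk, hψk])
      obtain ⟨θ, hθ⟩ : ∃ θ, θ = ψ X := ⟨_, rfl⟩
      obtain ⟨M, hM⟩ : ∃ M : (L × L) ≃ₗ[F] (L × L),
          ∀ a b, M (a, b) = (-(c * b), c⁻¹ * a + θ * b) :=
        ⟨{ toFun := fun q => (-(c * q.2), c⁻¹ * q.1 + θ * q.2)
           invFun := fun q => (c * (q.2 + c⁻¹ * θ * q.1), -(c⁻¹ * q.1))
           map_add' := fun q q' => by ext <;> simp <;> ring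
           map_smul' := fun k q => by ext <;> simp [Algebra.smul_def] <;> ring
           left_inv := fun q => by ext <;> field_simp <;> ring
           right_inv := fun q => by ext <;> field_simp <;> ring }, fun a b => rfl⟩
      obtain ⟨x, hx⟩ := conjK g P M
        (fun a b => by
          obtain ⟨⟨R, S⟩, rfl⟩ := hsur a
          obtain ⟨⟨R', S'⟩, rfl⟩ := hsur b
          rw [hP, hP, form_orbitMap (hmem g) hA h2F, hΨ, hΨ, hBa, ← hω, hωc, map_sub ψ, map_mul ψ,
            map_mul ψ]
          congr 1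
          ring)
        (fun a => by
          obtain ⟨⟨R, S⟩, rfl⟩ := hsur a
          rw [g_orbitMap, hP, hP, hΨ, hΨ, hM, map_neg, map_add, map_mul, ← hθ,
            inv_mul_cancel_left₀ hc0, mul_neg, mul_comm θ])
        (fun l => ⟨l, fun a => by
          rw [show a = (a.1, a.2) from rfl, Prod.smul_mk, hM, hM, Prod.smul_mk]
          simp only [smul_eq_mul]
          ext <;> ring⟩)
      exact ⟨x, Or.inr hx⟩
  · have hs0 : s ≠ 0 := left_ne_zero_of_mul_eq_one hss
    obtain ⟨k, hk⟩ : ∃ k : (L × L) ≃ₗ[F] (L × L), ∀ z, k z = s • ρ g z :=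
      ⟨(ρ g).trans (LinearEquiv.smulOfUnit (Units.mk0 s hs0)), fun z => rfl⟩
    have hkiso : k ∈ AltForm.isoGroup B := fun a b => by
      rw [hk, hk, map_smul, map_smul, LinearMap.smul_apply, hmem g, smul_smul, hss, one_smul]
    have hk' : (k : Module.End F (L × L)) = s • (ρ g : Module.End F (L × L)) :=
      LinearMap.ext hk
    obtain ⟨S, hS⟩ : ∃ S : (L × L) ≃ₗ[F] (L × L), ∀ a b, S (a, b) = (σ a, σ b) :=
      ⟨sL.toLinearEquiv.prodCongr sL.toLinearEquiv, fun a b => by simp [hsL]⟩
    have hSiso : S ∈ AltForm.isoGroup B := fun a b => by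
      rw [hBa, hBa, show a = (a.1, a.2) from rfl, show b = (b.1, b.2) from rfl, hS, hS,
        ← htrσ (a.1 * b.2 - a.2 * b.1)]
      simp
    have hS1 : ∀ a b, ((S : Module.End F (L × L)) - 1) (a, b) = (σ a - a, σ b - b) := fun a b => by
      simp [hS]
    have hS3 : ((S : Module.End F (L × L)) - 1) ^ 3 = 0 := by
      refine LinearMap.ext fun a => ?_
      rw [show a = (a.1, a.2) from rfl, pow_succ, pow_succ, pow_one, Module.End.mul_apply,
        Module.End.mul_apply, hS1, hS1, hS1]
      ext
      · simp [hσ3]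
        linear_combination (σ a.1 - σ (σ a.1)) * h3L
      · simp [hσ3]
        linear_combination (σ a.2 - σ (σ a.2)) * h3L
    have hS2 : ((S : Module.End F (L × L)) - 1) ^ 2 ≠ 0 := by
      intro h0
      have h1 := LinearMap.congr_fun h0 (c₀, 0)
      rw [sq, Module.End.mul_apply, hS1, hS1] at h1
      have h2 := congrArg Prod.fst h1
      simp at h2
      have h5 := hTr c₀
      rw [hc₀, map_one] at h5
      exact one_ne_zero (α := L) (by linear_combination h5 + h2 + σ c₀ * h3L)
    obtain ⟨P, hP, hPg⟩ := exists_conj_index_three hA hBn hdim hkiso hSiso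
      (hk' ▸ hs3) (hk' ▸ hs2) hS3 hS2
    obtain ⟨x, hx⟩ := conjK g P (S.trans (LinearEquiv.smulOfUnit (Units.mk0 s hs0))) hP
      (fun a => by
        show P (ρ g a) = s • S (P a)
        rw [← hPg, hk, map_smul, smul_smul, hss, one_smul])
      (fun l => ⟨σ l, fun a => by
        show s • S (l • a) = σ l • s • S a
        rw [show a = (a.1, a.2) from rfl, Prod.smul_mk, hS, hS, smul_comm (σ l) s, Prod.smul_mk (σ l)]
        simp [smul_eq_mul]⟩)
    exact ⟨x, Or.inr hx⟩

end Cfsg.Agent.UnionTwoClasses
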