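import Cfsg.Agent.Lib.UnionTwoClasses.UnitaryField
import Cfsg.Agent.Lib.UnionTwoClasses.Linear

/-!
# Unitary groups of degree three in characteristic three as unions of two classes of subgroups

An element fixes a non-degenerate point, lies in a cubic torus, or is a regular unipotent, and the
regular unipotents are conjugate to a field automorphism normalising the torus.
-/

set_option autoImplicit false

namespace Cfsg.Agent.UnionTwoClasses

open Polynomial Module

variable {F : Type*} [Field F] [CharP F 3]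

theorem three_eq_zero : (3 : F) = 0 := by exact_mod_cast CharP.cast_eq_zero F 3

theorem two_ne_zero_three : (2 : F) ≠ 0 := by
  intro h
  exact one_ne_zero (α := F) (by linear_combination (three_eq_zero (F := F)) - h)

theorem eq_one_of_cube {x : F} (h : x ^ 3 = 1) : x = 1 := by
  have : (x - 1) ^ 3 = 0 := by
    linear_combination h + (-(x ^ 2) + x) * (three_eq_zero (F := F))
  exact sub_eq_zero.1 (eq_zero_of_pow_eq_zero this)

variable [Finite F] {σ : F →+* F} {V : Type*} [AddCommGroup V] [Module F V] [FiniteDimensional F V]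
  {h : V → V → F} (hh : Hermitian.IsHerm σ h)

include hh

omit [Finite F] [FiniteDimensional F V] in
/-- the skew element of a unipotent isometry -/
theorem skew_cayley {g : V ≃ₗ[F] V} (hg : ∀ u v, h (g u) (g v) = h u v) {N : Module.End F V}
    (hN : N = (g : Module.End F V) - 1) (hN3 : N ^ 3 = 0) (x y : V) :
    h ((-N - N ^ 2) x) y + h x ((-N - N ^ 2) y) = 0 := by
  have hgx : ∀ z, g z = z + N z := fun z => by rw [hN]; simp
  have hN3' : ∀ z, N (N (N z)) = 0 := fun z => by
    have := LinearMap.congr_fun hN3 z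
    simpa [pow_succ, Module.End.mul_apply] using this
  have hXa : ∀ z, (-N - N ^ 2) (g z + z) = g z - z := by
    intro z
    simp only [LinearMap.sub_apply, LinearMap.neg_apply, sq, Module.End.mul_apply, map_add, hgx,
      hN3', add_zero]
    have h3 : ∀ w : V, w + w + w = 0 := fun w => by
      have : (3 : F) • w = 0 := by rw [three_eq_zero, zero_smul]
      linear_combination (norm := module) this
    linear_combination (norm := module) -h3 (N z) - h3 (N (N z))
  have hsurj : ∀ z : V, g (-z - N z - N (N z)) + (-z - N z - N (N z)) = z := by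
    intro z
    rw [hgx]
    simp only [map_sub, map_neg, hN3', sub_zero]
    have h3 : ∀ w : V, w + w + w = 0 := fun w => by
      have : (3 : F) • w = 0 := by rw [three_eq_zero, zero_smul]
      linear_combination (norm := module) this
    linear_combination (norm := module) -h3 z - h3 (N z) - h3 (N (N z))
  obtain ⟨a, rfl⟩ : ∃ a, g a + a = x := ⟨_, hsurj x⟩
  obtain ⟨b, rfl⟩ : ∃ b, g b + b = y := ⟨_, hsurj y⟩
  rw [hXa, hXa]
  simp only [hh.add_left, hh.add_right, hh.sub_left,
    show ∀ v u w, h v (u - w) = h v u - h v w from fun v u w => by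
      rw [hh.symm, hh.sub_left, map_sub, ← hh.symm, ← hh.symm]]
  linear_combination 2 * hg a b

omit [FiniteDimensional F V] in
/-- a normalised vector for a regular unipotent isometry -/
theorem exists_normal_vector {g : V ≃ₗ[F] V} (hg : ∀ u v, h (g u) (g v) = h u v) {N : Module.End F V}
    (hN : N = (g : Module.End F V) - 1) (hN3 : N ^ 3 = 0) (hN2 : N ^ 2 ≠ 0) :
    ∃ y : V, ∀ i j : Fin 3, h (![y, (-N - N ^ 2) y, (-N - N ^ 2) ((-N - N ^ 2) y)] i)
      (![y, (-N - N ^ 2) y, (-N - N ^ 2) ((-N - N ^ 2) y)] j) =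
      ![![0, 0, 1], ![0, -1, 0], ![1, 0, 0]] i j := by
  obtain ⟨X, hX⟩ : ∃ X, X = -N - N ^ 2 := ⟨_, rfl⟩
  rw [← hX]
  have hskew : ∀ a b, h (X a) b = -h a (X b) := fun a b =>
    eq_neg_of_add_eq_zero_left (hX ▸ skew_cayley hh hg hN hN3 a b)
  have hN3' : ∀ z, N (N (N z)) = 0 := fun z => by
    have := LinearMap.congr_fun hN3 z
    simpa [pow_succ, Module.End.mul_apply] using this
  have hX2 : ∀ z, X (X z) = N (N z) := fun z => by
    simp [hX, sq, Module.End.mul_apply, hN3', map_sub, map_neg]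
  have hX3 : ∀ z, X (X (X z)) = 0 := fun z => by rw [hX2]; simp [hX, sq, Module.End.mul_apply, hN3']
  -- a vector with non-zero invariant
  obtain ⟨y, hy⟩ : ∃ y, h (X (X y)) y ≠ 0 := by
    by_contra hcon
    push Not at hcon
    have hpol : ∀ x y, h (X (X x)) y = 0 := by
      intro x y
      obtain ⟨t, ht⟩ : ∃ t, σ t ≠ t := by
        by_contra hc
        push Not at hc
        exact hh.ne_id (RingHom.ext hc)
      have e1 : ∀ x y, h (X (X x)) y + σ (h (X (X x)) y) = 0 := by
        intro x y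
        have h1 := hcon (x + y)
        simp only [map_add, hh.add_left, hh.add_right, hcon x, hcon y, add_zero, zero_add] at h1
        rw [← hh.symm, show h y (X (X x)) = h (X (X y)) x by rw [hskew, hskew, neg_neg]]
        exact h1
      have e2 := e1 x y
      have e3 := e1 (t • x) y
      rw [map_smul, map_smul, hh.smul_left, map_mul] at e3
      have e4 : (t - σ t) * h (X (X x)) y = 0 := by linear_combination e3 - σ t * e2
      exact (mul_eq_zero.1 e4).resolve_left (sub_ne_zero.2 (Ne.symm ht))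
    refine hN2 (LinearMap.ext fun x => hh.nondeg _ fun w => ?_)
    rw [show (N ^ 2) x = X (X x) by rw [hX2, sq]; rfl]
    exact hpol x w
  have hyfix : σ (h (X (X y)) y) = h (X (X y)) y := by
    rw [← hh.symm, hskew (X y), hskew y, neg_neg]
  obtain ⟨s, hs⟩ := Hermitian.exists_norm hh.ne_id hh.invol (x := (h (X (X y)) y)⁻¹)
    (by rw [map_inv₀, hyfix])
  obtain ⟨z, hz⟩ : ∃ z, z = s • y := ⟨_, rfl⟩
  have hz1 : h (X (X z)) z = 1 := by
    rw [hz, map_smul, map_smul, hh.smul_left, hh.smul_right, ← mul_assoc, hs, inv_mul_cancel₀ hy]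
  obtain ⟨b, hb⟩ : ∃ b, b = h (X z) z := ⟨_, rfl⟩
  obtain ⟨r, hr⟩ := Hermitian.exists_trace hh.ne_id hh.invol (x := -h z z)
    (by rw [map_neg, hh.self_fixed])
  obtain ⟨w, hw⟩ : ∃ w, w = z + b • X z + r • X (X z) := ⟨_, rfl⟩
  have e01 : h z (X z) = -b := by rw [hb, hskew, neg_neg]
  have hσb : σ b = -b := by rw [← e01, hb, ← hh.symm]
  have e02 : h z (X (X z)) = 1 := by rw [hh.symm, hz1, map_one]
  have e11 : h (X z) (X z) = -1 := by rw [hskew, e02]
  have e12 : h (X z) (X (X z)) = 0 := by rw [hskew, hX3, hh.zero_right, neg_zero]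
  have e21 : h (X (X z)) (X z) = 0 := by rw [hh.symm, e12, map_zero]
  have e22 : h (X (X z)) (X (X z)) = 0 := by rw [hskew, hX3, hh.zero_right, neg_zero]
  have hXw : X w = X z + b • X (X z) := by simp [hw, hX3]
  have hXXw : X (X w) = X (X z) := by rw [hXw]; simp [hX3]
  refine ⟨w, fun i j => ?_⟩
  have h3 := three_eq_zero (F := F)
  have f00 : h w w = 0 := by
    simp only [hw, hh.add_left, hh.add_right, hh.smul_left, hh.smul_right, ← hb, hz1, e01, e02, e11,
      e12, e21, e22, hσb]
    linear_combination hr + b ^ 2 * h3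
  have f10 : h (X w) w = 0 := by
    rw [hXw]
    simp only [hw, hh.add_left, hh.add_right, hh.smul_left, hh.smul_right, ← hb, hz1, e11,
      e12, e21, e22, hσb]
    linear_combination b * h3
  have f01 : h w (X w) = 0 := by rw [hh.symm, f10, map_zero]
  have f20 : h (X (X w)) w = 1 := by
    rw [hXXw]
    simp only [hw, hh.add_right, hh.smul_right, hz1, e21, e22]
    ring
  have f02 : h w (X (X w)) = 1 := by rw [hh.symm, f20, map_one]
  have f11 : h (X w) (X w) = -1 := by rw [hskew, f02]
  have f12 : h (X w) (X (X w)) = 0 := by rw [hskew, hX3, hh.zero_right, neg_zero]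
  have f21 : h (X (X w)) (X w) = 0 := by rw [hh.symm, f12, map_zero]
  have f22 : h (X (X w)) (X (X w)) = 0 := by rw [hskew, hX3, hh.zero_right, neg_zero]
  fin_cases i <;> fin_cases j <;> simp [f00, f01, f02, f10, f11, f12, f20, f21, f22]

/-- regular unipotent isometries are conjugate -/
theorem exists_conj_regular (hdim : finrank F V = 3) {g k : V ≃ₗ[F] V}
    (hg : ∀ u v, h (g u) (g v) = h u v) (hk : ∀ u v, h (k u) (k v) = h u v)
    (hg3 : ((g : Module.End F V) - 1) ^ 3 = 0) (hg2 : ((g : Module.End F V) - 1) ^ 2 ≠ 0)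
    (hk3 : ((k : Module.End F V) - 1) ^ 3 = 0) (hk2 : ((k : Module.End F V) - 1) ^ 2 ≠ 0) :
    ∃ P : V ≃ₗ[F] V, (∀ u v, h (P u) (P v) = h u v) ∧ LinearMap.det (P : Module.End F V) = 1 ∧
      ∀ x, P (g x) = k (P x) := by
  classical
  obtain ⟨y, hy⟩ := exists_normal_vector hh hg rfl hg3 hg2
  obtain ⟨y', hy'⟩ := exists_normal_vector hh hk rfl hk3 hk2
  obtain ⟨X, hX⟩ : ∃ X, X = -((g : Module.End F V) - 1) - ((g : Module.End F V) - 1) ^ 2 := ⟨_, rfl⟩
  obtain ⟨Y, hY⟩ : ∃ Y, Y = -((k : Module.End F V) - 1) - ((k : Module.End F V) - 1) ^ 2 := ⟨_, rfl⟩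
  rw [← hX] at hy
  rw [← hY] at hy'
  have hgram : ∀ (M : Fin 3 → V), (∀ i j, h (M i) (M j) = ![![0, 0, 1], ![0, -1, 0], ![1, 0, 0]] i j) →
      LinearIndependent F M := by
    intro M hM
    refine hh.linearIndependent_of_gram fun c hc => funext fun i => ?_
    have h0 := hc 0
    have h1 := hc 1
    have h2 := hc 2
    simp [Fin.sum_univ_three, hM] at h0 h1 h2
    fin_cases i <;> assumption
  have hli := hgram _ hy
  obtain ⟨f, hf, hfx⟩ := hh.exists_iso_of_gram hli (hgram _ hy') fun i j => by rw [hy, hy']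
  have hcube : ∀ (N : Module.End F V), N ^ 3 = 0 → (-N - N ^ 2) ^ 3 = 0 := by
    intro N hN
    have hc : Commute N (-1 - N) := (Commute.one_right N).neg_right.sub_right (Commute.refl N)
    rw [show -N - N ^ 2 = N * (-1 - N) by noncomm_ring, hc.mul_pow, hN, zero_mul]
  have hcomm : ∀ x, f (X x) = Y (f x) := by
    have hbas : Submodule.span F (Set.range ![y, X y, X (X y)]) = ⊤ :=
      Submodule.eq_top_of_finrank_eq (by rw [finrank_span_eq_card hli, hdim, Fintype.card_fin])
    have h0 : f y = y' := by simpa using hfx 0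
    have h1 : f (X y) = Y y' := by simpa using hfx 1
    have h2 : f (X (X y)) = Y (Y y') := by simpa using hfx 2
    have key : (f : Module.End F V).comp X = Y.comp (f : Module.End F V) := by
      refine LinearMap.ext_on_range hbas fun i => ?_
      fin_cases i
      · simp [h0, h1]
      · simp [h1, h2]
      · have e1 : X (X (X y)) = 0 := by
          have := LinearMap.congr_fun (hX ▸ hcube _ hg3) y
          simpa [pow_succ, Module.End.mul_apply] using this
        have e2 : Y (Y (Y y')) = 0 := by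
          have := LinearMap.congr_fun (hY ▸ hcube _ hk3) y'
          simpa [pow_succ, Module.End.mul_apply] using this
        simp [h2, e1, e2]
    exact fun x => LinearMap.congr_fun key x
  have hback : ∀ (N : Module.End F V), N ^ 3 = 0 →
      N = -(-N - N ^ 2) - (-N - N ^ 2) ^ 2 := by
    intro N hN
    have hc : Commute N (-1 - N) := (Commute.one_right N).neg_right.sub_right (Commute.refl N)
    rw [show (-N - N ^ 2) ^ 2 = N ^ 2 + N ^ 3 + N ^ 3 + N ^ 3 * N by noncomm_ring, hN]
    simp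
  have hfN : ∀ x, f (((g : Module.End F V) - 1) x) = ((k : Module.End F V) - 1) (f x) := by
    intro x
    rw [hback _ hg3, hback _ hk3, ← hX, ← hY]
    simp only [LinearMap.sub_apply, LinearMap.neg_apply, sq, Module.End.mul_apply, map_sub, map_neg,
      hcomm]
  have hfg : ∀ x, f (g x) = k (f x) := fun x => by
    have := hfN x
    simpa [map_sub] using this
  -- adjust the determinant by a scalar
  have hd := det_mul_conj_det hh hf
  haveI : ExpChar F 3 := ExpChar.prime Nat.prime_three
  obtain ⟨z, hz⟩ : ∃ z, z = (frobeniusEquiv F 3).symm (σ (LinearMap.det (f : Module.End F V))) :=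
    ⟨_, rfl⟩
  have hz3 : z ^ 3 = σ (LinearMap.det (f : Module.End F V)) := by
    rw [hz, ← frobeniusEquiv_def, RingEquiv.apply_symm_apply]
  have hzn : z * σ z = 1 := eq_one_of_cube (by
    rw [mul_pow, ← map_pow, hz3, hh.invol, mul_comm]; exact hd)
  have hz0 : z ≠ 0 := left_ne_zero_of_mul_eq_one hzn
  refine ⟨f.trans (LinearEquiv.smulOfUnit (Units.mk0 z hz0)), fun u v => ?_, ?_, fun x => ?_⟩
  · show h (z • f u) (z • f v) = h u v
    rw [hh.smul_left, hh.smul_right, ← mul_assoc, hzn, one_mul, hf]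
  · show LinearMap.det (z • (f : Module.End F V)) = 1
    rw [LinearMap.det_smul, hdim, hz3, mul_comm]; exact hd
  · show z • f (g x) = k (z • f x)
    rw [hfg, map_smul]

/-- the three cases: point, torus, regular unipotent -/
theorem point_or_unipotent (hdim : finrank F V = 3) {g : V ≃ₗ[F] V}
    (hg : ∀ u v, h (g u) (g v) = h u v) (hdet : LinearMap.det (g : Module.End F V) = 1)
    (hroot : ∃ c, (LinearMap.charpoly (g : Module.End F V)).IsRoot c) :
    (∃ v : V, h v v ≠ 0 ∧ ∃ c : F, g v = c • v) ∨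
      (((g : Module.End F V) - 1) ^ 3 = 0 ∧ ((g : Module.End F V) - 1) ^ 2 ≠ 0) := by
  classical
  rw [or_iff_not_imp_left]
  intro hno
  push Not at hno
  obtain ⟨l, hl⟩ := hroot
  obtain ⟨v, hv⟩ := ((Module.End.hasEigenvalue_iff_isRoot_charpoly _ _).2 hl).exists_hasEigenvector
  have hgv : g v = l • v := hv.apply_eq_smul
  have hvv : h v v = 0 := by
    by_contra h0; exact hno v h0 l hgv
  obtain ⟨W, hW⟩ : ∃ W, W = LinearMap.ker (hh.form v) := ⟨_, rfl⟩
  have hWmem : ∀ y, y ∈ W ↔ h y v = 0 := fun y => by rw [hW, LinearMap.mem_ker]; rfl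
  have hl0 : l ≠ 0 := fun h0 => hv.2 (g.injective (by rw [hgv, h0, zero_smul, map_zero]))
  have hWdim : finrank F W = 2 := by
    rw [hW]
    have h1 := Module.Dual.finrank_ker_add_one_of_ne_zero (f := hh.form v) (fun h0 => hv.2
      (hh.nondeg v fun w => by
        rw [hh.symm, show h w v = hh.form v w from rfl, h0, LinearMap.zero_apply, map_zero]))
    omega
  obtain ⟨u, huW, huv⟩ : ∃ u ∈ W, u ∉ Submodule.span F {v} := by
    by_contra hcon
    push Not at hcon
    have := Submodule.finrank_mono (show W ≤ Submodule.span F {v} from hcon)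
    rw [finrank_span_singleton hv.2, hWdim] at this
    omega
  have huv0 : h u v = 0 := (hWmem u).1 huW
  have hvu0 : h v u = 0 := hh.eq_zero_comm.1 huv0
  have hWspan : W = Submodule.span F {v, u} := by
    refine (Submodule.eq_of_le_of_finrank_le ?_ ?_).symm
    · rw [Submodule.span_le]
      intro y hy
      simp at hy
      rcases hy with rfl | rfl
      exacts [(hWmem _).2 hvv, huW]
    · rw [finrank_span_pair_eq hh hv.2 huv, hWdim]
  have huu : h u u ≠ 0 := by
    intro huu
    have h2 := two_mul_finrank_le hh (W := Submodule.span F {v, u}) (by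
      intro p1 hp1 p2 hp2
      obtain ⟨a1, b1, rfl⟩ := Submodule.mem_span_pair.1 hp1
      obtain ⟨a2, b2, rfl⟩ := Submodule.mem_span_pair.1 hp2
      simp [hh.add_left, hh.add_right, hh.smul_left, hh.smul_right, hvv, huu, huv0, hvu0])
    rw [finrank_span_pair_eq hh hv.2 huv, hdim] at h2
    omega
  have hguW : g u ∈ W := by
    rw [hWmem]
    have := hg u v
    rw [hgv, hh.smul_right, huv0] at this
    exact (mul_eq_zero.1 this).resolve_left ((map_ne_zero σ).2 hl0)
  obtain ⟨c, α, hgu⟩ := Submodule.mem_span_pair.1 (hWspan ▸ hguW)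
  have hαl : α = l := by
    by_contra hne
    refine hno (u + (c / (α - l)) • v) ?_ α ?_
    · simpa [hh.add_left, hh.add_right, hh.smul_left, hh.smul_right, hvv, huv0, hvu0] using huu
    · rw [map_add, map_smul, hgv, ← hgu]
      have : c + c / (α - l) * l = α * (c / (α - l)) := by
        field_simp [sub_ne_zero.2 hne]
        ring
      linear_combination (norm := module) congrArg (fun t => t • v) this
  have hll : l * σ l = 1 := by
    have h1 := hg u u
    rw [← hgu, hαl] at h1
    simp [hh.add_left, hh.add_right, hh.smul_left, hh.smul_right, hvv, huv0, hvu0] at h1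
    exact mul_right_cancel₀ huu (by linear_combination h1)
  obtain ⟨N, hN⟩ : ∃ N, N = (g : Module.End F V) - algebraMap F _ l := ⟨_, rfl⟩
  have hNv : N v = 0 := by simp [hN, hgv]
  have hNu : N u = c • v := by simp [hN, ← hgu, hαl]
  have hNW : ∀ y, N y ∈ W := by
    intro y
    rw [hWmem, hN, LinearMap.sub_apply, Module.algebraMap_end_apply, hh.sub_left, hh.smul_left]
    have := hg y v
    rw [hgv, hh.smul_right] at this
    show h (g y) v - l * h y v = 0
    linear_combination l * this - (h (g y) v) * hll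
  have hN3 : N ^ 3 = 0 := by
    refine LinearMap.ext fun y => ?_
    obtain ⟨a, b, hab⟩ := Submodule.mem_span_pair.1 (hWspan ▸ hNW y)
    show N (N (N y)) = 0
    rw [← hab]
    simp [map_add, hNv, hNu]
  have hl1 : l = 1 := by
    have h9 : (g : Module.End F V) ^ 9 = algebraMap F _ (l ^ 9) := by
      have hp : (X - C l : F[X]) ^ 3 ^ 2 = X ^ 3 ^ 2 - C (l ^ 3 ^ 2) := by
        rw [sub_pow_char_pow (p := 3), ← C_pow]
      have h1 := congrArg (aeval (g : Module.End F V)) hp
      rw [map_pow, map_sub, aeval_X, aeval_C, ← hN, map_sub, map_pow, aeval_X, aeval_C] at h1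
      rw [show (3 : ℕ) ^ 2 = 3 * 3 from rfl, pow_mul, hN3, zero_pow (by norm_num)] at h1
      exact sub_eq_zero.1 h1.symm
    have h27 := congrArg LinearMap.det h9
    rw [map_pow, hdet, one_pow, Algebra.algebraMap_eq_smul_one, LinearMap.det_smul, hdim,
      map_one, mul_one] at h27
    exact eq_one_of_cube (eq_one_of_cube (eq_one_of_cube (by rw [← pow_mul, ← pow_mul]; rw [← pow_mul] at h27; exact h27.symm)))
  rw [hl1, map_one] at hN
  rw [← hN]
  refine ⟨hN3, fun hN2 => ?_⟩
  have hle : LinearMap.range N ≤ LinearMap.ker N := by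
    rintro _ ⟨y, rfl⟩
    rw [LinearMap.mem_ker, ← Module.End.mul_apply, ← sq, hN2]; rfl
  have h1 := LinearMap.finrank_range_add_finrank_ker N
  have h2 := Submodule.finrank_mono hle
  have h3 : ∃ x ∈ LinearMap.ker N, h x x ≠ 0 := by
    by_contra hcon
    push Not at hcon
    have h4 := two_mul_finrank_le hh (W := LinearMap.ker N) (by
      intro x hx y hy
      obtain ⟨t, ht⟩ : ∃ t, σ t ≠ t := by
        by_contra hc
        push Not at hc
        exact hh.ne_id (RingHom.ext hc)
      have e1 : ∀ x y, x ∈ LinearMap.ker N → y ∈ LinearMap.ker N → h x y + σ (h x y) = 0 := by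
        intro x y hx hy
        have h5 := hcon _ (add_mem hx hy)
        simp only [hh.add_left, hh.add_right, hcon x hx, hcon y hy, add_zero, zero_add] at h5
        rw [← hh.symm]
        exact h5
      have e2 := e1 x y hx hy
      have e3 := e1 (t • x) y (Submodule.smul_mem _ t hx) hy
      rw [hh.smul_left, map_mul] at e3
      have e4 : (t - σ t) * h x y = 0 := by linear_combination e3 - σ t * e2
      exact (mul_eq_zero.1 e4).resolve_left (sub_ne_zero.2 (Ne.symm ht)))
    omega
  obtain ⟨x, hx, hxx⟩ := h3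
  refine hno x hxx 1 ?_
  rw [LinearMap.mem_ker, hN, LinearMap.sub_apply, Module.End.one_apply, sub_eq_zero] at hx
  rw [one_smul]
  exact hx

variable {L : Type*} [Field L] [Algebra F L] [Module.Finite F L] {τ : L →+* L}

/-- an element with irreducible characteristic polynomial lies in a conjugate of the torus -/
theorem exists_conj_torus (hdim : finrank F V = 3) (hL : finrank F L = 3)
    (hτne : τ ≠ RingHom.id L) (hττ : ∀ x, τ (τ x) = x)
    (hτ : ∀ c, τ (algebraMap F L c) = algebraMap F L (σ c))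
    (ψ : L ≃ₗ[F] V) (hψ : ∀ x y, h (ψ x) (ψ y) = Algebra.trace F L (x * τ y))
    {g : V ≃ₗ[F] V} (hg : ∀ u v, h (g u) (g v) = h u v)
    (hirr : Irreducible (LinearMap.charpoly (g : Module.End F V))) :
    ∃ (P : V ≃ₗ[F] V) (l : L), (∀ u v, h (P u) (P v) = h u v) ∧
      LinearMap.det (P : Module.End F V) = 1 ∧ ∀ x, P (g x) = ψ (l * ψ.symm (P x)) := by
  classical
  obtain ⟨p, hp⟩ : ∃ p, p = LinearMap.charpoly (g : Module.End F V) := ⟨_, rfl⟩
  rw [← hp] at hirr
  haveI : Fact (Irreducible p) := ⟨hirr⟩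
  have hpm : p.Monic := hp ▸ LinearMap.charpoly_monic _
  have hpd : p.natDegree = 3 := by rw [hp, LinearMap.charpoly_natDegree, hdim]
  have hpg : aeval (g : Module.End F V) p = 0 := hp ▸ LinearMap.aeval_self_charpoly _
  have hp0 : p.coeff 0 ≠ 0 := by
    intro h0
    have hd : X ∣ p := X_dvd_iff.2 h0
    have := natDegree_eq_of_degree_eq (degree_eq_degree_of_associated
      ((irreducible_X (R := F)).associated_of_dvd hirr hd))
    rw [natDegree_X, hpd] at this
    omega
  haveI : Module.Finite F (AdjoinRoot p) := hpm.finite_adjoinRoot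
  haveI : Finite (AdjoinRoot p) := Module.finite_of_finite F
  haveI : Finite L := Module.finite_of_finite F
  have hfin : finrank F (AdjoinRoot p) = 3 := by
    rw [(AdjoinRoot.powerBasis hirr.ne_zero).finrank, AdjoinRoot.powerBasis_dim, hpd]
  haveI : Nontrivial V := Module.nontrivial_of_finrank_pos (R := F) (by omega)
  -- the conjugate-reciprocal condition
  have hz := (isotropic_or_reciprocal (a := p) hh hg hp0).resolve_left (fun hiso => by
    obtain ⟨v, hv⟩ := exists_ne (0 : V)
    exact hv (hh.nondeg v fun w => hiso v w (by rw [hpg]; rfl) (by rw [hpg]; rfl)))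
  obtain ⟨τ1, hτ1ne, hτ1τ1, hτ1c, hτ1r, -⟩ := exists_conjugation hh.ne_id hh.invol hpm hz
  obtain ⟨ι', hι'⟩ : ∃ ι', ι' = rootHom (g : Module.End F V) hpg := ⟨_, rfl⟩
  have hι'r : ι' (AdjoinRoot.root p) = (g : Module.End F V) := by rw [hι', rootHom_root]
  obtain ⟨e⟩ := FiniteField.nonempty_algHom_of_finrank_dvd (F := F) (K := L) (L := AdjoinRoot p)
    (by rw [hfin, hL])
  have hebij : Function.Bijective e :=
    ⟨e.injective, (LinearMap.injective_iff_surjective_of_finrank_eq_finrank
      (f := e.toLinearMap) (by rw [hfin, hL])).1 e.injective⟩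
  -- the two conjugations correspond
  have hτe : ∀ x, τ1 (e x) = e (τ x) := by
    intro x
    rw [Hermitian.apply_eq_pow hτ1ne hτ1τ1, Hermitian.apply_eq_pow hτne hττ, map_pow]
    congr 1
    apply Nat.pow_left_injective two_ne_zero
    show Nat.card (Hermitian.fixed τ1) ^ 2 = Nat.card (Hermitian.fixed τ) ^ 2
    rw [← Hermitian.card_eq_sq hτ1ne hτ1τ1, ← Hermitian.card_eq_sq hτne hττ]
    exact (Nat.card_congr (Equiv.ofBijective e hebij)).symm
  -- adjoints
  have hinv : ι' (AdjoinRoot.root p)⁻¹ = (g.symm : Module.End F V) := by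
    have hθ : AdjoinRoot.root p ≠ 0 := fun h0 => by
      have := LinearMap.congr_fun (hι'r.symm.trans (by rw [h0, map_zero])) (g.symm (Classical.choose (exists_ne (0 : V))))
      simp at this
      exact Classical.choose_spec (exists_ne (0 : V)) this
    refine LinearMap.ext fun z => g.injective ?_
    rw [← LinearEquiv.coe_coe g, ← hι'r, ← Module.End.mul_apply, ← map_mul, mul_inv_cancel₀ hθ,
      map_one, hι'r]
    simp
  have hadj : ∀ (z : AdjoinRoot p) (u v : V), h (ι' z u) v = h u (ι' (τ1 z) v) := by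
    intro z u v
    induction z using AdjoinRoot.induction_on with
    | ih P =>
      have e1 : τ1 (AdjoinRoot.mk p P) = aeval (AdjoinRoot.root p)⁻¹ (P.map σ) := by
        rw [← AdjoinRoot.aeval_eq, aeval_def, hom_eval₂, hτ1r, aeval_def, eval₂_map]
        congr 1
        exact RingHom.ext hτ1c
      rw [e1, ← Polynomial.aeval_algHom_apply, hinv, ← AdjoinRoot.aeval_eq,
        ← Polynomial.aeval_algHom_apply, hι'r, form_aeval hh hg]
  obtain ⟨v0, hv0⟩ := exists_ne (0 : V)
  obtain ⟨ev, hev⟩ : ∃ ev : L →ₗ[F] V, ∀ a, ev a = ι' (e a) v0 :=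
    ⟨(LinearMap.applyₗ v0).comp (ι'.toLinearMap.comp e.toLinearMap), fun a => rfl⟩
  have hevinj : Function.Injective ev := by
    refine (injective_iff_map_eq_zero _).2 fun a ha => ?_
    by_contra hane
    rw [hev] at ha
    have h1 := congrArg (ι' (e a)⁻¹) ha
    rw [← Module.End.mul_apply, ← map_mul, inv_mul_cancel₀ ((map_ne_zero e).2 hane), map_one,
      map_zero] at h1
    exact hv0 h1
  have hevsurj : Function.Surjective ev :=
    (LinearMap.injective_iff_surjective_of_finrank_eq_finrank (by rw [hL, hdim])).1 hevinj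
  obtain ⟨ℓ, hℓ⟩ : ∃ ℓ : L →ₗ[F] F, ∀ a, ℓ a = h (ev a) v0 := ⟨(hh.form v0).comp ev, fun a => rfl⟩
  obtain ⟨c, hc⟩ : ∃ c : L, ∀ a, Algebra.trace F L (c * a) = ℓ a := by
    obtain ⟨c, hc⟩ := ((Algebra.traceForm F L).toDual (traceForm_nondegenerate F L)).surjective ℓ
    exact ⟨c, fun a => LinearMap.congr_fun hc a⟩
  have hev0 : ev 1 = v0 := by rw [hev, map_one, map_one]; rfl
  have hcne : c ≠ 0 := by
    intro h0
    refine hv0 (hh.nondeg v0 fun w => ?_)
    obtain ⟨a, rfl⟩ := hevsurj w
    rw [hh.symm, ← hℓ, ← hc, h0, zero_mul, map_zero, map_zero]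
  have hcτ : τ c = c := by
    rw [← sub_eq_zero]
    refine (traceForm_nondegenerate F L).1 _ fun a => ?_
    obtain ⟨b, rfl⟩ : ∃ b, τ b = a := ⟨τ a, hττ a⟩
    show Algebra.trace F L ((τ c - c) * τ b) = 0
    rw [sub_mul, map_sub, ← τ.map_mul, (trace_norm_semilinear τ hτ _).1, hc, hc, hℓ, hℓ, hev, hev,
      ← hh.symm, ← hτe, hadj, hτ1τ1, sub_self]
  obtain ⟨s, hs⟩ := Hermitian.exists_norm hτne hττ hcτ
  have hs0 : s ≠ 0 := fun h0 => hcne (by rw [← hs, h0, zero_mul])
  have hform : ∀ a b, h (ev a) (ev b) = Algebra.trace F L (s * a * τ (s * b)) := by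
    intro a b
    have h1 : h (ev a) (ev b) = ℓ (τ b * a) := by
      rw [hℓ, hev, hev, hev, map_mul, map_mul, Module.End.mul_apply]
      conv_lhs => rw [show e b = τ1 (τ1 (e b)) from (hτ1τ1 _).symm, ← hadj, hτe]
    rw [h1, ← hc, τ.map_mul, ← hs]
    congr 1
    ring
  obtain ⟨evE, hevE⟩ : ∃ evE : L ≃ₗ[F] V, ∀ a, evE a = ev a :=
    ⟨LinearEquiv.ofBijective ev ⟨hevinj, hevsurj⟩, fun a => rfl⟩
  obtain ⟨S, hS⟩ : ∃ S : L ≃ₗ[F] L, ∀ a, S a = s * a :=
    ⟨LinearEquiv.ofBijective (LinearMap.mulLeft F s) ⟨mul_right_injective₀ hs0,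
      fun y => ⟨s⁻¹ * y, by simp [← mul_assoc, mul_inv_cancel₀ hs0]⟩⟩, fun a => rfl⟩
  obtain ⟨φ, hφ⟩ : ∃ φ : V ≃ₗ[F] V, ∀ a, φ (ev a) = ψ (s * a) :=
    ⟨(evE.symm.trans S).trans ψ, fun a => by
      rw [LinearEquiv.trans_apply, LinearEquiv.trans_apply, ← hevE, LinearEquiv.symm_apply_apply, hS]⟩
  have hφiso : ∀ u v, h (φ u) (φ v) = h u v := by
    intro u v
    obtain ⟨a, rfl⟩ := hevsurj u
    obtain ⟨b, rfl⟩ := hevsurj v
    rw [hφ, hφ, hψ, hform]
  -- adjusting the determinant inside the torus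
  have hd := det_mul_conj_det hh hφiso
  obtain ⟨μ, hμ, hμδ⟩ := exists_ratio hh (δ := σ (LinearMap.det (φ : Module.End F V)))
    (by rw [hh.invol, mul_comm]; exact hd)
  obtain ⟨w, hw⟩ := FiniteField.norm_surjective F L μ
  have hw0 : w ≠ 0 := fun h0 => hμ (by rw [← hw, h0, Algebra.norm_zero])
  obtain ⟨z, hz⟩ : ∃ z, z = w * (τ w)⁻¹ := ⟨_, rfl⟩
  have hzz : z * τ z = 1 := by
    rw [hz, τ.map_mul, map_inv₀, hττ]
    field_simp [hw0, (map_ne_zero τ).2 hw0]
  have hz0 : z ≠ 0 := left_ne_zero_of_mul_eq_one hzz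
  have hNz : Algebra.norm F z = σ (LinearMap.det (φ : Module.End F V)) := by
    rw [hz, map_mul, Algebra.norm_inv, (trace_norm_semilinear τ hτ _).2, hw, hμδ]
  obtain ⟨Z, hZ⟩ : ∃ Z : L ≃ₗ[F] L, ∀ a, Z a = z * a :=
    ⟨LinearEquiv.ofBijective (LinearMap.mulLeft F z) ⟨mul_right_injective₀ hz0,
      fun y => ⟨z⁻¹ * y, by simp [← mul_assoc, mul_inv_cancel₀ hz0]⟩⟩, fun a => rfl⟩
  obtain ⟨M, hM⟩ : ∃ M : V ≃ₗ[F] V, M = (ψ.symm.trans Z).trans ψ := ⟨_, rfl⟩
  have hMx : ∀ a, M (ψ a) = ψ (z * a) := fun a => by simp [hM, hZ]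
  have hMdet : LinearMap.det (M : Module.End F V) = Algebra.norm F z := by
    rw [show (M : Module.End F V) = (ψ : L →ₗ[F] V).comp ((Z : L →ₗ[F] L).comp
      (ψ.symm : V →ₗ[F] L)) by rw [hM]; rfl, LinearMap.det_conj,
      show (Z : L →ₗ[F] L) = Algebra.lmul F L z from LinearMap.ext fun a => hZ a, Algebra.norm_apply]
  refine ⟨φ.trans M, Classical.choose (hebij.2 (AdjoinRoot.root p)), ?_, ?_, ?_⟩
  · intro u v
    rw [LinearEquiv.trans_apply, LinearEquiv.trans_apply]
    obtain ⟨a, ha⟩ := ψ.surjective (φ u)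
    obtain ⟨b, hb⟩ := ψ.surjective (φ v)
    rw [← ha, ← hb, hMx, hMx, hψ, ← hφiso u v, ← ha, ← hb, hψ]
    congr 1
    rw [τ.map_mul]
    linear_combination (a * τ b) * hzz
  · show LinearMap.det ((M : Module.End F V).comp (φ : Module.End F V)) = 1
    rw [LinearMap.det_comp, hMdet, hNz, mul_comm]
    exact hd
  · intro x
    obtain ⟨a, rfl⟩ := hevsurj x
    obtain ⟨θ, hθ⟩ : ∃ θ, θ = Classical.choose (hebij.2 (AdjoinRoot.root p)) := ⟨_, rfl⟩
    have hθe : e θ = AdjoinRoot.root p := hθ ▸ Classical.choose_spec (hebij.2 (AdjoinRoot.root p))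
    have hga : g (ev a) = ev (θ * a) := by
      rw [hev, hev, map_mul, map_mul, hθe, hι'r]; rfl
    rw [← hθ, hga, LinearEquiv.trans_apply, LinearEquiv.trans_apply, hφ, hφ, hMx, hMx,
      LinearEquiv.symm_apply_apply]
    congr 1
    ring

/-- the unitary group of degree three in characteristic three -/
theorem coveredMod_su_three (hdim : finrank F V = 3) {G : Type*} [Group G] (ρ : G →* (V ≃ₗ[F] V))
    (hmem : ∀ g u v, h (ρ g u) (ρ g v) = h u v)
    (hdet : ∀ g, LinearMap.det (ρ g : Module.End F V) = 1)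
    (hsurj : ∀ P : V ≃ₗ[F] V, (∀ u v, h (P u) (P v) = h u v) →
      LinearMap.det (P : Module.End F V) = 1 → ∃ g, ρ g = P) :
    CoveredMod ρ := by
  classical
  haveI : Fact (Nat.Prime 3) := ⟨Nat.prime_three⟩
  haveI := Fintype.ofFinite F
  let L := FiniteField.Extension F 3 3
  haveI : Module.Finite F L := inferInstance
  haveI : Finite L := Module.finite_of_finite F
  haveI := Fintype.ofFinite L
  have hL : finrank F L = 3 := FiniteField.finrank_extension F 3 3
  obtain ⟨τ, hτne, hττ, hτ⟩ := exists_tau (L := L) hh.ne_id hh.invol (by rw [hL]; decide)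
  obtain ⟨ψ, hψ⟩ := exists_isometry_herm hh (traceHerm hh.ne_id hh.invol hττ hτ) (hL.trans hdim.symm)
  obtain ⟨ι, hι⟩ : ∃ ι : L →ₐ[F] Module.End F V, ∀ l v, ι l v = ψ (l * ψ.symm v) :=
    ⟨(ψ.conjAlgEquiv F).toAlgHom.comp (Algebra.lmul F L), fun l v => rfl⟩
  obtain ⟨A, hA⟩ : ∃ A, A = LinearMap.range ι.toLinearMap := ⟨_, rfl⟩
  -- the field automorphism of order three
  obtain ⟨t, ht⟩ : ∃ t : L →ₐ[F] L, ∀ x, t x = x ^ Fintype.card F :=
    ⟨FiniteField.frobeniusAlgHom F L, fun x => rfl⟩
  have htbij : Function.Bijective t :=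
    ⟨t.toRingHom.injective, (LinearMap.injective_iff_surjective (f := t.toLinearMap)).1
      t.toRingHom.injective⟩
  obtain ⟨T, hT⟩ : ∃ T : V ≃ₗ[F] V, ∀ a, T (ψ a) = ψ (t a) :=
    ⟨(ψ.symm.trans (LinearEquiv.ofBijective t.toLinearMap htbij)).trans ψ, fun a => by simp; rfl⟩
  have hTiso : ∀ u v, h (T u) (T v) = h u v := by
    intro u v
    obtain ⟨a, rfl⟩ := ψ.surjective u
    obtain ⟨b, rfl⟩ := ψ.surjective v
    rw [hT, hT, hψ, hψ, show τ (t b) = t (τ b) by rw [ht, ht, map_pow], ← map_mul]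
    exact Algebra.trace_eq_of_algEquiv (AlgEquiv.ofBijective t htbij) _
  have ht3 : ∀ a, t (t (t a)) = a := fun a => by
    rw [ht, ht, ht, ← pow_mul, ← pow_mul]
    have hc : Fintype.card L = Fintype.card F ^ 3 := by
      rw [← Nat.card_eq_fintype_card, Module.natCard_eq_pow_finrank (K := F), hL,
        Nat.card_eq_fintype_card]
    calc a ^ (Fintype.card F * (Fintype.card F * Fintype.card F)) = a ^ Fintype.card L := by
          rw [hc]; ring_nf
      _ = a := FiniteField.pow_card a
  have hT3 : (T : Module.End F V) ^ 3 = 1 := by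
    refine LinearMap.ext fun v => ?_
    obtain ⟨a, rfl⟩ := ψ.surjective v
    show T (T (T (ψ a))) = ψ a
    rw [hT, hT, hT, ht3]
  have hTdet : LinearMap.det (T : Module.End F V) = 1 :=
    eq_one_of_cube (by rw [← map_pow, hT3, map_one])
  have h3 : (3 : Module.End F V) = 0 := by
    refine LinearMap.ext fun v => ?_
    show (3 : ℕ) • v = 0
    rw [← Nat.cast_smul_eq_nsmul F, CharP.cast_eq_zero, zero_smul]
  have hTN3 : ((T : Module.End F V) - 1) ^ 3 = 0 := by
    have hp : (X - C 1 : F[X]) ^ 3 = X ^ 3 - C (1 ^ 3) := by rw [sub_pow_char, ← C_pow]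
    have h1 := congrArg (aeval (T : Module.End F V)) hp
    simpa [hT3] using h1
  have hTN2 : ((T : Module.End F V) - 1) ^ 2 ≠ 0 := by
    intro h0
    obtain ⟨a, ha⟩ := Algebra.trace_surjective F L 1
    have h1 := LinearMap.congr_fun h0 (ψ a)
    rw [sq, Module.End.mul_apply, LinearMap.sub_apply, LinearMap.sub_apply, LinearMap.zero_apply,
      LinearEquiv.coe_coe, Module.End.one_apply, hT, map_sub, hT, Module.End.one_apply, hT] at h1
    have h2 : t (t a) - t a - (t a - a) = 0 := ψ.injective (by rw [map_zero, ← h1]; simp [map_sub])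
    have h3' : (3 : L) = 0 := by
      rw [← map_ofNat (algebraMap F L), three_eq_zero, map_zero]
    have htr : algebraMap F L (Algebra.trace F L a) = a + t a + t (t a) := by
      rw [FiniteField.algebraMap_trace_eq_sum_pow, hL, Finset.sum_range_succ, Finset.sum_range_succ,
        Finset.sum_range_succ, Finset.sum_range_zero, Nat.card_eq_fintype_card, ht, ht, ← pow_mul]
      ring
    rw [ha, map_one] at htr
    exact one_ne_zero (α := L) (by linear_combination htr + h2 + (t a) * h3')
  -- membership in the normaliser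
  have hAinv : ∀ X ∈ A, X ≠ 0 → Function.Injective X := by
    rintro X hX hX0
    rw [hA] at hX
    obtain ⟨l, rfl⟩ := hX
    have hl : l ≠ 0 := fun h0 => hX0 (by rw [h0, map_zero])
    refine Function.LeftInverse.injective (g := ι l⁻¹) fun v => ?_
    show (ι l⁻¹ * ι l) v = v
    rw [← map_mul, inv_mul_cancel₀ hl, map_one]; rfl
  have hmemK : ∀ (x : G) (P : V ≃ₗ[F] V), ρ x = P →
      (∀ l : L, ∃ l' : L, ∀ v, P (ι l v) = ι l' (P v)) → x ∈ lineNormal ρ A := by
    intro x P hx hP
    refine mem_lineNormal_of_le fun X hX => ?_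
    rw [hA] at hX ⊢
    obtain ⟨l, rfl⟩ := hX
    obtain ⟨l', hl'⟩ := hP l
    refine ⟨l', LinearMap.ext fun v => ?_⟩
    obtain ⟨u, rfl⟩ := P.surjective v
    rw [LinearEquiv.conj_apply_apply, hx, LinearEquiv.symm_apply_apply]
    exact (hl' u).symm
  obtain ⟨b, hb⟩ := Hermitian.exists_orthonormal (n := 3) hh hdim
  obtain ⟨ζ, hζ⟩ := Hermitian.exists_norm hh.ne_id hh.invol (x := (-1 : F)) (by simp)
  obtain ⟨w, hw⟩ : ∃ w, w = b 0 + ζ • b 1 := ⟨_, rfl⟩
  have hww : h w w = 0 := by
    simp [hw, hh.add_left, hh.add_right, hh.smul_left, hh.smul_right, hb]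
    linear_combination hζ
  have hb0 : h (b 0) (b 0) = 1 := by simp [hb]
  have hb0w : h (b 0) w = 1 := by simp [hw, hh.add_right, hh.smul_right, hb]
  have hw0 : w ≠ 0 := fun h0 => by rw [h0, hh.zero_right] at hb0w; exact zero_ne_one hb0w
  obtain ⟨c, hc0, hc⟩ := exists_trace_zero hh
  obtain ⟨U, hU, hUdet, hUx⟩ := exists_transvection hh hww hc
  obtain ⟨u, hu⟩ := hsurj U hU hUdet
  refine ⟨setStab ρ (Submodule.span F {b 0} : Submodule F V), lineNormal ρ A, ?_, ?_,
    fun g c hg => ⟨scalar_mem_setStab _ hg, scalar_mem_lineNormal _ hg⟩, fun g => ?_⟩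
  · refine setStab_ne_top u (Submodule.mem_span_singleton_self (b 0)) ?_
    rw [hu, hUx, hb0w, mul_one, SetLike.mem_coe]
    intro h1
    have h2 : w ∈ Submodule.span F {b 0} := by
      have := Submodule.smul_mem _ c⁻¹ (Submodule.sub_mem _ h1 (Submodule.mem_span_singleton_self (b 0)))
      rwa [add_sub_cancel_left, inv_smul_smul₀ hc0] at this
    obtain ⟨z, hz⟩ := Submodule.mem_span_singleton.1 h2
    rw [← hz, hh.smul_left, hh.smul_right, hb0, mul_one] at hww
    have hz0 : z = 0 := (mul_eq_zero.1 hww).elim id fun h3 => (map_eq_zero σ).1 h3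
    exact hw0 (by rw [← hz, hz0, zero_smul])
  · obtain ⟨θ, hθ⟩ : ∃ θ : L, θ ∉ Set.range (algebraMap F L) := by
      by_contra hcon
      push Not at hcon
      have : finrank F L ≤ 1 := finrank_le_one 1 fun x => by
        obtain ⟨c, hc⟩ := hcon x
        exact ⟨c, by rw [← hc]; exact (Algebra.algebraMap_eq_smul_one c).symm⟩
      omega
    refine lineNormal_ne_top ρ A hAinv (by omega) (X := ι θ) (hA ▸ ⟨θ, rfl⟩) ?_ u w (c • hh.form w)
      hw0 ?_ (fun v => by rw [hu, hUx]; simp [Hermitian.IsHerm.form_apply])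
    · intro v hv a hva
      refine hθ ⟨a, ?_⟩
      rw [hι] at hva
      have h1 := congrArg ψ.symm hva
      rw [LinearEquiv.symm_apply_apply, map_smul, Algebra.smul_def] at h1
      exact (mul_right_cancel₀ (fun h0 => hv (ψ.symm.injective (h0.trans (map_zero _).symm))) h1).symm
    · intro h0
      have := LinearMap.congr_fun h0 (b 0)
      simp [Hermitian.IsHerm.form_apply, hb0w, hc0] at this
  by_cases hroot : ∃ c, (LinearMap.charpoly (ρ g : Module.End F V)).IsRoot c
  · rcases point_or_unipotent hh hdim (hmem g) (hdet g) hroot with ⟨v, hv, l, hl⟩ | ⟨hg3, hg2⟩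
    · obtain ⟨P, hP, hPdet, hPv⟩ := exists_su_point hh hv hb0
      obtain ⟨x, hx⟩ := hsurj P hP hPdet
      refine ⟨x, Or.inl (conj_mem_setStab_of_le (S' := Submodule.span F {v}) ?_ ?_ ?_)⟩
      · intro y hy
        obtain ⟨a, rfl⟩ := Submodule.mem_span_singleton.1 hy
        rw [map_smul, hl]
        exact Submodule.smul_mem _ _ (Submodule.smul_mem _ _ (Submodule.mem_span_singleton_self v))
      · intro y hy
        obtain ⟨a, rfl⟩ := Submodule.mem_span_singleton.1 hy
        rw [map_smul, hx]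
        exact Submodule.smul_mem _ _ hPv
      · rw [finrank_span_singleton (fun h0 => hv (by rw [h0, hh.zero_left])),
          finrank_span_singleton (fun h0 => by rw [h0, hh.zero_left] at hb0; exact zero_ne_one hb0)]
    · obtain ⟨P, hP, hPdet, hPg⟩ := exists_conj_regular hh hdim (hmem g) hTiso hg3 hg2 hTN3 hTN2
      obtain ⟨x, hx⟩ := hsurj P hP hPdet
      refine ⟨x, Or.inr (hmemK _ T ?_ fun l => ⟨t l, fun v => ?_⟩)⟩
      · refine LinearEquiv.ext fun y => ?_
        obtain ⟨z, rfl⟩ := (ρ x).surjective y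
        rw [rho_conj_apply, hx, hPg]
      · obtain ⟨a, rfl⟩ := ψ.surjective v
        rw [hι, hι, hT, LinearEquiv.symm_apply_apply, hT, map_mul, LinearEquiv.symm_apply_apply]
  · push Not at hroot
    have hirr := irreducible_of_degree_le_three_of_not_isRoot
      (p := LinearMap.charpoly (ρ g : Module.End F V))
      (by rw [LinearMap.charpoly_natDegree, hdim]; decide) hroot
    obtain ⟨P, l, hP, hPdet, hPg⟩ := exists_conj_torus hh hdim hL hτne hττ hτ ψ hψ (hmem g) hirr
    obtain ⟨x, hx⟩ := hsurj P hP hPdet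
    refine ⟨x, Or.inr (hmemK _ (ρ (x * g * x⁻¹)) rfl fun l' => ⟨l', fun v => ?_⟩)⟩
    obtain ⟨y, rfl⟩ := (ρ x).surjective v
    obtain ⟨y', hy'⟩ := (ρ x).surjective (ι l' (ρ x y))
    rw [← hy', rho_conj_apply, rho_conj_apply, hx, hPg, hPg, ← hx, hy', hι, hι, hx,
      LinearEquiv.symm_apply_apply, LinearEquiv.symm_apply_apply]
    congr 1
    ring

end Cfsg.Agent.UnionTwoClasses
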