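import Cfsg.Agent.Lib.UnionTwoClasses.Linear
import Cfsg.Agent.Lib.UnionTwoClasses.CharTwo
import Cfsg.Agent.Lib.UnionTwoClasses.Unitary3
import Cfsg.Agent.Lib.UnionTwoClasses.Symp6
import Cfsg.Agent.Lib.Classical.HermStd
import Cfsg.Agent.Lib.Spectra.UnitaryModels
import Cfsg.Agent.Lib.Classical.SympStab

/-!
# The projective classical groups covered by two classes of proper subgroups
-/

set_option autoImplicit false

namespace Cfsg.Agent.UnionTwoClasses

open Module

variable {F : Type} [Field F] [Fintype F]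

/-- the matrix action on vectors realises every map of determinant one -/
theorem sl_surj {n : ℕ} (P : (Fin n → F) ≃ₗ[F] (Fin n → F))
    (hP : LinearMap.det (P : Module.End F (Fin n → F)) = 1) :
    ∃ g : Matrix.SpecialLinearGroup (Fin n) F, Matrix.SpecialLinearGroup.toLin' g = P :=
  ⟨⟨LinearMap.toMatrix' P.toLinearMap, by rw [LinearMap.det_toMatrix']; exact hP⟩,
    LinearEquiv.toLinearMap_injective
      ((Matrix.SpecialLinearGroup.toLin'_to_linearMap _).trans (Matrix.toLin'_toMatrix' _))⟩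

theorem covered_psl {n : ℕ} (hn2 : 2 ≤ n) (hn4 : n ≤ 4) :
    Covered (Matrix.ProjectiveSpecialLinearGroup (Fin n) F) := by
  refine covered_of_coveredMod _ (fun g hg => ?_)
    (coveredMod_linear hn2 hn4 (by simp) Matrix.SpecialLinearGroup.toLin' sl_surj)
  obtain ⟨r, -, hr⟩ := Matrix.SpecialLinearGroup.mem_center_iff.1 hg
  refine ⟨r, fun v => ?_⟩
  rw [Matrix.SpecialLinearGroup.toLin'_apply, Matrix.toLin'_apply, ← hr, Matrix.scalar_apply]
  ext i
  simp [Matrix.mulVec_diagonal]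

theorem covered_psu {n q : ℕ} (hF : Fintype.card F = q ^ 2) (hn : n = 4 ∨ (n = 3 ∧ CharP F 3)) :
    Covered (Cfsg.PSU n F q) := by
  classical
  obtain ⟨σ, hσ, hne, hinv, -, -⟩ := HermStd.exists_sigma hF
  have hh := HermStd.isHerm_std hne hinv hσ n
  obtain ⟨ρ, hρ⟩ : ∃ ρ : Cfsg.SU n F q →* ((Fin n → F) ≃ₗ[F] (Fin n → F)),
      ρ = Matrix.SpecialLinearGroup.toLin'.comp (Cfsg.SU n F q).subtype := ⟨_, rfl⟩
  have hρv : ∀ g v, ρ g v = Matrix.mulVec ((g : Matrix.SpecialLinearGroup (Fin n) F) : Matrix (Fin n) (Fin n) F) v :=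
    fun g v => by rw [hρ]; rfl
  have hmem : ∀ g u v, Cfsg.hermForm n F q (ρ g u) (ρ g v) = Cfsg.hermForm n F q u v :=
    fun g u v => by rw [hρv, hρv]; exact g.2 u v
  have hdet : ∀ g, LinearMap.det (ρ g : Module.End F (Fin n → F)) = 1 := fun g => by
    rw [hρ, MonoidHom.comp_apply, Matrix.SpecialLinearGroup.toLin'_to_linearMap, LinearMap.det_toLin']
    exact g.1.2
  have hsurj : ∀ P : (Fin n → F) ≃ₗ[F] (Fin n → F),
      (∀ u v, Cfsg.hermForm n F q (P u) (P v) = Cfsg.hermForm n F q u v) →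
      LinearMap.det (P : Module.End F (Fin n → F)) = 1 → ∃ g, ρ g = P := by
    intro P hP hPdet
    obtain ⟨A, hA⟩ := sl_surj P hPdet
    refine ⟨⟨A, fun u v => ?_⟩, by rw [hρ]; exact hA⟩
    show Cfsg.hermForm n F q (Matrix.mulVec (A : Matrix (Fin n) (Fin n) F) u)
      (Matrix.mulVec (A : Matrix (Fin n) (Fin n) F) v) = _
    have : ∀ w, Matrix.mulVec (A : Matrix (Fin n) (Fin n) F) w = P w := fun w => by rw [← hA]; rfl
    rw [this, this, hP]
  have hcov : CoveredMod ρ := by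
    rcases hn with rfl | ⟨rfl, hp⟩
    · exact coveredMod_su_four hh (by simp) ρ hmem hsurj
    · haveI := hp
      exact coveredMod_su_three hh (by simp) ρ hmem hdet hsurj
  refine covered_of_coveredMod _ (fun g hg => ?_) hcov
  obtain ⟨τ, hτ⟩ : ∃ τ : F ≃+* F, ∀ x, τ x = σ x :=
    ⟨RingEquiv.ofBijective σ (Function.Involutive.bijective hinv), fun x => rfl⟩
  obtain ⟨t, ht⟩ : ∃ t, σ t ≠ t := by
    by_contra hcon
    push Not at hcon
    exact hne (RingHom.ext hcon)
  have ht0 : t ≠ 0 := fun h0 => ht (by rw [h0, map_zero])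
  obtain ⟨c, hc⟩ := (UnitarySpectra.mk_eq_one_iff τ (fun x => (hτ x).trans (hσ x))
    (by omega) (ζ := t / σ t) (by
      rw [hτ, map_div₀, hinv]
      field_simp [ht0, (map_ne_zero σ).2 ht0])
    (fun h1 => ht ((div_eq_one_iff_eq ((map_ne_zero σ).2 ht0)).1 h1).symm) g).1
    ((QuotientGroup.eq_one_iff _).2 hg)
  exact ⟨c, fun v => by rw [hρv, hc, Matrix.smul_mulVec, Matrix.one_mulVec]⟩

theorem covered_psp_six [CharP F 3] : Covered (Cfsg.PSp 3 F) := by
  classical
  haveI : Fact (Nat.Prime 3) := ⟨Nat.prime_three⟩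
  let L := FiniteField.Extension F 3 3
  have hL : finrank F L = 3 := FiniteField.finrank_extension F 3 3
  obtain ⟨ψ, hψ⟩ := SympStab.exists_isometry (m := 3) (B := traceSymp F L) traceSymp_isAlt
    traceSymp_nondeg.1 (by rw [Module.finrank_prod, hL])
  obtain ⟨ρ, hρ⟩ : ∃ ρ : Matrix.symplecticGroup (Fin 3) F →* ((L × L) ≃ₗ[F] (L × L)),
      ∀ g v, ρ g (ψ v) = ψ (ClassicalSp.toEquiv g v) :=
    ⟨{ toFun := fun g => (ψ.symm.trans (ClassicalSp.toEquiv g)).trans ψ
       map_one' := LinearEquiv.ext fun v => by simp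
       map_mul' := fun g k => LinearEquiv.ext fun v => by simp }, fun g v => by simp⟩
  refine covered_of_coveredMod _ (fun g hg => ?_) (coveredMod_symp_six hL ρ (fun g a b => ?_) ?_)
  · have hc : ClassicalSp.spEquiv g ∈
        Subgroup.center (AltForm.isoGroup (ClassicalSp.spBilin 3 F)) := by
      rw [Subgroup.mem_center_iff]
      intro k
      obtain ⟨k, rfl⟩ := (ClassicalSp.spEquiv (m := 3) (F := F)).surjective k
      rw [← map_mul, ← map_mul, Subgroup.mem_center_iff.1 hg k]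
    rcases (ClassicalSp.isoGroup_mem_center_iff (by norm_num) _).1 hc with h | h
    · refine ⟨1, fun v => ?_⟩
      obtain ⟨u, rfl⟩ := ψ.surjective v
      rw [hρ, one_smul]
      exact congrArg ψ (h u)
    · refine ⟨-1, fun v => ?_⟩
      obtain ⟨u, rfl⟩ := ψ.surjective v
      rw [hρ, neg_smul, one_smul, ← map_neg]
      exact congrArg ψ (h u)
  · obtain ⟨u, rfl⟩ := ψ.surjective a
    obtain ⟨v, rfl⟩ := ψ.surjective b
    rw [hρ, hρ, hψ, hψ]
    exact ClassicalSp.toEquiv_mem g u v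
  · intro P hP
    obtain ⟨g, hg⟩ := ClassicalSp.toEquiv_surj (g := (ψ.trans P).trans ψ.symm) (fun u v => by
      rw [← hψ, ← hψ]
      simp only [LinearEquiv.trans_apply, LinearEquiv.apply_symm_apply]
      exact hP _ _)
    refine ⟨g, LinearEquiv.ext fun a => ?_⟩
    obtain ⟨u, rfl⟩ := ψ.surjective a
    rw [hρ, hg]
    simp

end Cfsg.Agent.UnionTwoClasses
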