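import Cfsg.Agent.Lib.UnionTwoClasses.UnitaryTools
import Cfsg.Agent.Lib.Classical.AlternatingForm

/-!
# Isometries of a six-dimensional alternating form in odd characteristic

The element `a = g + g⁻¹` is self-adjoint and its cyclic subspaces are totally isotropic; either `g`
fixes a non-degenerate plane, or the orbit of one vector under `F[a]` and `g` is everything, or `g`
is plus or minus a unipotent element of index three.
-/

set_option autoImplicit false

universe u v

namespace Cfsg.Agent.UnionTwoClasses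

open Polynomial Module
open LinearMap (BilinForm)

variable {F : Type u} [Field F] {V : Type v} [AddCommGroup V] [Module F V] {B : BilinForm F V}

/-- `g + g⁻¹` -/
def plusInv (g : V ≃ₗ[F] V) : Module.End F V := (g : Module.End F V) + (g.symm : Module.End F V)

theorem plusInv_apply (g : V ≃ₗ[F] V) (x : V) : plusInv g x = g x + g.symm x := rfl

theorem g_g (g : V ≃ₗ[F] V) (x : V) : g (g x) = plusInv g (g x) - x := by
  rw [plusInv_apply, LinearEquiv.symm_apply_apply, add_sub_cancel_right]

theorem g_plusInv (g : V ≃ₗ[F] V) (x : V) : g (plusInv g x) = plusInv g (g x) := by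
  rw [plusInv_apply, plusInv_apply, map_add, LinearEquiv.apply_symm_apply,
    LinearEquiv.symm_apply_apply]

theorem g_aeval (g : V ≃ₗ[F] V) (P : F[X]) (x : V) :
    g (aeval (plusInv g) P x) = aeval (plusInv g) P (g x) := by
  induction P using Polynomial.induction_on generalizing x with
  | C c => rw [aeval_C, Module.algebraMap_end_apply, Module.algebraMap_end_apply, map_smul]
  | add p q hp hq => rw [map_add, LinearMap.add_apply, LinearMap.add_apply, map_add, hp, hq]
  | monomial n c ih =>
    rw [pow_succ, ← mul_assoc]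
    generalize C c * X ^ n = P at ih ⊢
    rw [map_mul, aeval_X, Module.End.mul_apply, Module.End.mul_apply, ih, g_plusInv]

section iso

variable {g : V ≃ₗ[F] V} (hg : g ∈ AltForm.isoGroup B)
include hg

theorem plusInv_adjoint (x y : V) : B (plusInv g x) y = B x (plusInv g y) := by
  have h1 : B (g x) y = B x (g.symm y) := by
    conv_lhs => rw [← g.apply_symm_apply y]
    exact hg _ _
  have h2 : B (g.symm x) y = B x (g y) := by
    conv_rhs => rw [← g.apply_symm_apply x]
    exact (hg _ _).symm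
  rw [plusInv_apply, plusInv_apply, map_add, LinearMap.add_apply, map_add, h1, h2, add_comm]

theorem aeval_adjoint (P : F[X]) (x y : V) :
    B (aeval (plusInv g) P x) y = B x (aeval (plusInv g) P y) := by
  induction P using Polynomial.induction_on generalizing x y with
  | C c =>
    rw [aeval_C, Module.algebraMap_end_apply, Module.algebraMap_end_apply, map_smul,
      LinearMap.smul_apply, map_smul]
  | add p q hp hq =>
    rw [map_add, LinearMap.add_apply, LinearMap.add_apply, map_add, LinearMap.add_apply, hp, hq,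
      map_add]
  | monomial n c ih =>
    rw [pow_succ, ← mul_assoc]
    generalize C c * X ^ n = P at ih ⊢
    nth_rewrite 2 [mul_comm]
    rw [map_mul, map_mul, aeval_X, Module.End.mul_apply, Module.End.mul_apply, ih, plusInv_adjoint hg]

theorem aeval_alt (hA : B.IsAlt) (h2 : (2 : F) ≠ 0) (P : F[X]) (x : V) :
    B (aeval (plusInv g) P x) x = 0 := by
  have h := aeval_adjoint hg P x x
  rw [AltForm.swap hA (aeval (plusInv g) P x) x] at h
  exact (mul_eq_zero.1 (show (2 : F) * B (aeval (plusInv g) P x) x = 0 by linear_combination h)).resolve_left h2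

theorem aeval_iso (hA : B.IsAlt) (h2 : (2 : F) ≠ 0) (P Q : F[X]) (x : V) :
    B (aeval (plusInv g) P x) (aeval (plusInv g) Q x) = 0 := by
  rw [← aeval_adjoint hg, ← Module.End.mul_apply, ← map_mul, aeval_alt hg hA h2]

end iso

/-- the orbit of a vector under `F[a]` and `g` -/
noncomputable def orbitMap (g : V ≃ₗ[F] V) (x : V) : (F[X] × F[X]) →ₗ[F] V :=
  ((LinearMap.applyₗ x).comp (aeval (plusInv g)).toLinearMap).coprod
    ((LinearMap.applyₗ (g x)).comp (aeval (plusInv g)).toLinearMap)

theorem orbitMap_apply (g : V ≃ₗ[F] V) (x : V) (P Q : F[X]) :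
    orbitMap g x (P, Q) = aeval (plusInv g) P x + aeval (plusInv g) Q (g x) := rfl

theorem g_orbitMap (g : V ≃ₗ[F] V) (x : V) (P Q : F[X]) :
    g (orbitMap g x (P, Q)) = orbitMap g x (-Q, P + Q * X) := by
  rw [orbitMap_apply, orbitMap_apply, map_add, g_aeval, g_aeval, g_g, map_sub, map_neg, map_add,
    map_mul, aeval_X, LinearMap.neg_apply, LinearMap.add_apply, Module.End.mul_apply]
  abel

/-- the functional of a vector -/
noncomputable def orbitFun (B : BilinForm F V) (g : V ≃ₗ[F] V) (x : V) : F[X] →ₗ[F] F :=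
  (B.flip (g x)).comp ((LinearMap.applyₗ x).comp (aeval (plusInv g)).toLinearMap)

theorem orbitFun_apply (g : V ≃ₗ[F] V) (x : V) (P : F[X]) :
    orbitFun B g x P = B (aeval (plusInv g) P x) (g x) := rfl

theorem form_orbitMap {g : V ≃ₗ[F] V} (hg : g ∈ AltForm.isoGroup B) (hA : B.IsAlt) (h2 : (2 : F) ≠ 0)
    (x : V) (P Q P' Q' : F[X]) :
    B (orbitMap g x (P, Q)) (orbitMap g x (P', Q')) = orbitFun B g x (P * Q' - Q * P') := by
  have hgg : ∀ R S : F[X], B (aeval (plusInv g) R (g x)) (aeval (plusInv g) S (g x)) = 0 := fun R S => by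
    rw [← g_aeval, ← g_aeval, hg, aeval_iso hg hA h2]
  have hxg : ∀ R S : F[X], B (aeval (plusInv g) R x) (aeval (plusInv g) S (g x)) =
      orbitFun B g x (S * R) := fun R S => by
    rw [← aeval_adjoint hg, ← Module.End.mul_apply, ← map_mul]; rfl
  rw [orbitMap_apply, orbitMap_apply]
  simp only [map_add, LinearMap.add_apply]
  rw [aeval_iso hg hA h2, hgg, hxg, zero_add, add_zero,
    AltForm.swap hA (aeval (plusInv g) P' x), hxg, map_sub, mul_comm Q' P]
  ring

variable [FiniteDimensional F V]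

/-- the outcome of the analysis of an isometry -/
def HasPlane (B : BilinForm F V) (g : V ≃ₗ[F] V) : Prop :=
  ∃ u v : V, B u v = 1 ∧ g u ∈ Submodule.span F {u, v} ∧ g v ∈ Submodule.span F {u, v}

/-- an invariant non-degenerate subspace of dimension two or four gives an invariant plane -/
theorem hasPlane_of_nondeg (hA : B.IsAlt) (hB : B.Nondegenerate) (hdim : finrank F V = 6)
    {g : V ≃ₗ[F] V} (hg : g ∈ AltForm.isoGroup B) {S : Submodule F V}
    (hS : ∀ u ∈ S, (∀ v ∈ S, B u v = 0) → u = 0) (hinv : ∀ u ∈ S, g u ∈ S)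
    (hd : finrank F S = 2 ∨ finrank F S = 4) : HasPlane B g := by
  -- reduce to dimension two
  suffices H : ∀ T : Submodule F V, (∀ u ∈ T, (∀ v ∈ T, B u v = 0) → u = 0) → (∀ u ∈ T, g u ∈ T) →
      finrank F T = 2 → HasPlane B g by
    rcases hd with hd | hd
    · exact H S hS hinv hd
    have hrefl : B.IsRefl := hA.isRefl
    have hnd : (B.restrict S).Nondegenerate := by
      refine ⟨fun u hu => Subtype.ext (hS u u.2 fun v hv => hu ⟨v, hv⟩), fun u hu => ?_⟩
      refine Subtype.ext (hS u u.2 fun v hv => ?_)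
      exact hrefl _ _ (hu ⟨v, hv⟩)
    have hc := LinearMap.BilinForm.isCompl_orthogonal_of_restrict_nondegenerate hrefl hnd
    refine H (B.orthogonal S) ?_ ?_ ?_
    · intro u hu hu'
      refine hB.1 u fun w => ?_
      obtain ⟨s, hs, t, ht, rfl⟩ := Submodule.mem_sup.1 (hc.sup_eq_top.symm ▸ Submodule.mem_top (x := w))
      rw [map_add, hu' t ht, add_zero]
      exact hrefl _ _ (hu s hs)
    · intro u hu s hs
      have hmap : S.map (g : V →ₗ[F] V) = S :=
        Submodule.eq_of_le_of_finrank_eq (Submodule.map_le_iff_le_comap.2 hinv)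
          (LinearEquiv.finrank_map_eq g S)
      obtain ⟨s', hs', rfl⟩ : ∃ s' ∈ S, g s' = s := by
        have h1 : s ∈ S.map (g : V →ₗ[F] V) := hmap.symm ▸ hs
        exact h1
      show B (g s') (g u) = 0
      rw [hg]
      exact hu s' hs'
    · rw [LinearMap.BilinForm.finrank_orthogonal hB, hdim, hd]
  intro T hT hTinv hT2
  obtain ⟨⟨u, huT⟩, hu0⟩ : ∃ u : T, u ≠ 0 :=
    Module.finrank_pos_iff_exists_ne_zero.1 (by omega : 0 < finrank F T)
  obtain ⟨w, hwT, hw⟩ : ∃ w ∈ T, B u w ≠ 0 := by
    by_contra hcon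
    push Not at hcon
    exact hu0 (Subtype.ext (hT u huT hcon))
  obtain ⟨v, hv⟩ : ∃ v, v = (B u w)⁻¹ • w := ⟨_, rfl⟩
  have huv : B u v = 1 := by rw [hv, map_smul, smul_eq_mul, inv_mul_cancel₀ hw]
  have hli : LinearIndependent F ![u, v] := by
    rw [LinearIndependent.pair_iff]
    intro s t hst
    have h1 := congrArg (B u) hst
    have h2 := congrArg (fun y => B y v) hst
    simp [hA.self_eq_zero, huv] at h1 h2
    exact ⟨h2, h1⟩
  have hspan : Submodule.span F {u, v} = T := by
    refine Submodule.eq_of_le_of_finrank_le ?_ ?_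
    · rw [Submodule.span_le]
      rintro z (rfl | rfl)
      · exact huT
      · exact hv ▸ T.smul_mem _ hwT
    · rw [hT2, show ({u, v} : Set V) = Set.range ![u, v] by simp [Set.pair_comm],
        finrank_span_eq_card hli, Fintype.card_fin]
  exact ⟨u, v, huv, hspan ▸ hTinv u huT, hspan ▸ hTinv v (hv ▸ T.smul_mem _ hwT)⟩

/-- an isometry with square one fixes a plane -/
theorem hasPlane_of_sq (hA : B.IsAlt) (hB : B.Nondegenerate) (h2 : (2 : F) ≠ 0)
    [Nontrivial V] {g : V ≃ₗ[F] V} (hg : g ∈ AltForm.isoGroup B) (hsq : ∀ x, g (g x) = x) :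
    HasPlane B g := by
  by_cases hfix : ∃ x, x ≠ 0 ∧ g x = x
  · obtain ⟨x, hx, hgx⟩ := hfix
    obtain ⟨w, hw⟩ := AltForm.exists_eq_one hB hx
    obtain ⟨y, hy⟩ : ∃ y, y = (2 : F)⁻¹ • (w + g w) := ⟨_, rfl⟩
    have h1 : B x (g w) = 1 := by nth_rewrite 1 [← hgx]; rw [hg, hw]
    refine ⟨x, y, ?_, ?_, ?_⟩
    · rw [hy, map_smul, map_add, hw, h1, smul_eq_mul]
      field_simp; norm_num
    · rw [hgx]; exact Submodule.subset_span (by simp)
    · rw [hy, map_smul, map_add, hsq, add_comm (g w) w, ← hy]; exact Submodule.subset_span (by simp)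
  · push Not at hfix
    have hneg : ∀ x, g x = -x := fun x => by
      by_contra h
      refine hfix (x + g x) (fun h0 => h (eq_neg_of_add_eq_zero_right h0)) ?_
      rw [map_add, hsq, add_comm]
    obtain ⟨x, hx⟩ := exists_ne (0 : V)
    obtain ⟨w, hw⟩ := AltForm.exists_eq_one hB hx
    refine ⟨x, w, hw, ?_, ?_⟩ <;> rw [hneg] <;>
      exact Submodule.neg_mem _ (Submodule.subset_span (by simp))

/-- a unipotent isometry of a six-dimensional space has no Jordan block of size five -/
theorem no_index_five (hA : B.IsAlt) (hB : B.Nondegenerate) (hdim : finrank F V = 6)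
    (h2 : (2 : F) ≠ 0) {g : V ≃ₗ[F] V} (hg : g ∈ AltForm.isoGroup B)
    (h5 : ((g : Module.End F V) - 1) ^ 5 = 0) : ((g : Module.End F V) - 1) ^ 4 = 0 := by
  by_contra h4
  obtain ⟨N, hN⟩ : ∃ N, N = (g : Module.End F V) - 1 := ⟨_, rfl⟩
  rw [← hN] at h4 h5
  obtain ⟨M, hM⟩ : ∃ M, M = N ^ 4 := ⟨_, rfl⟩
  rw [← hM] at h4
  -- the fourth power is self-adjoint
  have hgM : ∀ x, g (M x) = M x := fun x => by
    have := LinearMap.congr_fun h5 x
    rw [pow_succ', Module.End.mul_apply, ← hM, hN, LinearMap.sub_apply, LinearMap.zero_apply,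
      sub_eq_zero] at this
    exact this
  obtain ⟨K, hK⟩ : ∃ K, K = (g.symm : Module.End F V) - 1 := ⟨_, rfl⟩
  have hgs : (g : Module.End F V) * (g.symm : Module.End F V) = 1 :=
    LinearMap.ext fun x => g.apply_symm_apply x
  have hsg : (g.symm : Module.End F V) * (g : Module.End F V) = 1 :=
    LinearMap.ext fun x => g.symm_apply_apply x
  have hKN : K = -((g.symm : Module.End F V) * N) := by rw [hK, hN, mul_sub, hsg, mul_one]; abel
  have hcomm : Commute (g.symm : Module.End F V) N := by
    show _ * _ = _ * _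
    rw [hN, mul_sub, sub_mul, hsg, hgs, mul_one, one_mul]
  have hsM : ∀ x, g.symm (M x) = M x := fun x => by
    conv_lhs => rw [← hgM x]
    exact g.symm_apply_apply _
  have hK4 : K ^ 4 = M := by
    have hev : Even 4 := by decide
    rw [hKN, hev.neg_pow, hcomm.mul_pow, ← hM]
    refine LinearMap.ext fun x => ?_
    simp only [pow_succ, pow_zero, one_mul, Module.End.mul_apply, LinearEquiv.coe_coe, hsM]
  have hadj1 : ∀ x y, B (N x) y = B x (K y) := fun x y => by
    rw [hN, hK, LinearMap.sub_apply, LinearMap.sub_apply, map_sub, LinearMap.sub_apply, map_sub]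
    congr 1
    conv_lhs => rw [← g.apply_symm_apply y]
    exact hg _ _
  have hadj : ∀ (k : ℕ) x y, B ((N ^ k) x) y = B x ((K ^ k) y) := by
    intro k
    induction k with
    | zero => intro x y; simp
    | succ k ih => intro x y; rw [pow_succ, Module.End.mul_apply, ih, hadj1, ← Module.End.mul_apply, ← pow_succ']
  have hM0 : ∀ x, B (M x) x = 0 := fun x => by
    have h1 : B (M x) x = B x (M x) := by
      conv_lhs => rw [hM, hadj, hK4]
    rw [AltForm.swap hA (M x) x] at h1
    exact (mul_eq_zero.1 (show (2 : F) * B (M x) x = 0 by linear_combination h1)).resolve_left h2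
  obtain ⟨x, hx⟩ : ∃ x, M x ≠ 0 := by
    by_contra hcon
    push Not at hcon
    exact h4 (LinearMap.ext hcon)
  obtain ⟨y, hy⟩ := AltForm.exists_eq_one hB hx
  have hrank : 2 ≤ finrank F (LinearMap.range M) := by
    have hli : LinearIndependent F ![(⟨M x, x, rfl⟩ : LinearMap.range M), ⟨M y, y, rfl⟩] := by
      rw [LinearIndependent.pair_iff]
      intro s t hst
      have h1 : s • M x + t • M y = 0 := congrArg Subtype.val hst
      have h3 := congrArg (fun z => B z y) h1
      simp [hy, hM0] at h3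
      subst h3
      have h6 := congrArg (fun z => B z x) h1
      have hMyx : B (M y) x = -1 := by
        rw [hM, hadj, hK4, AltForm.swap hA (M x) y, hy]
      simp [hMyx] at h6
      exact ⟨rfl, h6⟩
    simpa using hli.fintype_card_le_finrank
  have step : ∀ j, j ≤ 4 →
      finrank F (LinearMap.range (N ^ (j + 1))) + finrank F (LinearMap.range M) ≤
        finrank F (LinearMap.range (N ^ j)) := by
    intro j hj
    have h1 := LinearMap.finrank_range_add_finrank_ker (N.domRestrict (LinearMap.range (N ^ j)))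
    have h6 : LinearMap.range (N.domRestrict (LinearMap.range (N ^ j))) = LinearMap.range (N ^ (j + 1)) := by
      rw [LinearMap.range_domRestrict, pow_succ', Module.End.mul_eq_comp, LinearMap.range_comp]
    have h7 : finrank F (LinearMap.range M) ≤
        finrank F (LinearMap.ker (N.domRestrict (LinearMap.range (N ^ j)))) := by
      have hle : LinearMap.range M ≤ LinearMap.range (N ^ j) := by
        rw [hM, show (4 : ℕ) = j + (4 - j) by omega, pow_add, Module.End.mul_eq_comp]
        exact LinearMap.range_comp_le_range _ _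
      rw [← (Submodule.comapSubtypeEquivOfLe hle).finrank_eq]
      refine Submodule.finrank_mono fun z hz => ?_
      obtain ⟨w, hw⟩ := hz
      rw [LinearMap.mem_ker, LinearMap.domRestrict_apply]
      rw [show ((z : LinearMap.range (N ^ j)) : V) = M w from hw.symm, hM, ← Module.End.mul_apply,
        ← pow_succ', h5]
      rfl
    rw [h6] at h1
    omega
  have := step 0 (by omega); have := step 1 (by omega); have := step 2 (by omega)
  have := step 3 (by omega); have := step 4 (by omega)
  have h8 : finrank F (LinearMap.range (N ^ 0)) ≤ 6 := (Submodule.finrank_le _).trans hdim.le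
  simp only [Nat.reduceAdd] at *
  omega

/-- the orbit of a vector of full height -/
theorem orbit_spec (hA : B.IsAlt) (h2 : (2 : F) ≠ 0) {g : V ≃ₗ[F] V} (hg : g ∈ AltForm.isoGroup B)
    {p : F[X]} (hpm : p.Monic) (hpi : Irreducible p) {e : ℕ} (he1 : 1 ≤ e)
    (hma : aeval (plusInv g) (p ^ e) = 0) {x : V} (hx : orbitFun B g x (p ^ (e - 1)) ≠ 0) :
    (∀ P Q : F[X], orbitMap g x (P, Q) = 0 ↔ p ^ e ∣ P ∧ p ^ e ∣ Q) ∧
      (∀ u ∈ LinearMap.range (orbitMap g x),
        (∀ w ∈ LinearMap.range (orbitMap g x), B u w = 0) → u = 0) ∧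
      finrank F (LinearMap.range (orbitMap g x)) = e * p.natDegree + e * p.natDegree := by
  classical
  obtain ⟨a, ha⟩ : ∃ a, a = plusInv g := ⟨_, rfl⟩
  rw [← ha] at hma
  have hpe : (p ^ e).Monic := hpm.pow e
  have hmd : (p ^ e).natDegree = e * p.natDegree := natDegree_pow p e
  have hzero : ∀ (P : F[X]) (z : V), p ^ e ∣ P → aeval a P z = 0 := by
    rintro P z ⟨Q, rfl⟩
    rw [mul_comm, map_mul, Module.End.mul_apply, hma, LinearMap.zero_apply, map_zero]
  have hω : ∀ P : F[X], p ^ e ∣ P → orbitFun B g x P = 0 := fun P hP => by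
    rw [orbitFun_apply, ← ha, hzero P x hP, map_zero, LinearMap.zero_apply]
  have hpair : ∀ P : F[X], ¬ p ^ e ∣ P → ∃ Q, orbitFun B g x (P * Q) ≠ 0 := by
    intro P hP
    obtain ⟨i, hi, hassoc⟩ := (dvd_prime_pow hpi.prime e).1 (EuclideanDomain.gcd_dvd_right P (p ^ e))
    have hlt : i < e := by
      by_contra hge
      have : i = e := by omega
      subst this
      exact hP (hassoc.symm.dvd.trans (EuclideanDomain.gcd_dvd_left P (p ^ i)))
    have h1 : EuclideanDomain.gcd P (p ^ e) ∣ p ^ (e - 1) :=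
      hassoc.dvd.trans (pow_dvd_pow p (by omega))
    obtain ⟨w, hw⟩ := h1
    refine ⟨EuclideanDomain.gcdA P (p ^ e) * w, fun h0 => hx ?_⟩
    rw [hw, EuclideanDomain.gcd_eq_gcd_ab, add_mul, map_add, mul_assoc P, h0, zero_add]
    exact hω _ (dvd_mul_of_dvd_left (dvd_mul_right _ _) _)
  have hker : ∀ P Q : F[X], (∀ P' Q' : F[X], B (orbitMap g x (P, Q)) (orbitMap g x (P', Q')) = 0) →
      p ^ e ∣ P ∧ p ^ e ∣ Q := by
    intro P Q hPQ
    constructor <;> by_contra hnd
    · obtain ⟨R, hR⟩ := hpair P hnd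
      have h1 := hPQ 0 R
      rw [form_orbitMap hg hA h2, mul_zero, sub_zero] at h1
      exact hR h1
    · obtain ⟨R, hR⟩ := hpair Q hnd
      have h1 := hPQ R 0
      rw [form_orbitMap hg hA h2, mul_zero, zero_sub, map_neg, neg_eq_zero] at h1
      exact hR h1
  have hiff : ∀ P Q : F[X], orbitMap g x (P, Q) = 0 ↔ p ^ e ∣ P ∧ p ^ e ∣ Q := by
    refine fun P Q => ⟨fun h0 => hker P Q fun P' Q' => by rw [h0, map_zero, LinearMap.zero_apply],
      fun h0 => ?_⟩
    rw [orbitMap_apply, ← ha, hzero P x h0.1, hzero Q (g x) h0.2, add_zero]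
  -- the dimension of the orbit
  obtain ⟨n, hn⟩ : ∃ n, n = e * p.natDegree := ⟨_, rfl⟩
  obtain ⟨Φ, hΦ⟩ : ∃ Φ : (degreeLT F n × degreeLT F n) →ₗ[F] V,
      ∀ P, Φ P = orbitMap g x ((P.1 : F[X]), (P.2 : F[X])) :=
    ⟨(orbitMap g x).comp ((Submodule.subtype _).prodMap (Submodule.subtype _)), fun P => rfl⟩
  have hsmall : ∀ P ∈ degreeLT F n, p ^ e ∣ P → P = 0 := by
    intro P hP hd
    by_contra hne
    have h1 := natDegree_le_of_dvd hd hne
    have h3 := (natDegree_lt_iff_degree_lt hne).2 (mem_degreeLT.1 hP)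
    omega
  have hΦi : Function.Injective Φ := by
    refine (injective_iff_map_eq_zero _).2 fun P hP => ?_
    rw [hΦ] at hP
    obtain ⟨h1, h3⟩ := (hiff _ _).1 hP
    exact Prod.ext (Subtype.ext (hsmall _ P.1.2 h1)) (Subtype.ext (hsmall _ P.2.2 h3))
  have hmod : ∀ P : F[X], ∃ P' ∈ degreeLT F n, p ^ e ∣ P - P' := by
    intro P
    refine ⟨P %ₘ (p ^ e), ?_, ?_⟩
    · rw [mem_degreeLT]
      refine (degree_modByMonic_lt P hpe).trans_le ?_
      rw [degree_eq_natDegree hpe.ne_zero, hmd, hn]
    · exact ⟨P /ₘ (p ^ e), by linear_combination (modByMonic_add_div P (p ^ e)).symm⟩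
  have hrange : LinearMap.range Φ = LinearMap.range (orbitMap g x) := by
    apply le_antisymm
    · rintro _ ⟨P, rfl⟩
      exact ⟨_, (hΦ P).symm⟩
    · rintro _ ⟨⟨P, Q⟩, rfl⟩
      obtain ⟨P', hP', hPd⟩ := hmod P
      obtain ⟨Q', hQ', hQd⟩ := hmod Q
      refine ⟨(⟨P', hP'⟩, ⟨Q', hQ'⟩), ?_⟩
      rw [hΦ, eq_comm, ← sub_eq_zero, ← map_sub]
      exact (hiff _ _).2 ⟨hPd, hQd⟩
  have hdimW : finrank F (LinearMap.range (orbitMap g x)) = n + n := by
    rw [← hrange, LinearMap.finrank_range_of_inj hΦi, Module.finrank_prod,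
      (degreeLTEquiv F n).finrank_eq, finrank_fin_fun]
  refine ⟨hiff, ?_, hn ▸ hdimW⟩
  rintro _ ⟨⟨P, Q⟩, rfl⟩ hu
  exact (hiff P Q).2 (hker P Q fun P' Q' => hu _ ⟨(P', Q'), rfl⟩)

/-- the cases for an isometry of a six-dimensional alternating form -/
theorem symp_six_cases (hA : B.IsAlt) (hB : B.Nondegenerate) (hdim : finrank F V = 6)
    (h2 : (2 : F) ≠ 0) {g : V ≃ₗ[F] V} (hg : g ∈ AltForm.isoGroup B) :
    HasPlane B g ∨
      (∃ (p : F[X]) (e : ℕ) (x : V), p.Monic ∧ Irreducible p ∧ 1 ≤ e ∧
        e * p.natDegree = 3 ∧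
        (∀ P Q : F[X], orbitMap g x (P, Q) = 0 ↔ p ^ e ∣ P ∧ p ^ e ∣ Q) ∧
        Function.Surjective (orbitMap g x) ∧ orbitFun B g x (p ^ (e - 1)) ≠ 0) ∨
      (∃ s : F, s * s = 1 ∧ (s • (g : Module.End F V) - 1) ^ 3 = 0 ∧
        (s • (g : Module.End F V) - 1) ^ 2 ≠ 0) := by
  classical
  rw [or_iff_not_imp_left]
  intro hno
  haveI : Nontrivial V := Module.nontrivial_of_finrank_pos (R := F) (by omega)
  obtain ⟨a, ha⟩ : ∃ a, a = plusInv g := ⟨_, rfl⟩
  obtain ⟨m, hm⟩ : ∃ m, m = minpoly F a := ⟨_, rfl⟩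
  have hai : IsIntegral F a := Algebra.IsIntegral.isIntegral a
  have hmm : m.Monic := hm ▸ minpoly.monic hai
  have hma : aeval a m = 0 := hm ▸ minpoly.aeval F a
  have hmu : ¬ IsUnit m := hm ▸ minpoly.not_isUnit F a
  obtain ⟨p, hpm, hpi, hpdvd⟩ := exists_monic_irreducible_factor m hmu
  have hfin : FiniteMultiplicity p m :=
    FiniteMultiplicity.of_prime_left hpi.prime hmm.ne_zero
  obtain ⟨h, hh, hph⟩ := hfin.exists_eq_pow_mul_and_not_dvd
  obtain ⟨e, he⟩ : ∃ e, e = multiplicity p m := ⟨_, rfl⟩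
  rw [← he] at hh
  have he1 : 1 ≤ e := by
    by_contra h0
    have : e = 0 := by omega
    rw [this, pow_zero, one_mul] at hh
    exact hph (hh ▸ hpdvd)
  have hpe : (p ^ e).Monic := hpm.pow e
  have hhm : h.Monic := hpe.of_mul_monic_left (hh ▸ hmm)
  -- primary
  have hh1 : h = 1 := by
    by_contra hne
    have hhd : 0 < h.natDegree := hhm.natDegree_pos.2 hne
    have hcop : IsCoprime (p ^ e) h := (hpi.coprime_iff_not_dvd.2 hph).pow_left
    obtain ⟨u, w, huw⟩ := hcop
    obtain ⟨S, hS⟩ : ∃ S, S = LinearMap.ker (aeval a (p ^ e)) := ⟨_, rfl⟩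
    obtain ⟨T, hT⟩ : ∃ T, T = LinearMap.ker (aeval a h) := ⟨_, rfl⟩
    have hSmem : ∀ z, aeval a h z ∈ LinearMap.range (aeval a h) := fun z => ⟨z, rfl⟩
    have hrS : ∀ z, aeval a h z ∈ S := fun z => by
      rw [hS, LinearMap.mem_ker, ← Module.End.mul_apply, ← map_mul, ← hh, hma]; rfl
    have hrT : ∀ z, aeval a (p ^ e) z ∈ T := fun z => by
      rw [hT, LinearMap.mem_ker, ← Module.End.mul_apply, ← map_mul, mul_comm, ← hh, hma]; rfl
    have hsum : ∀ z, z = aeval a (p ^ e) (aeval a u z) + aeval a h (aeval a w z) := fun z => by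
      have h1 := LinearMap.congr_fun (congrArg (aeval a) huw) z
      rw [mul_comm u, mul_comm w, map_add, map_mul, map_mul, map_one, LinearMap.add_apply,
        Module.End.mul_apply, Module.End.mul_apply] at h1
      exact h1.symm
    have horth : ∀ s ∈ S, ∀ t ∈ T, B s t = 0 := by
      intro s hs t ht
      rw [hT, LinearMap.mem_ker] at ht
      rw [hS, LinearMap.mem_ker] at hs
      have ht' : t = aeval a (p ^ e) (aeval a u t) := by
        conv_lhs => rw [hsum t]
        rw [← Module.End.mul_apply (aeval a h), ← map_mul, mul_comm h w, map_mul,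
          Module.End.mul_apply, ht, map_zero, add_zero]
      rw [ht', ha, ← aeval_adjoint hg, ← ha, hs, map_zero, LinearMap.zero_apply]
    have hSnd : ∀ z ∈ S, (∀ v ∈ S, B z v = 0) → z = 0 := by
      intro z hz hz'
      refine hB.1 z fun v => ?_
      rw [hsum v, map_add, horth z hz _ (hrT _), zero_add, hz' _ (hrS _)]
    have hnz : ∀ q r : F[X], q ≠ 0 → q.natDegree < m.natDegree → aeval a q ≠ 0 := by
      intro q _ hq hd h0
      have := natDegree_le_of_dvd (minpoly.dvd F a h0) hq
      rw [← hm] at this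
      omega
    have hmd : m.natDegree = (p ^ e).natDegree + h.natDegree := by rw [hh, hpe.natDegree_mul hhm]
    have hped : 0 < (p ^ e).natDegree := by
      rw [natDegree_pow]; exact Nat.mul_pos he1 hpi.natDegree_pos
    have hSpos : 0 < finrank F S := by
      obtain ⟨z, hz⟩ : ∃ z, aeval a h z ≠ 0 := by
        by_contra hcon
        push Not at hcon
        exact hnz h 0 hhm.ne_zero (by omega) (LinearMap.ext hcon)
      exact Module.finrank_pos_iff_exists_ne_zero.2 ⟨⟨_, hrS z⟩, fun e => hz (congrArg Subtype.val e)⟩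
    have hSlt : finrank F S < 6 := by
      by_contra hge
      have htop : S = ⊤ := Submodule.eq_top_of_finrank_eq (by
        have := Submodule.finrank_le S; omega)
      refine hnz (p ^ e) 0 hpe.ne_zero (by omega) (LinearMap.ext fun z => ?_)
      have : z ∈ S := htop ▸ Submodule.mem_top
      rw [hS] at this
      exact this
    have hnd : (B.restrict S).Nondegenerate := by
      refine ⟨fun z hz => Subtype.ext (hSnd z z.2 fun v hv => hz ⟨v, hv⟩), fun z hz => ?_⟩
      exact Subtype.ext (hSnd z z.2 fun v hv => hA.isRefl _ _ (hz ⟨v, hv⟩))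
    obtain ⟨k, hk⟩ := AltForm.exists_finrank_eq (AltForm.restrict_isAlt hA S) hnd
    refine hno (hasPlane_of_nondeg hA hB hdim hg hSnd ?_ (by omega))
    intro z hz
    rw [hS, LinearMap.mem_ker] at hz ⊢
    rw [ha, ← g_aeval, ← ha, hz, map_zero]
  rw [hh1, mul_one] at hh
  subst hh
  have hmd : (p ^ e).natDegree = e * p.natDegree := natDegree_pow p e
  have hzero : ∀ (P : F[X]) (z : V), p ^ e ∣ P → aeval a P z = 0 := by
    rintro P z ⟨Q, rfl⟩
    rw [mul_comm, map_mul, Module.End.mul_apply, hma, LinearMap.zero_apply, map_zero]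
  -- a polynomial killing a vector of full height
  have horb : ∀ (x : V), aeval a (p ^ (e - 1)) x ≠ 0 → ∀ P : F[X], aeval a P x = 0 → p ^ e ∣ P := by
    intro x hx P hP
    obtain ⟨i, hi, hassoc⟩ := (dvd_prime_pow hpi.prime e).1 (EuclideanDomain.gcd_dvd_right P (p ^ e))
    rcases Nat.lt_or_ge i e with hlt | hge
    · exfalso
      apply hx
      have h1 : EuclideanDomain.gcd P (p ^ e) ∣ p ^ (e - 1) :=
        hassoc.dvd.trans (pow_dvd_pow p (by omega))
      obtain ⟨w, hw⟩ := h1
      rw [hw, mul_comm, map_mul, Module.End.mul_apply, EuclideanDomain.gcd_eq_gcd_ab,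
        mul_comm P, map_add, LinearMap.add_apply, map_mul, Module.End.mul_apply, hP, map_zero,
        zero_add, hzero _ _ (dvd_mul_right _ _), map_zero]
    · have : i = e := by omega
      subst this
      exact hassoc.symm.dvd.trans (EuclideanDomain.gcd_dvd_left P (p ^ i))
  have hed : e * p.natDegree ≤ 3 := by
    obtain ⟨x, hx⟩ : ∃ x, aeval a (p ^ (e - 1)) x ≠ 0 := by
      by_contra hcon
      push Not at hcon
      have h1 := natDegree_le_of_dvd (minpoly.dvd F a (LinearMap.ext hcon)) (hpm.pow (e - 1)).ne_zero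
      rw [← hm, natDegree_pow, natDegree_pow] at h1
      have h3 := hpi.natDegree_pos
      have := Nat.le_of_mul_le_mul_right h1 h3
      omega
    obtain ⟨φ, hφ⟩ : ∃ φ : degreeLT F (e * p.natDegree) →ₗ[F] V, ∀ P, φ P = aeval a (P : F[X]) x :=
      ⟨((LinearMap.applyₗ x).comp (aeval a).toLinearMap).comp (Submodule.subtype _), fun P => rfl⟩
    have hφi : Function.Injective φ := by
      refine (injective_iff_map_eq_zero _).2 fun P hP => ?_
      rw [hφ] at hP
      obtain ⟨P, hPd⟩ := P
      by_contra hne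
      have hP0 : P ≠ 0 := fun h0 => hne (Subtype.ext h0)
      have h1 := natDegree_le_of_dvd (horb x hx P hP) hP0
      have h3 := (natDegree_lt_iff_degree_lt hP0).2 (mem_degreeLT.1 hPd)
      omega
    have hle : LinearMap.range φ ≤ B.orthogonal (LinearMap.range φ) := by
      rintro _ ⟨P, rfl⟩ _ ⟨Q, rfl⟩
      show B (φ Q) (φ P) = 0
      rw [hφ, hφ, ha, aeval_iso hg hA h2]
    have h1 := Submodule.finrank_mono hle
    rw [LinearMap.BilinForm.finrank_orthogonal hB, hdim, LinearMap.finrank_range_of_inj hφi,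
      (degreeLTEquiv F _).finrank_eq, finrank_fin_fun] at h1
    omega
  by_cases hC : ∃ x, orbitFun B g x (p ^ (e - 1)) ≠ 0
  · left
    obtain ⟨x, hx⟩ := hC
    obtain ⟨hiff, hnd, hdimW⟩ := orbit_spec hA h2 hg hpm hpi he1 (ha ▸ hma) hx
    obtain ⟨n, hn⟩ : ∃ n, n = e * p.natDegree := ⟨_, rfl⟩
    rw [← hn] at hdimW
    have hn1 : 1 ≤ n := hn ▸ Nat.mul_pos he1 hpi.natDegree_pos
    by_cases h3 : n = 3
    · refine ⟨p, e, x, hpm, hpi, he1, hn ▸ h3, hiff, ?_, hx⟩
      rw [← LinearMap.range_eq_top]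
      exact Submodule.eq_top_of_finrank_eq (by omega)
    · exfalso
      refine hno (hasPlane_of_nondeg hA hB hdim hg ?_ ?_ (by omega : finrank F (LinearMap.range (orbitMap g x)) = 2 ∨ finrank F (LinearMap.range (orbitMap g x)) = 4))
      · exact hnd
      · rintro _ ⟨⟨P, Q⟩, rfl⟩
        exact ⟨(-Q, P + Q * X), (g_orbitMap g x P Q).symm⟩
  · right
    push Not at hC
    obtain ⟨T, hT⟩ : ∃ T, T = aeval a (p ^ (e - 1)) := ⟨_, rfl⟩
    have hTg : ∀ z, g (T z) = T (g z) := fun z => by rw [hT, ha, g_aeval]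
    have hTa : ∀ u w, B (T u) w = B u (T w) := fun u w => by rw [hT, ha, aeval_adjoint hg]
    have hrel : ∀ z, T (g z) = T (g.symm z) := by
      intro z
      rw [← sub_eq_zero]
      refine hB.2 _ fun u => ?_
      have h1 : B (T (u + z)) (g (u + z)) = 0 := by rw [hT, ha]; exact hC _
      have hu0 : B (T u) (g u) = 0 := by rw [hT, ha]; exact hC u
      have hz0 : B (T z) (g z) = 0 := by rw [hT, ha]; exact hC z
      simp only [map_add, LinearMap.add_apply, hu0, hz0, add_zero, zero_add] at h1
      have h3 : B (T z) (g u) = -B u (T (g.symm z)) := by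
        rw [AltForm.swap hA (g u)]
        congr 1
        rw [show T z = g (T (g.symm z)) by rw [hTg, LinearEquiv.apply_symm_apply]]
        exact hg _ _
      rw [map_sub, ← hTa u (g z)]
      linear_combination h1 - h3
    have hT2 : ∀ z, T (g (g z)) = T z := fun z => by rw [hrel (g z), LinearEquiv.symm_apply_apply]
    -- the degree
    have he2 : 2 ≤ e := by
      by_contra hlt
      refine hno (hasPlane_of_sq hA hB h2 hg fun z => ?_)
      have := hT2 z
      rwa [hT, show e - 1 = 0 by omega, pow_zero, map_one, Module.End.one_apply,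
        Module.End.one_apply] at this
    have hd1 : p.natDegree = 1 := by
      have := hpi.natDegree_pos
      nlinarith
    obtain ⟨r, hr⟩ : ∃ r, p = X - C r := ⟨-p.coeff 0, by rw [map_neg, sub_neg_eq_add]; exact hpm.eq_X_add_C hd1⟩
    obtain ⟨z₁, hz₁⟩ : ∃ z₁, T z₁ ≠ 0 := by
      by_contra hcon
      push Not at hcon
      have h1 := natDegree_le_of_dvd (minpoly.dvd F a (hT ▸ LinearMap.ext hcon))
        (hpm.pow (e - 1)).ne_zero
      rw [← hm, natDegree_pow, natDegree_pow, hd1] at h1
      omega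
    have hTp : ∀ z, a (T z) = r • T z := fun z => by
      have h1 := hzero (p * p ^ (e - 1)) z (by rw [← pow_succ']; exact pow_dvd_pow p (by omega))
      rw [map_mul, Module.End.mul_apply, ← hT, hr, map_sub, aeval_X, aeval_C, LinearMap.sub_apply,
        Module.algebraMap_end_apply, sub_eq_zero] at h1
      exact h1
    obtain ⟨s, hs⟩ : ∃ s : F, s = r / 2 := ⟨_, rfl⟩
    have hgT : ∀ z, g (T z) = s • T z := by
      intro z
      have h1 := hTp z
      rw [ha, plusInv_apply, show g.symm (T z) = g (T z) by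
        apply g.injective; rw [LinearEquiv.apply_symm_apply, hTg, hTg, hT2]] at h1
      rw [hs, div_eq_inv_mul, mul_smul, ← h1, ← two_smul F (g (T z)), inv_smul_smul₀ h2]
    have hss : s * s = 1 := by
      have h1 : g (g (T z₁)) = T z₁ := by rw [hTg, hTg, hT2]
      rw [hgT, map_smul, hgT, smul_smul] at h1
      have h3 : (s * s - 1) • T z₁ = 0 := by rw [sub_smul, one_smul, h1, sub_self]
      exact sub_eq_zero.1 ((smul_eq_zero.1 h3).resolve_right hz₁)
    have hr2 : r = s + s := by rw [hs]; field_simp; ring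
    -- the unipotent element
    obtain ⟨k, hk⟩ : ∃ k : V ≃ₗ[F] V, ∀ z, k z = s • g z :=
      ⟨g.trans (LinearEquiv.smulOfUnit (Units.mk0 s (left_ne_zero_of_mul_eq_one hss))), fun z => rfl⟩
    have hkiso : k ∈ AltForm.isoGroup B := fun u w => by
      rw [hk, hk, map_smul, map_smul, LinearMap.smul_apply, hg, smul_smul, hss, one_smul]
    obtain ⟨U, hU⟩ : ∃ U, U = (k : Module.End F V) - 1 := ⟨_, rfl⟩
    have hsk : s • (g : Module.End F V) - 1 = U := by
      rw [hU]; exact congrArg (· - 1) (LinearMap.ext fun z => (hk z).symm)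
    have hTU : ∀ z, U (T z) = 0 := fun z => by
      rw [hU, LinearMap.sub_apply, LinearEquiv.coe_coe, hk, hgT, smul_smul, hss, one_smul,
        Module.End.one_apply, sub_self]
    obtain ⟨Gi, hGi⟩ : ∃ Gi : Module.End F V, Gi = (s • (g.symm : Module.End F V)) := ⟨_, rfl⟩
    have hN : a - algebraMap F _ r = s • (Gi * (U * U)) := by
      refine LinearMap.ext fun z => ?_
      rw [hU, hGi, ha, LinearMap.sub_apply, plusInv_apply, Module.algebraMap_end_apply,
        LinearMap.smul_apply, Module.End.mul_apply, Module.End.mul_apply, LinearMap.smul_apply]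
      simp only [LinearMap.sub_apply, LinearEquiv.coe_coe, Module.End.one_apply, map_sub, map_smul, hk,
        LinearEquiv.symm_apply_apply, hr2]
      have e1 : s * (s * (s * s)) = 1 := by rw [hss, mul_one, hss]
      linear_combination (norm := module) -(congrArg (fun t => t • g z) e1) -
        (congrArg (fun t => t • g.symm z) hss) + 2 • (congrArg (fun t => (t * s) • z) hss)
    have hcU : Commute Gi U := by
      refine LinearMap.ext fun z => ?_
      simp [hU, hGi, hk, smul_smul]
    have hGiU : ∀ z, k (Gi z) = z := fun z => by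
      simp [hGi, hk, smul_smul, hss]
    have hTpow : T = (a - algebraMap F _ r) ^ (e - 1) := by
      rw [hT, map_pow, hr, map_sub, aeval_X, aeval_C]
    have hTU2 : T = (s • Gi) ^ (e - 1) * U ^ (2 * (e - 1)) := by
      rw [hTpow, hN, ← smul_mul_assoc, ((hcU.mul_right hcU).smul_left s).mul_pow, pow_mul, sq]
    have hunit : Function.Injective ((s • Gi) ^ (e - 1)) := by
      rw [Module.End.coe_pow]
      refine Function.Injective.iterate (fun z z' h0 => ?_) _
      have h1 := smul_right_injective V (left_ne_zero_of_mul_eq_one hss) h0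
      have h3 := congrArg k h1
      rwa [hGiU, hGiU] at h3
    have hUhi : U ^ (2 * (e - 1) + 1) = 0 := by
      refine LinearMap.ext fun z => hunit ?_
      rw [LinearMap.zero_apply, map_zero, pow_succ, Module.End.mul_apply, ← Module.End.mul_apply _ (U ^ _),
        ← hTU2]
      have h1 : T (U z) = U (T z) := by
        rw [hU, LinearMap.sub_apply, LinearMap.sub_apply, map_sub, LinearEquiv.coe_coe, hk, hk,
          map_smul, hTg]
        rfl
      rw [h1, hTU]
    have hUlo : U ^ (2 * (e - 1)) ≠ 0 := fun h0 => hz₁ (by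
      rw [hTU2, h0, mul_zero, LinearMap.zero_apply])
    have he3 : e = 2 ∨ e = 3 := by
      rw [hd1, mul_one] at hed
      omega
    rcases he3 with he3 | he3
    · subst he3
      exact ⟨s, hss, hsk ▸ hUhi, hsk ▸ hUlo⟩
    · subst he3
      exact absurd (hU ▸ no_index_five hA hB hdim h2 hkiso (hU ▸ hUhi)) hUlo

end Cfsg.Agent.UnionTwoClasses
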