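import Cfsg.Agent.Lib.UnionTwoClasses.Symp6Cases

/-!
# Normal forms for isometries of a six-dimensional alternating form in characteristic three
-/

set_option autoImplicit false

universe u v

namespace Cfsg.Agent.UnionTwoClasses

open Polynomial Module
open LinearMap (BilinForm)

variable {F : Type u} [Field F] {V : Type v} [AddCommGroup V] [Module F V] {B : BilinForm F V}

/-- two surjections with the same kernel differ by an equivalence -/
theorem exists_equiv_of_ker {M W : Type*} [AddCommGroup M] [Module F M] [AddCommGroup W] [Module F W]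
    {φ : M →ₗ[F] V} {ψ : M →ₗ[F] W} (hφ : Function.Surjective φ) (hψ : Function.Surjective ψ)
    (hker : ∀ m, φ m = 0 ↔ ψ m = 0) : ∃ e : V ≃ₗ[F] W, ∀ m, e (φ m) = ψ m := by
  have hk : LinearMap.ker φ = LinearMap.ker ψ := Submodule.ext hker
  refine ⟨((φ.quotKerEquivOfSurjective hφ).symm.trans (Submodule.quotEquivOfEq _ _ hk)).trans
    (ψ.quotKerEquivOfSurjective hψ), fun m => ?_⟩
  simp only [LinearEquiv.trans_apply, LinearMap.quotKerEquivOfSurjective_symm_apply,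
    Submodule.quotEquivOfEq_mk, LinearMap.quotKerEquivOfSurjective_apply_mk]

/-- a functional on polynomials killing the multiples of `(X - r)³` is fixed by three values -/
theorem fun_eq_zero {ω : F[X] →ₗ[F] F} {r : F} (h3 : ∀ P, (X - C r) ^ 3 ∣ P → ω P = 0)
    (h0 : ω 1 = 0) (h1 : ω (X - C r) = 0) (h2 : ω ((X - C r) ^ 2) = 0) (P : F[X]) : ω P = 0 := by
  have hC : ∀ (c : F) (Q : F[X]), ω (C c * Q) = c * ω Q := fun c Q => by
    rw [← smul_eq_C_mul, map_smul, smul_eq_mul]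
  have hX : ω X = 0 := by
    rw [show (X : F[X]) = (X - C r) + C r * 1 by ring, map_add, hC, h1, h0, mul_zero, add_zero]
  have hX2 : ω (X ^ 2) = 0 := by
    rw [show (X : F[X]) ^ 2 = (X - C r) ^ 2 + (C (2 * r) * X - C (r * r) * 1) by
      rw [map_mul, map_mul, map_ofNat]; ring, map_add, map_sub, hC, hC, h2, hX, h0]
    ring
  have hm : ((X - C r) ^ 3).Monic := (monic_X_sub_C r).pow 3
  have hd : (P %ₘ (X - C r) ^ 3).natDegree < 3 := by
    refine lt_of_lt_of_eq (natDegree_modByMonic_lt P hm fun e => ?_) ?_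
    · have := congrArg natDegree e
      rw [natDegree_pow, natDegree_X_sub_C, natDegree_one] at this
      omega
    · rw [natDegree_pow, natDegree_X_sub_C]
  rw [← modByMonic_add_div P ((X - C r) ^ 3), map_add, h3 _ (dvd_mul_right _ _), add_zero,
    (P %ₘ (X - C r) ^ 3).as_sum_range_C_mul_X_pow' hd, Finset.sum_range_succ, Finset.sum_range_succ,
    Finset.sum_range_succ, Finset.sum_range_zero, map_add, map_add, map_add, map_zero, hC, hC, hC,
    pow_zero, pow_one, h0, hX, hX2]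
  ring

variable [CharP F 3]

theorem three_eq_zero' : (3 : F) = 0 := by exact_mod_cast CharP.cast_eq_zero F 3

theorem two_ne_zero' : (2 : F) ≠ 0 := by
  intro h
  exact one_ne_zero (α := F) (by linear_combination (three_eq_zero' (F := F)) - h)

/-- normalising a cyclic isometry -/
theorem exists_normal_orbit {g : V ≃ₗ[F] V} (hg : g ∈ AltForm.isoGroup B) (hA : B.IsAlt) {r : F} {x : V}
    (hiff : ∀ P Q : F[X], orbitMap g x (P, Q) = 0 ↔ (X - C r) ^ 3 ∣ P ∧ (X - C r) ^ 3 ∣ Q)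
    (hsurj : Function.Surjective (orbitMap g x))
    (hk : orbitFun B g x ((X - C r) ^ 2) ≠ 0) :
    ∃ (Ψ : (F[X] × F[X]) →ₗ[F] V) (ω : F[X] →ₗ[F] F),
      Function.Surjective Ψ ∧
      (∀ P Q, Ψ (P, Q) = 0 ↔ (X - C r) ^ 3 ∣ P ∧ (X - C r) ^ 3 ∣ Q) ∧
      (∀ P Q P' Q', B (Ψ (P, Q)) (Ψ (P', Q')) = ω (P * Q' - Q * P')) ∧
      (∀ P Q, g (Ψ (P, Q)) = Ψ (-Q, P + Q * X)) ∧
      (∀ P, (X - C r) ^ 3 ∣ P → ω P = 0) ∧ ω 1 = 0 ∧ ω (X - C r) = 0 ∧ ω ((X - C r) ^ 2) ≠ 0 := by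
  obtain ⟨N, hN⟩ : ∃ N : F[X], N = X - C r := ⟨_, rfl⟩
  rw [← hN] at hiff hk ⊢
  have h2 := two_ne_zero' (F := F)
  obtain ⟨ω, hω⟩ : ∃ ω, ω = orbitFun B g x := ⟨_, rfl⟩
  rw [← hω] at hk
  have hω3 : ∀ P, N ^ 3 ∣ P → ω P = 0 := by
    intro P hP
    have h1 := (hiff P 0).2 ⟨hP, dvd_zero _⟩
    rw [orbitMap_apply, map_zero, LinearMap.zero_apply, add_zero] at h1
    rw [hω, orbitFun_apply, h1, map_zero, LinearMap.zero_apply]
  obtain ⟨c1, hc1⟩ : ∃ c1 : F, c1 = -ω N / (2 * ω (N ^ 2)) := ⟨_, rfl⟩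
  obtain ⟨c2, hc2⟩ : ∃ c2 : F,
      c2 = -(ω 1 + 2 * c1 * ω N + c1 ^ 2 * ω (N ^ 2)) / (2 * ω (N ^ 2)) := ⟨_, rfl⟩
  obtain ⟨q, hq⟩ : ∃ q : F[X], q = 1 + C c1 * N + C c2 * N ^ 2 := ⟨_, rfl⟩
  obtain ⟨L, hL⟩ : ∃ L : (F[X] × F[X]) →ₗ[F] F[X] × F[X], ∀ P Q, L (P, Q) = (q * P, q * Q) :=
    ⟨(LinearMap.mulLeft F q).prodMap (LinearMap.mulLeft F q), fun P Q => rfl⟩
  have hqN : IsCoprime (N ^ 3) q := by
    refine IsCoprime.pow_left ?_
    exact ⟨-(C c1) - C c2 * N, 1, by rw [hq]; ring⟩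
  have hC : ∀ (c : F) (Q : F[X]), ω (C c * Q) = c * ω Q := fun c Q => by
    rw [← smul_eq_C_mul, map_smul, smul_eq_mul]
  obtain ⟨ω', hω'⟩ : ∃ ω' : F[X] →ₗ[F] F, ∀ P, ω' P = ω (q * q * P) :=
    ⟨ω.comp (LinearMap.mulLeft F (q * q)), fun P => rfl⟩
  have e0 : ω' 1 = 0 := by
    rw [hω', show q * q * 1 = 1 + (C (2 * c1) * N + (C (c1 ^ 2 + 2 * c2) * N ^ 2 +
      N ^ 3 * (C (2 * c1 * c2) + C (c2 ^ 2) * N))) by
        simp only [hq, map_mul, map_add, map_pow, map_ofNat]; ring,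
      map_add, map_add, map_add, hC, hC, hω3 _ (dvd_mul_right _ _), hc2]
    field_simp
    ring
  have e1 : ω' N = 0 := by
    rw [hω', show q * q * N = N + (C (2 * c1) * N ^ 2 +
      N ^ 3 * (C (c1 ^ 2 + 2 * c2) + C (2 * c1 * c2) * N + C (c2 ^ 2) * N ^ 2)) by
        simp only [hq, map_mul, map_add, map_pow, map_ofNat]; ring,
      map_add, map_add, hC, hω3 _ (dvd_mul_right _ _), hc1]
    field_simp
    ring
  have e2 : ω' (N ^ 2) = ω (N ^ 2) := by
    rw [hω', show q * q * N ^ 2 = N ^ 2 + N ^ 3 *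
      (C (2 * c1) + C (c1 ^ 2 + 2 * c2) * N + C (2 * c1 * c2) * N ^ 2 + C (c2 ^ 2) * N ^ 3) by
        simp only [hq, map_mul, map_add, map_pow, map_ofNat]; ring,
      map_add, hω3 _ (dvd_mul_right _ _), add_zero]
  refine ⟨(orbitMap g x).comp L, ω', fun z => ?_, fun P Q => ?_, fun P Q P' Q' => ?_, fun P Q => ?_,
    fun P hP => ?_, e0, e1, e2 ▸ hk⟩
  · obtain ⟨⟨P, Q⟩, rfl⟩ := hsurj z
    obtain ⟨s, t, hst⟩ := hqN
    refine ⟨(t * P, t * Q), ?_⟩
    rw [LinearMap.comp_apply, hL, ← sub_eq_zero, ← map_sub]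
    exact (hiff _ _).2 ⟨⟨-(s * P), by linear_combination P * hst⟩, ⟨-(s * Q), by linear_combination Q * hst⟩⟩
  · rw [LinearMap.comp_apply, hL, hiff]
    exact and_congr ⟨fun h => hqN.dvd_of_dvd_mul_left h, fun h => h.mul_left q⟩
      ⟨fun h => hqN.dvd_of_dvd_mul_left h, fun h => h.mul_left q⟩
  · rw [LinearMap.comp_apply, LinearMap.comp_apply, hL, hL, form_orbitMap hg hA h2, hω', hω]
    congr 1
    ring
  · rw [LinearMap.comp_apply, LinearMap.comp_apply, hL, hL, g_orbitMap]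
    congr 2
    · ring
    · ring
  · rw [hω']
    exact hω3 _ (hP.mul_left _)

/-- cyclic isometries with the same `r` are conjugate by a similitude -/
theorem exists_similitude {g k : V ≃ₗ[F] V} (hg : g ∈ AltForm.isoGroup B) (hk : k ∈ AltForm.isoGroup B)
    (hA : B.IsAlt) {r : F} {x y : V}
    (hix : ∀ P Q : F[X], orbitMap g x (P, Q) = 0 ↔ (X - C r) ^ 3 ∣ P ∧ (X - C r) ^ 3 ∣ Q)
    (hsx : Function.Surjective (orbitMap g x)) (hx : orbitFun B g x ((X - C r) ^ 2) ≠ 0)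
    (hiy : ∀ P Q : F[X], orbitMap k y (P, Q) = 0 ↔ (X - C r) ^ 3 ∣ P ∧ (X - C r) ^ 3 ∣ Q)
    (hsy : Function.Surjective (orbitMap k y)) (hy : orbitFun B k y ((X - C r) ^ 2) ≠ 0) :
    ∃ (Φ : V ≃ₗ[F] V) (μ : F), μ ≠ 0 ∧ (∀ u w, B (Φ u) (Φ w) = μ * B u w) ∧
      ∀ u, Φ (g u) = k (Φ u) := by
  obtain ⟨Ψ, ω, hΨs, hΨk, hΨf, hΨg, hω3, hω0, hω1, hω2⟩ := exists_normal_orbit hg hA hix hsx hx
  obtain ⟨Ψ', ω', hΨs', hΨk', hΨf', hΨg', hω3', hω0', hω1', hω2'⟩ :=
    exists_normal_orbit hk hA hiy hsy hy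
  obtain ⟨Φ, hΦ⟩ := exists_equiv_of_ker hΨs hΨs' (fun m => by
    obtain ⟨P, Q⟩ := m; rw [hΨk, hΨk'])
  obtain ⟨μ, hμ⟩ : ∃ μ, μ = ω' ((X - C r) ^ 2) / ω ((X - C r) ^ 2) := ⟨_, rfl⟩
  have heq : ∀ P, ω' P = μ * ω P := by
    intro P
    rw [← sub_eq_zero]
    refine fun_eq_zero (ω := ω' - μ • ω) (r := r) (fun P hP => ?_) ?_ ?_ ?_ P
    · simp [hω3' P hP, hω3 P hP]
    · simp [hω0', hω0]
    · simp [hω1', hω1]
    · simp [hμ, div_mul_cancel₀ _ hω2]
  refine ⟨Φ, μ, hμ ▸ div_ne_zero hω2' hω2, fun u w => ?_, fun u => ?_⟩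
  · obtain ⟨⟨P, Q⟩, rfl⟩ := hΨs u
    obtain ⟨⟨P', Q'⟩, rfl⟩ := hΨs w
    rw [hΦ, hΦ, hΨf, hΨf', heq]
  · obtain ⟨⟨P, Q⟩, rfl⟩ := hΨs u
    rw [hΨg, hΦ, hΦ, hΨg']

variable [FiniteDimensional F V]

/-- a hexad adapted to a unipotent isometry of index three -/
theorem exists_hexad (hA : B.IsAlt) (hB : B.Nondegenerate) {g : V ≃ₗ[F] V}
    (hg : g ∈ AltForm.isoGroup B) (hN3 : ((g : Module.End F V) - 1) ^ 3 = 0)
    (hN2 : ((g : Module.End F V) - 1) ^ 2 ≠ 0) :
    ∃ (X : Module.End F V) (x y : V),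
      (∀ z, g z = z - X z - X (X z)) ∧ (∀ z, X (X (X z)) = 0) ∧
      ∀ i j : Fin 6, B (![x, X x, X (X x), y, X y, X (X y)] i) (![x, X x, X (X x), y, X y, X (X y)] j) =
        ![![0, 0, 0, 0, 0, 1], ![0, 0, 0, 0, -1, 0], ![0, 0, 0, 1, 0, 0],
          ![0, 0, -1, 0, 0, 0], ![0, 1, 0, 0, 0, 0], ![-1, 0, 0, 0, 0, 0]] i j := by
  have h3 := three_eq_zero' (F := F)
  have h2 := two_ne_zero' (F := F)
  obtain ⟨N, hN⟩ : ∃ N, N = (g : Module.End F V) - 1 := ⟨_, rfl⟩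
  rw [← hN] at hN3 hN2
  obtain ⟨X, hX⟩ : ∃ X : Module.End F V, X = -N - N ^ 2 := ⟨_, rfl⟩
  have hgx : ∀ z, g z = z + N z := fun z => by rw [hN]; simp
  have hN3' : ∀ z, N (N (N z)) = 0 := fun z => by
    have := LinearMap.congr_fun hN3 z
    simpa [pow_succ, Module.End.mul_apply] using this
  have hXz : ∀ z, X z = -N z - N (N z) := fun z => by
    simp [hX, sq, Module.End.mul_apply]
  have hX2 : ∀ z, X (X z) = N (N z) := fun z => by
    simp [hXz, hN3', map_sub, map_neg]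
  have hX3 : ∀ z, X (X (X z)) = 0 := fun z => by rw [hX2]; simp [hXz, hN3']
  have hgX : ∀ z, g z = z - X z - X (X z) := fun z => by rw [hgx, hX2, hXz]; abel
  have h33 : ∀ w : V, w + w + w = 0 := fun w => by
    have : (3 : F) • w = 0 := by rw [h3, zero_smul]
    linear_combination (norm := module) this
  have hXa : ∀ z, X (g z + z) = g z - z := fun z => by
    simp only [hXz, map_add, hgx, hN3', add_zero]
    linear_combination (norm := module) -h33 (N z) - h33 (N (N z))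
  have hskew : ∀ a b, B (X a) b = -B a (X b) := by
    intro a b
    have hs : ∀ z : V, ∃ w, g w + w = z := fun z => ⟨-z - N z - N (N z), by
      rw [hgx]
      simp only [map_sub, map_neg, hN3', sub_zero]
      linear_combination (norm := module) -h33 z - h33 (N z) - h33 (N (N z))⟩
    obtain ⟨a, rfl⟩ := hs a
    obtain ⟨b, rfl⟩ := hs b
    rw [hXa, hXa]
    simp only [map_add, map_sub, LinearMap.add_apply, LinearMap.sub_apply]
    linear_combination (2 : F) * hg a b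
  have sw : ∀ a b : V, B b a = -B a b := AltForm.swap hA
  have hself : ∀ a, B (X (X a)) a = 0 := fun a => by
    have h1 : B (X (X a)) a = B a (X (X a)) := by rw [hskew, hskew, neg_neg]
    rw [sw (X (X a)) a] at h1
    exact (mul_eq_zero.1 (show (2 : F) * B (X (X a)) a = 0 by linear_combination h1)).resolve_left h2
  have hself' : ∀ a, B a (X (X a)) = 0 := fun a => by rw [sw (X (X a)) a, hself, neg_zero]
  obtain ⟨x, hx⟩ : ∃ x, X (X x) ≠ 0 := by
    by_contra hcon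
    push Not at hcon
    exact hN2 (LinearMap.ext fun z => by rw [sq, Module.End.mul_apply, ← hX2, hcon]; rfl)
  obtain ⟨y, hy⟩ := AltForm.exists_eq_one hB hx
  have hy' : B x (X (X y)) = 1 := by rw [← hy, hskew, hskew, neg_neg]
  -- first adjustment
  obtain ⟨x1, hx1⟩ : ∃ x1, x1 = x + (-(B x (X x)) / 2) • X y := ⟨_, rfl⟩
  have a1 : B x1 (X x1) = 0 := by
    have e1 : B (X y) (X x) = 1 := by
      rw [hskew, sw (X (X x)) y, hy, neg_neg]
    have e2 : B (X y) (X (X y)) = 0 := by rw [hskew, hX3, map_zero, neg_zero]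
    simp only [hx1, map_add, map_smul, LinearMap.add_apply, LinearMap.smul_apply, smul_eq_mul, hy',
      e1, e2]
    field_simp
    ring
  have a2 : B x1 (X (X y)) = 1 := by
    simp only [hx1, map_add, map_smul, LinearMap.add_apply, LinearMap.smul_apply, smul_eq_mul, hy']
    rw [hskew (y) (X (X y)), hX3, map_zero, neg_zero, mul_zero, add_zero]
  obtain ⟨y1, hy1⟩ : ∃ y1, y1 = y + (B y (X y) / 2) • X x1 := ⟨_, rfl⟩
  have a3 : B y1 (X y1) = 0 := by
    have e1 : B y (X (X x1)) = -1 := by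
      rw [← a2, sw (X (X x1)) y, hskew, hskew, neg_neg]
    have e2 : B (X x1) (X y) = -1 := by rw [hskew, a2]
    have e3 : B (X x1) (X (X x1)) = 0 := by rw [hskew, hX3, map_zero, neg_zero]
    simp only [hy1, map_add, map_smul, LinearMap.add_apply, LinearMap.smul_apply, smul_eq_mul, e1, e2,
      e3]
    field_simp
    ring
  have a4 : B x1 (X (X y1)) = 1 := by
    simp only [hy1, map_add, map_smul, hX3, map_zero, smul_zero, add_zero, a2]
  obtain ⟨x2, hx2⟩ : ∃ x2, x2 = x1 + (B x1 (X y1)) • X x1 := ⟨_, rfl⟩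
  have b1 : B x2 (X x2) = 0 := by
    simp only [hx2, map_add, map_smul, LinearMap.add_apply, LinearMap.smul_apply, smul_eq_mul, a1,
      hself', hA.self_eq_zero, mul_zero, add_zero, zero_add]
    rw [hskew, hX3, map_zero, neg_zero, mul_zero, mul_zero]
  have b2 : B x2 (X y1) = 0 := by
    simp only [hx2, map_add, map_smul, LinearMap.add_apply, LinearMap.smul_apply, smul_eq_mul]
    rw [hskew, a4]; ring
  have b4 : B x2 (X (X y1)) = 1 := by
    simp only [hx2, map_add, map_smul, LinearMap.add_apply, LinearMap.smul_apply, smul_eq_mul, a4]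
    rw [hskew, hX3, map_zero, neg_zero, mul_zero, add_zero]
  obtain ⟨x3, hx3⟩ : ∃ x3, x3 = x2 + (-(B x2 y1)) • X (X x2) := ⟨_, rfl⟩
  have b5 : B (X (X x2)) y1 = 1 := by rw [hskew, hskew, neg_neg, b4]
  have hXz' : ∀ a b, B (X (X a)) (X b) = 0 := fun a b => by
    rw [hskew, hskew, hX3, map_zero, neg_zero, neg_zero]
  have c1 : B x3 (X x3) = 0 := by
    simp only [hx3, map_add, map_smul, hX3, map_zero, smul_zero, add_zero, LinearMap.add_apply,
      LinearMap.smul_apply, smul_eq_mul, b1, hXz', mul_zero]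
  have c2 : B x3 (X y1) = 0 := by
    simp only [hx3, map_add, map_smul, LinearMap.add_apply, LinearMap.smul_apply, smul_eq_mul, b2,
      hXz', mul_zero, add_zero]
  have c3 : B x3 y1 = 0 := by
    simp only [hx3, map_add, map_smul, LinearMap.add_apply, LinearMap.smul_apply, smul_eq_mul, b5]
    ring
  have c4 : B x3 (X (X y1)) = 1 := by
    simp only [hx3, map_add, map_smul, LinearMap.add_apply, LinearMap.smul_apply, smul_eq_mul, b4,
      hXz', mul_zero, add_zero]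
  refine ⟨X, x3, y1, hgX, hX3, fun i j => ?_⟩
  have d1 : B y1 x3 = 0 := by rw [sw x3, c3, neg_zero]
  have d3 : B y1 (X (X x3)) = -1 := by rw [sw (X (X x3)), hskew, hskew, c4, neg_neg]
  have d5 : B y1 (X x3) = 0 := by rw [sw (X x3), hskew, c2, neg_zero, neg_zero]
  fin_cases i <;> fin_cases j <;>
    simp [hskew, hX3, hA.self_eq_zero, c1, c2, c3, c4, a3, d1, d3, d5, hself']

/-- unipotent isometries of index three are conjugate -/
theorem exists_conj_index_three (hA : B.IsAlt) (hB : B.Nondegenerate) (hdim : finrank F V = 6)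
    {g k : V ≃ₗ[F] V} (hg : g ∈ AltForm.isoGroup B) (hk : k ∈ AltForm.isoGroup B)
    (hg3 : ((g : Module.End F V) - 1) ^ 3 = 0) (hg2 : ((g : Module.End F V) - 1) ^ 2 ≠ 0)
    (hk3 : ((k : Module.End F V) - 1) ^ 3 = 0) (hk2 : ((k : Module.End F V) - 1) ^ 2 ≠ 0) :
    ∃ P : V ≃ₗ[F] V, P ∈ AltForm.isoGroup B ∧ ∀ z, P (g z) = k (P z) := by
  classical
  obtain ⟨X, x, y, hgX, hX3, hgram⟩ := exists_hexad hA hB hg hg3 hg2
  obtain ⟨X', x', y', hkX, hX3', hgram'⟩ := exists_hexad hA hB hk hk3 hk2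
  obtain ⟨M, hM⟩ : ∃ M : Fin 6 → V, M = ![x, X x, X (X x), y, X y, X (X y)] := ⟨_, rfl⟩
  obtain ⟨M', hM'⟩ : ∃ M' : Fin 6 → V, M' = ![x', X' x', X' (X' x'), y', X' y', X' (X' y')] := ⟨_, rfl⟩
  rw [← hM] at hgram
  rw [← hM'] at hgram'
  have hli : ∀ M : Fin 6 → V, (∀ i j, B (M i) (M j) =
      ![![0, 0, 0, 0, 0, 1], ![0, 0, 0, 0, -1, 0], ![0, 0, 0, 1, 0, 0],
        ![0, 0, -1, 0, 0, 0], ![0, 1, 0, 0, 0, 0], ![-1, 0, 0, 0, 0, 0]] i j) →
      LinearIndependent F M := by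
    intro M hM
    rw [Fintype.linearIndependent_iff]
    intro c hc i
    have h1 := fun j => congrArg (fun z => B z (M j)) hc
    have e0 := h1 0; have e1 := h1 1; have e2 := h1 2; have e3 := h1 3; have e4 := h1 4
    have e5 := h1 5
    simp [Fin.sum_univ_six, hM] at e0 e1 e2 e3 e4 e5
    fin_cases i <;> assumption
  obtain ⟨b, hb⟩ : ∃ b : Basis (Fin 6) F V, ⇑b = M :=
    ⟨basisOfLinearIndependentOfCardEqFinrank (hli M hgram) (by simp [hdim]), by simp⟩
  obtain ⟨b', hb'⟩ : ∃ b' : Basis (Fin 6) F V, ⇑b' = M' :=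
    ⟨basisOfLinearIndependentOfCardEqFinrank (hli M' hgram') (by simp [hdim]), by simp⟩
  obtain ⟨P, hP⟩ : ∃ P : V ≃ₗ[F] V, ∀ i, P (M i) = M' i :=
    ⟨b.equiv b' (Equiv.refl _), fun i => by
      rw [← hb, ← hb', Basis.equiv_apply, Equiv.refl_apply]⟩
  have hiso : ∀ u w, B (P u) (P w) = B u w := by
    have heq : (B.comp (P : V →ₗ[F] V) (P : V →ₗ[F] V)) = B := by
      refine LinearMap.BilinForm.ext_basis b fun i j => ?_
      rw [LinearMap.BilinForm.comp_apply, hb]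
      simp only [LinearEquiv.coe_coe, hP, hgram, hgram']
    intro u w
    conv_rhs => rw [← heq]
    rfl
  have hPX : ∀ z, P (X z) = X' (P z) := by
    have : (P : V →ₗ[F] V).comp X = X'.comp (P : V →ₗ[F] V) := by
      refine b.ext fun i => ?_
      rw [hb, LinearMap.comp_apply, LinearMap.comp_apply, LinearEquiv.coe_coe, hP]
      have h0 := hP 0; have h1 := hP 1; have h2 := hP 2; have h3 := hP 3; have h4 := hP 4
      have h5 := hP 5
      rw [hM] at h0 h1 h2 h3 h4 h5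
      rw [hM'] at h0 h1 h2 h3 h4 h5
      rw [hM, hM']
      fin_cases i <;> simp at * <;> simp [*]
    exact fun z => LinearMap.congr_fun this z
  refine ⟨P, hiso, fun z => ?_⟩
  rw [hgX, hkX, map_sub, map_sub, hPX, hPX, hPX]

end Cfsg.Agent.UnionTwoClasses
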