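import Cfsg.Agent.Lib.UnionTwoClasses.UnitaryTools

/-!
# Unitary groups of degree four as unions of two classes of subgroups

An element fixes a non-degenerate point or a totally isotropic plane.
-/

set_option autoImplicit false

namespace Cfsg.Agent.UnionTwoClasses

open Polynomial Module

variable {F : Type*} [Field F] {σ : F →+* F} {V : Type*} [AddCommGroup V] [Module F V]
  [FiniteDimensional F V] {h : V → V → F} (hh : Hermitian.IsHerm σ h)

include hh

omit [FiniteDimensional F V] in
theorem exists_trace_zero : ∃ c : F, c ≠ 0 ∧ c + σ c = 0 := by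
  obtain ⟨b, hb⟩ : ∃ b, σ b ≠ b := by
    by_contra hcon
    push Not at hcon
    exact hh.ne_id (RingHom.ext hcon)
  exact ⟨b - σ b, sub_ne_zero.2 (Ne.symm hb), by rw [map_sub, hh.invol]; ring⟩

omit [FiniteDimensional F V] in
theorem exists_ratio {δ : F} (hδ : δ * σ δ = 1) : ∃ μ : F, μ ≠ 0 ∧ μ * (σ μ)⁻¹ = δ := by
  obtain ⟨μ, hμ, hμδ⟩ : ∃ μ : F, μ ≠ 0 ∧ μ = δ * σ μ := by
    by_cases h1 : 1 + δ = 0
    · obtain ⟨c, hc, hc'⟩ := exists_trace_zero hh
      exact ⟨c, hc, by linear_combination hc' - σ c * h1⟩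
    · exact ⟨1 + δ, h1, by rw [map_add, map_one]; linear_combination -hδ⟩
  refine ⟨μ, hμ, ?_⟩
  rw [← div_eq_mul_inv, div_eq_iff ((map_ne_zero σ).2 hμ)]
  exact hμδ

theorem det_mul_conj_det [Finite F] {g : V ≃ₗ[F] V} (hg : ∀ u v, h (g u) (g v) = h u v) :
    LinearMap.det (g : Module.End F V) * σ (LinearMap.det (g : Module.End F V)) = 1 := by
  classical
  obtain ⟨b, hb⟩ := Hermitian.exists_orthonormal (n := finrank F V) hh rfl
  let B : Basis (Fin (finrank F V)) F V := basisOfLinearIndependentOfCardEqFinrank' b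
    (hh.linearIndependent_of_gram (hh.orthonormal_gram hb)) (by simp)
  have hB : ∀ i, B i = b i := fun i => by simp [B]
  have hrepr : ∀ x i, B.repr x i = h x (b i) := fun x i => by
    conv_rhs => rw [← B.sum_repr x, hh.sum_left]
    simp [hh.smul_left, hB, hb]
  have hM : Matrix.transpose (LinearMap.toMatrix B B (g : Module.End F V)) *
      (LinearMap.toMatrix B B (g : Module.End F V)).map σ = 1 := by
    ext i j
    rw [Matrix.mul_apply, Matrix.one_apply, ← hb i j, ← hg (b i) (b j)]
    conv_rhs => rw [← B.sum_repr (g (b i)), hh.sum_left]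
    refine Finset.sum_congr rfl fun k _ => ?_
    rw [hh.smul_left, Matrix.transpose_apply, Matrix.map_apply, LinearMap.toMatrix_apply,
      LinearMap.toMatrix_apply]
    simp only [LinearEquiv.coe_coe]
    rw [hrepr (g (B j)) k, ← hh.symm, hB, hB, hB]
  have := congrArg Matrix.det hM
  rw [Matrix.det_mul, Matrix.det_transpose, Matrix.det_one, LinearMap.det_toMatrix] at this
  rw [← LinearMap.det_toMatrix B, RingHom.map_det, RingHom.mapMatrix_apply, LinearMap.det_toMatrix]
  exact this

omit [FiniteDimensional F V] in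
/-- quasi-reflection at a vector of norm one -/
theorem exists_quasi [Module.Finite F V] {e : V} (he : h e e = 1) {δ : F} (hδ : δ * σ δ = 1) :
    ∃ D : V ≃ₗ[F] V, (∀ u v, h (D u) (D v) = h u v) ∧ LinearMap.det (D : Module.End F V) = δ ∧
      ∀ x, D x = x + ((δ - 1) * h x e) • e := by
  obtain ⟨T, hT⟩ : ∃ T : Module.End F V, T = LinearMap.transvection (hh.form e) ((δ - 1) • e) :=
    ⟨_, rfl⟩
  have hTx : ∀ x, T x = x + ((δ - 1) * h x e) • e := fun x => by
    rw [hT, LinearMap.transvection.apply, Hermitian.IsHerm.form_apply, smul_smul, mul_comm]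
  have hdet : LinearMap.det T = δ := by
    rw [hT, LinearMap.transvection.det, Hermitian.IsHerm.form_apply, hh.smul_left, he]; ring
  have hδ0 : δ ≠ 0 := left_ne_zero_of_mul_eq_one hδ
  refine ⟨LinearEquiv.ofIsUnitDet (v := Module.finBasis F V) (v' := Module.finBasis F V) (f := T)
    (by rw [LinearMap.det_toMatrix, hdet]; exact isUnit_iff_ne_zero.2 hδ0), fun u v => ?_, ?_,
    fun x => hTx x⟩
  · show h (T u) (T v) = h u v
    rw [hTx, hTx, hh.add_left, hh.add_right, hh.add_right, hh.smul_left, hh.smul_right,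
      hh.smul_left, hh.smul_right, map_mul, map_sub, map_one, ← hh.symm, he]
    linear_combination (h u e * h e v) * hδ
  · exact hdet

omit [FiniteDimensional F V] in
/-- scaling a hyperbolic pair -/
theorem exists_pair_scale [Module.Finite F V] {e f : V} (he : h e e = 0) (hf : h f f = 0)
    (hef : h e f = 1) {δ : F} (hδ : δ * σ δ = 1) :
    ∃ D : V ≃ₗ[F] V, (∀ u v, h (D u) (D v) = h u v) ∧ LinearMap.det (D : Module.End F V) = δ ∧
      ∃ a b : F, ∀ x, D x = x + (a * h x f) • e + (b * h x e) • f := by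
  obtain ⟨μ, hμ, hμδ⟩ := exists_ratio hh hδ
  have hfe : h f e = 1 := by rw [hh.symm, hef, map_one]
  obtain ⟨ν, hν⟩ : ∃ ν, ν = (σ μ)⁻¹ := ⟨_, rfl⟩
  obtain ⟨T, hT⟩ : ∃ T : Module.End F V, T = (LinearMap.transvection (hh.form e) ((ν - 1) • f)).comp
      (LinearMap.transvection (hh.form f) ((μ - 1) • e)) := ⟨_, rfl⟩
  have hTx : ∀ x, T x = x + ((μ - 1) * h x f) • e + ((ν - 1) * h x e) • f := fun x => by
    rw [hT, LinearMap.comp_apply, LinearMap.transvection.apply, LinearMap.transvection.apply,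
      Hermitian.IsHerm.form_apply, Hermitian.IsHerm.form_apply, hh.add_left, hh.smul_left,
      hh.smul_left, he]
    module
  have hdet : LinearMap.det T = δ := by
    rw [hT, LinearMap.det_comp, LinearMap.transvection.det, LinearMap.transvection.det,
      Hermitian.IsHerm.form_apply, Hermitian.IsHerm.form_apply, hh.smul_left, hh.smul_left, hef,
      hfe, ← hμδ, hν]
    ring
  have hδ0 : δ ≠ 0 := left_ne_zero_of_mul_eq_one hδ
  refine ⟨LinearEquiv.ofIsUnitDet (v := Module.finBasis F V) (v' := Module.finBasis F V) (f := T)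
    (by rw [LinearMap.det_toMatrix, hdet]; exact isUnit_iff_ne_zero.2 hδ0), fun u v => ?_, hdet,
    μ - 1, ν - 1, fun x => hTx x⟩
  have h1 : μ * σ ν = 1 := by rw [hν, map_inv₀, hh.invol, mul_inv_cancel₀ hμ]
  have h2 : ν * σ μ = 1 := by rw [hν, inv_mul_cancel₀ ((map_ne_zero σ).2 hμ)]
  show h (T u) (T v) = h u v
  rw [hTx, hTx]
  simp only [hh.add_left, hh.add_right, hh.smul_left, hh.smul_right, he, hf, hef, hfe, map_mul,
    map_sub, map_one, ← hh.symm]
  linear_combination (h u f * h e v) * h1 + (h u e * h f v) * h2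

omit [FiniteDimensional F V] in
/-- unitary transvection -/
theorem exists_transvection [Module.Finite F V] {w : V} (hw : h w w = 0) {c : F} (hc : c + σ c = 0) :
    ∃ T : V ≃ₗ[F] V, (∀ u v, h (T u) (T v) = h u v) ∧ LinearMap.det (T : Module.End F V) = 1 ∧
      ∀ x, T x = x + (c * h x w) • w := by
  have hfv : (c • hh.form w) w = 0 := by simp [hw, Hermitian.IsHerm.form_apply]
  have hTx : ∀ x, LinearEquiv.transvection hfv x = x + (c * h x w) • w := fun x => by
    rw [LinearEquiv.transvection.apply, LinearMap.smul_apply, Hermitian.IsHerm.form_apply,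
      smul_eq_mul]
  refine ⟨_, fun u v => ?_, ?_, hTx⟩
  · rw [hTx, hTx]
    simp only [hh.add_left, hh.add_right, hh.smul_left, hh.smul_right, hw, map_mul, ← hh.symm]
    linear_combination (h u w * h w v) * hc
  · rw [← LinearEquiv.coe_det, LinearEquiv.transvection.det_eq_one]; rfl

variable [Finite F]

/-- moving a non-isotropic vector to the line of a vector of norm one -/
theorem exists_su_point {v e : V} (hv : h v v ≠ 0) (he : h e e = 1) :
    ∃ P : V ≃ₗ[F] V, (∀ x y, h (P x) (P y) = h x y) ∧ LinearMap.det (P : Module.End F V) = 1 ∧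
      P v ∈ Submodule.span F {e} := by
  obtain ⟨s, hs⟩ := Hermitian.exists_norm hh.ne_id hh.invol (x := (h v v)⁻¹)
    (by rw [map_inv₀, hh.self_fixed])
  have hs0 : s ≠ 0 := fun h0 => inv_ne_zero hv (by rw [← hs, h0, zero_mul])
  have hsv : h (s • v) (s • v) = 1 := by
    rw [hh.smul_left, hh.smul_right, ← mul_assoc, hs, inv_mul_cancel₀ hv]
  obtain ⟨g, hg, hgv⟩ := hh.exists_iso_of_gram (x := fun _ : Fin 1 => s • v) (y := fun _ : Fin 1 => e)
    (LinearIndependent.of_subsingleton 0 (by intro h0; rw [h0, hh.zero_left] at hsv; exact zero_ne_one hsv))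
    (LinearIndependent.of_subsingleton 0 (by intro h0; rw [h0, hh.zero_left] at he; exact zero_ne_one he))
    (fun i j => by rw [hsv, he])
  have hd := det_mul_conj_det hh hg
  obtain ⟨D, hD, hDdet, hDx⟩ := exists_quasi hh he (δ := σ (LinearMap.det (g : Module.End F V)))
    (by rw [hh.invol, mul_comm]; exact hd)
  refine ⟨g.trans D, fun x y => (hD _ _).trans (hg x y), ?_, ?_⟩
  · show LinearMap.det ((D : Module.End F V).comp (g : Module.End F V)) = 1
    rw [LinearMap.det_comp, hDdet, mul_comm]; exact hd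
  · have hgv' : g v = s⁻¹ • e := by rw [← hgv 0, map_smul, inv_smul_smul₀ hs0]
    rw [LinearEquiv.trans_apply, hgv', map_smul, hDx]
    exact Submodule.smul_mem _ _ (Submodule.add_mem _ (Submodule.mem_span_singleton_self e)
      (Submodule.smul_mem _ _ (Submodule.mem_span_singleton_self e)))

/-- moving a totally isotropic plane to a given one -/
theorem exists_su_plane {S' S : Submodule F V} (hS' : ∀ x ∈ S', ∀ y ∈ S', h x y = 0)
    (hS : ∀ x ∈ S, ∀ y ∈ S, h x y = 0) (hdim' : finrank F S' = 2) (hdim : finrank F S = 2)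
    {e f : V} (he : e ∈ S) (hf : h f f = 0) (hef : h e f = 1) :
    ∃ P : V ≃ₗ[F] V, (∀ x y, h (P x) (P y) = h x y) ∧ LinearMap.det (P : Module.End F V) = 1 ∧
      ∀ x ∈ S', P x ∈ S := by
  obtain ⟨g, hg, hgS⟩ := hh.witt S' S (LinearEquiv.ofFinrankEq S' S (hdim'.trans hdim.symm))
    fun x y => by rw [hS' _ x.2 _ y.2, hS _ (Submodule.coe_mem _) _ (Submodule.coe_mem _)]
  have hd := det_mul_conj_det hh hg
  obtain ⟨D, hD, hDdet, a, b, hDx⟩ := exists_pair_scale hh (hS e he e he) hf hef
    (δ := σ (LinearMap.det (g : Module.End F V))) (by rw [hh.invol, mul_comm]; exact hd)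
  refine ⟨g.trans D, fun x y => (hD _ _).trans (hg x y), ?_, fun x hx => ?_⟩
  · show LinearMap.det ((D : Module.End F V).comp (g : Module.End F V)) = 1
    rw [LinearMap.det_comp, hDdet, mul_comm]; exact hd
  · have hgx : g x ∈ S := by
      rw [show g x = g ((⟨x, hx⟩ : S') : V) from rfl, hgS ⟨x, hx⟩]
      exact Submodule.coe_mem _
    rw [LinearEquiv.trans_apply, hDx, hS _ hgx e he, mul_zero, zero_smul, add_zero]
    exact S.add_mem hgx (S.smul_mem _ he)

omit hh [Finite F] [FiniteDimensional F V] in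
/-- an eigenvector modulo an invariant subspace -/
theorem exists_eigen_mod {g : Module.End F V} {S T : Submodule F V} (hS : ∀ y ∈ S, g y ∈ S)
    (hT : ∀ y ∈ T, g y ∈ T) : ∀ (l : List F) (x : V), x ∈ T → x ∉ S →
    (l.map fun α => g - algebraMap F _ α).prod x ∈ S →
      ∃ u ∈ T, u ∉ S ∧ ∃ α : F, g u - α • u ∈ S := by
  intro l
  induction l with
  | nil => intro x _ hx h1; exact absurd (by simpa using h1) hx
  | cons α l ih =>
    intro x hxT hx h1
    have hmem : (l.map fun α => g - algebraMap F _ α).prod x ∈ T := by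
      clear ih h1
      induction l with
      | nil => simpa using hxT
      | cons β l ih =>
        rw [List.map_cons, List.prod_cons, Module.End.mul_apply, LinearMap.sub_apply,
          Module.algebraMap_end_apply]
        exact T.sub_mem (hT _ ih) (T.smul_mem _ ih)
    by_cases h2 : (l.map fun α => g - algebraMap F _ α).prod x ∈ S
    · exact ih x hxT hx h2
    · rw [List.map_cons, List.prod_cons, Module.End.mul_apply, LinearMap.sub_apply,
        Module.algebraMap_end_apply] at h1
      exact ⟨_, hmem, h2, α, h1⟩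

omit [Finite F] [FiniteDimensional F V] in
theorem finrank_span_pair_eq {v u : V} (hv : v ≠ 0) (hu : u ∉ Submodule.span F {v}) :
    finrank F (Submodule.span F {v, u}) = 2 := by
  have hli : LinearIndependent F ![v, u] := by
    rw [LinearIndependent.pair_iff']
    · intro a ha
      exact hu (Submodule.mem_span_singleton.2 ⟨a, ha⟩)
    · exact hv
  rw [show ({v, u} : Set V) = Set.range ![v, u] by simp [Set.pair_comm], finrank_span_eq_card hli,
    Fintype.card_fin]

/-- a non-isotropic eigenvector or an invariant totally isotropic plane -/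
theorem point_or_plane (hdim : finrank F V = 4) {g : V ≃ₗ[F] V}
    (hg : ∀ u v, h (g u) (g v) = h u v) :
    (∃ v : V, h v v ≠ 0 ∧ ∃ c : F, g v = c • v) ∨
      (∃ S : Submodule F V, finrank F S = 2 ∧ (∀ x ∈ S, ∀ y ∈ S, h x y = 0) ∧ ∀ x ∈ S, g x ∈ S) := by
  classical
  rw [or_iff_not_imp_left]
  intro hno
  push Not at hno
  obtain ⟨p, hp⟩ : ∃ p, p = LinearMap.charpoly (g : Module.End F V) := ⟨_, rfl⟩
  have hpm : p.Monic := hp ▸ LinearMap.charpoly_monic _
  have hpd : p.natDegree = 4 := by rw [hp, LinearMap.charpoly_natDegree, hdim]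
  have hpg : aeval (g : Module.End F V) p = 0 := hp ▸ LinearMap.aeval_self_charpoly _
  have hkerinv : ∀ a : F[X], ∀ y ∈ LinearMap.ker (aeval (g : Module.End F V) a),
      (g : Module.End F V) y ∈ LinearMap.ker (aeval (g : Module.End F V) a) := by
    intro a y hy
    rw [LinearMap.mem_ker] at hy ⊢
    nth_rewrite 2 [← aeval_X (R := F) (g : Module.End F V)]
    rw [← Module.End.mul_apply, ← map_mul, mul_comm, map_mul, Module.End.mul_apply, hy, map_zero]
  -- an irreducible factor of even degree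
  have hplane : ∀ a : F[X], a.Monic → Irreducible a → a ∣ p → Even a.natDegree →
      (∀ c, ¬ a.IsRoot c) → ∃ S : Submodule F V,
        finrank F S = 2 ∧ (∀ x ∈ S, ∀ y ∈ S, h x y = 0) ∧ ∀ x ∈ S, g x ∈ S := by
    intro a ha hai had heven hroot
    haveI : Fact (Irreducible a) := ⟨hai⟩
    have ha0 : a.coeff 0 ≠ 0 := by rw [coeff_zero_eq_eval_zero]; exact hroot 0
    have hti : ∀ x ∈ LinearMap.ker (aeval (g : Module.End F V) a),
        ∀ y ∈ LinearMap.ker (aeval (g : Module.End F V) a), h x y = 0 := fun x hx y hy =>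
      isotropic_of_even hh hg ha ha0 heven x y hx hy
    obtain ⟨x, hx, hax⟩ := exists_aeval_eq_zero (g : Module.End F V) hai (hp ▸ had)
    have h1 := natDegree_le_finrank hai (hkerinv a) hx (LinearMap.mem_ker.2 hax) hax
    have h2 := two_mul_finrank_le hh hti
    have h3 : 2 ≤ a.natDegree := by
      obtain ⟨k, hk⟩ := heven
      have := hai.natDegree_pos
      omega
    exact ⟨_, by omega, hti, hkerinv a⟩
  have hlin : ∀ w : F[X], w.Monic → w.natDegree = 1 → ∃ c, w = X - C c := fun w hw h1 =>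
    ⟨-w.coeff 0, by rw [map_neg, sub_neg_eq_add]; exact hw.eq_X_add_C h1⟩
  by_cases hroot : ∃ l, p.IsRoot l
  swap
  · push Not at hroot
    obtain ⟨a, ha, hai, b, hab⟩ := exists_monic_irreducible_factor p
      (fun hu => by rw [natDegree_eq_zero_of_isUnit hu] at hpd; omega)
    have hb : b.Monic := ha.of_mul_monic_left (hab ▸ hpm)
    have hsum : a.natDegree + b.natDegree = 4 := by rw [← ha.natDegree_mul hb, ← hab, hpd]
    have hra : ∀ c, ¬ a.IsRoot c := fun c hc => hroot c (hc.dvd ⟨b, hab⟩)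
    have h1 : a.natDegree ≠ 1 := fun h1 => by
      obtain ⟨c, hc⟩ := hlin a ha h1
      exact hra c (by rw [hc]; simp)
    have h3 : b.natDegree ≠ 1 := fun h3 => by
      obtain ⟨c, hc⟩ := hlin b hb h3
      exact hroot c (by rw [hab, hc]; simp)
    exact hplane a ha hai ⟨b, hab⟩ (by
      have := hai.natDegree_pos
      rcases (show a.natDegree = 2 ∨ a.natDegree = 4 by omega) with e | e <;> rw [e] <;> decide) hra
  obtain ⟨l, hl⟩ := hroot
  obtain ⟨v, hv⟩ := (Module.End.hasEigenvalue_iff_isRoot_charpoly _ _).2 (hp ▸ hl)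
    |>.exists_hasEigenvector
  have hgv : g v = l • v := hv.apply_eq_smul
  have hvv : h v v = 0 := by
    by_contra h0; exact hno v h0 l hgv
  obtain ⟨f1, hf1⟩ := dvd_iff_isRoot.2 hl
  have hf1m : f1.Monic := (monic_X_sub_C l).of_mul_monic_left (hf1 ▸ hpm)
  have hf1d : f1.natDegree = 3 := by
    rw [hf1, (monic_X_sub_C l).natDegree_mul hf1m, natDegree_X_sub_C] at hpd; omega
  obtain ⟨W, hW⟩ : ∃ W, W = LinearMap.ker (hh.form v) := ⟨_, rfl⟩
  have hWmem : ∀ y, y ∈ W ↔ h y v = 0 := fun y => by rw [hW, LinearMap.mem_ker]; rfl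
  have hl0 : l ≠ 0 := fun h0 => hv.2 (g.injective (by rw [hgv, h0, zero_smul, map_zero]))
  have hWinv : ∀ y ∈ W, (g : Module.End F V) y ∈ W := fun y hy => by
    rw [hWmem] at hy ⊢
    have := hg y v
    rw [hgv, hh.smul_right, hy] at this
    exact (mul_eq_zero.1 this).resolve_left ((map_ne_zero σ).2 hl0)
  have hWdim : finrank F W = 3 := by
    rw [hW]
    have h1 := Module.Dual.finrank_ker_add_one_of_ne_zero (f := hh.form v) (fun h0 => hv.2 (hh.nondeg v fun w => by
      rw [hh.symm, show h w v = hh.form v w from rfl, h0, LinearMap.zero_apply, map_zero]))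
    omega
  by_cases hroot1 : ∃ m, f1.IsRoot m
  swap
  · push Not at hroot1
    exfalso
    have hi : Irreducible f1 := irreducible_of_degree_le_three_of_not_isRoot
      (Finset.mem_Icc.2 ⟨by omega, by omega⟩) hroot1
    obtain ⟨x, hx, hax⟩ := exists_aeval_eq_zero (g : Module.End F V) hi
      (hp ▸ ⟨X - C l, by rw [hf1, mul_comm]⟩)
    obtain ⟨T, hT⟩ : ∃ T, T = LinearMap.ker (aeval (g : Module.End F V) f1) := ⟨_, rfl⟩
    have hTinv : ∀ y ∈ T, (g : Module.End F V) y ∈ T := hT ▸ hkerinv f1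
    have hxT : x ∈ T := by rw [hT]; exact hax
    have hT3 := natDegree_le_finrank hi hTinv hx hxT hax
    have hvT : v ∉ T := by
      rw [hT, LinearMap.mem_ker, Module.End.aeval_apply_of_hasEigenvector hv]
      exact smul_ne_zero (hroot1 l) hv.2
    have h4 := Submodule.finrank_sup_add_finrank_inf_eq T W
    have h5 := Submodule.finrank_le (T ⊔ W)
    have hpos : 0 < finrank F (T ⊓ W : Submodule F V) := by omega
    obtain ⟨⟨y, hy⟩, hy0⟩ := Module.finrank_pos_iff_exists_ne_zero.1 hpos
    have h6 := natDegree_le_finrank hi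
      (fun z hz => Submodule.mem_inf.2 ⟨hTinv z hz.1, hWinv z hz.2⟩)
      (fun e => hy0 (Subtype.ext e)) hy (LinearMap.mem_ker.1 (hT ▸ hy.1))
    have h7 : (T ⊓ W : Submodule F V) = W :=
      Submodule.eq_of_le_of_finrank_le inf_le_right (by omega)
    have : v ∈ T ⊓ W := by rw [h7, hWmem]; exact hvv
    exact hvT this.1
  obtain ⟨m, hm⟩ := hroot1
  obtain ⟨f2, hf2⟩ := dvd_iff_isRoot.2 hm
  have hf2m : f2.Monic := (monic_X_sub_C m).of_mul_monic_left (hf2 ▸ hf1m)
  have hf2d : f2.natDegree = 2 := by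
    rw [hf2, (monic_X_sub_C m).natDegree_mul hf2m, natDegree_X_sub_C] at hf1d; omega
  by_cases hroot2 : ∃ r, f2.IsRoot r
  swap
  · push Not at hroot2
    have hi : Irreducible f2 := irreducible_of_degree_le_three_of_not_isRoot
      (Finset.mem_Icc.2 ⟨by omega, by omega⟩) hroot2
    exact hplane f2 hf2m hi ⟨(X - C l) * (X - C m), by rw [hf1, hf2]; ring⟩ (by rw [hf2d]; decide)
      hroot2
  obtain ⟨r, hr⟩ := hroot2
  obtain ⟨f3, hf3⟩ := dvd_iff_isRoot.2 hr
  have hf3m : f3.Monic := (monic_X_sub_C r).of_mul_monic_left (hf3 ▸ hf2m)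
  obtain ⟨s, hs⟩ := hlin f3 hf3m (by
    rw [hf3, (monic_X_sub_C r).natDegree_mul hf3m, natDegree_X_sub_C] at hf2d; omega)
  have hprod : ([l, m, r, s].map fun α => (g : Module.End F V) - algebraMap F _ α).prod = 0 := by
    have := hpg
    rw [hf1, hf2, hf3, hs] at this
    simp only [map_mul, map_sub, aeval_X, aeval_C] at this
    simpa [mul_assoc] using this
  -- an eigenvector modulo the isotropic one
  obtain ⟨x, hxW, hxv⟩ : ∃ x ∈ W, x ∉ Submodule.span F {v} := by
    by_contra hcon
    push Not at hcon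
    have := Submodule.finrank_mono (show W ≤ Submodule.span F {v} from hcon)
    rw [finrank_span_singleton hv.2, hWdim] at this
    omega
  have hSinv : ∀ y ∈ Submodule.span F {v}, (g : Module.End F V) y ∈ Submodule.span F {v} := by
    intro y hy
    obtain ⟨a, rfl⟩ := Submodule.mem_span_singleton.1 hy
    rw [map_smul]
    exact Submodule.smul_mem _ _ (Submodule.mem_span_singleton.2 ⟨l, hgv.symm⟩)
  obtain ⟨u, huW, huv, α, hα⟩ := exists_eigen_mod hSinv hWinv [l, m, r, s] x hxW hxv
    (by rw [hprod]; exact zero_mem _)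
  obtain ⟨c, hc⟩ := Submodule.mem_span_singleton.1 hα
  have hgu : g u = α • u + c • v := by
    rw [hc]; exact (add_sub_cancel _ _).symm
  have huv0 : h u v = 0 := (hWmem u).1 huW
  have hvu0 : h v u = 0 := hh.eq_zero_comm.1 huv0
  -- a totally isotropic invariant plane through `v`
  have mkplane : ∀ (y : V) (a b : F), y ∉ Submodule.span F {v} → h y y = 0 → h y v = 0 →
      g y = a • y + b • v → ∃ S : Submodule F V, finrank F S = 2 ∧
        (∀ x ∈ S, ∀ y ∈ S, h x y = 0) ∧ ∀ x ∈ S, g x ∈ S := by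
    intro y a b hy hyy hyv hgy
    refine ⟨Submodule.span F {v, y}, finrank_span_pair_eq hh hv.2 hy, ?_, ?_⟩
    · intro p1 hp1 p2 hp2
      obtain ⟨a1, b1, rfl⟩ := Submodule.mem_span_pair.1 hp1
      obtain ⟨a2, b2, rfl⟩ := Submodule.mem_span_pair.1 hp2
      simp [hh.add_left, hh.add_right, hh.smul_left, hh.smul_right, hvv, hyy, hyv,
        hh.eq_zero_comm.1 hyv]
    · intro p1 hp1
      obtain ⟨a1, b1, rfl⟩ := Submodule.mem_span_pair.1 hp1
      rw [map_add, map_smul, map_smul, hgv, hgy]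
      exact Submodule.mem_span_pair.2 ⟨a1 * l + b1 * b, b1 * a, by module⟩
  by_cases huu : h u u = 0
  · exact mkplane u α c huv huu huv0 hgu
  have mkpoint : ∀ (y : V) (a b : F), a ≠ l → h y v = 0 → g y = a • y + b • v → h y y = 0 := by
    intro y a b hal hyv hgy
    by_contra h0
    refine hno (y + (b / (a - l)) • v) ?_ a ?_
    · simpa [hh.add_left, hh.add_right, hh.smul_left, hh.smul_right, hvv, hyv,
        hh.eq_zero_comm.1 hyv] using h0
    · rw [map_add, map_smul, hgv, hgy]
      have : b + b / (a - l) * l = a * (b / (a - l)) := by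
        field_simp [sub_ne_zero.2 hal]
        ring
      linear_combination (norm := module) congrArg (fun t => t • v) this
  have hαl : α = l := by
    by_contra hne'
    exact huu (mkpoint u α c hne' huv0 hgu)
  obtain ⟨x', hx'W, hx'⟩ : ∃ x' ∈ W, x' ∉ Submodule.span F {v, u} := by
    by_contra hcon
    push Not at hcon
    have := Submodule.finrank_mono (show W ≤ Submodule.span F {v, u} from hcon)
    rw [finrank_span_pair_eq hh hv.2 huv, hWdim] at this
    omega
  obtain ⟨z, hz⟩ : ∃ z, z = x' - (h x' u / h u u) • u := ⟨_, rfl⟩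
  have hzu : h z u = 0 := by
    rw [hz, hh.sub_left, hh.smul_left, div_mul_cancel₀ _ huu, sub_self]
  have hzv : h z v = 0 := by
    rw [hz, hh.sub_left, hh.smul_left, huv0, (hWmem x').1 hx'W, mul_zero, sub_self]
  have hzS : z ∉ Submodule.span F {v, u} := fun hzs => hx' (by
    have : x' = z + (h x' u / h u u) • u := by rw [hz]; exact (sub_add_cancel _ _).symm
    rw [this]
    exact add_mem hzs (Submodule.smul_mem _ _ (Submodule.subset_span (by simp))))
  have hli : LinearIndependent F ![v, u, z] := by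
    rw [Fintype.linearIndependent_iff]
    intro k hk
    simp [Fin.sum_univ_three] at hk
    have h2 : k 2 = 0 := by
      by_contra h2
      refine hzS (Submodule.mem_span_pair.2 ⟨-(k 2)⁻¹ * k 0, -(k 2)⁻¹ * k 1, ?_⟩)
      rw [mul_smul, mul_smul, ← smul_add,
        show k 0 • v + k 1 • u = -(k 2 • z) from eq_neg_of_add_eq_zero_left hk, neg_smul, smul_neg,
        neg_neg, inv_smul_smul₀ h2]
    rw [h2, zero_smul, add_zero] at hk
    have h1 : k 1 = 0 := by
      by_contra h1
      refine huv (Submodule.mem_span_singleton.2 ⟨-(k 1)⁻¹ * k 0, ?_⟩)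
      rw [mul_smul, show k 0 • v = -(k 1 • u) from eq_neg_of_add_eq_zero_left hk, neg_smul,
        smul_neg, neg_neg, inv_smul_smul₀ h1]
    rw [h1, zero_smul, add_zero] at hk
    have h0 : k 0 = 0 := (smul_eq_zero.1 hk).resolve_right hv.2
    intro i
    fin_cases i <;> assumption
  have hgz : g z ∈ Submodule.span F (Set.range ![v, u, z]) := by
    have hle : Submodule.span F (Set.range ![v, u, z]) ≤ W := by
      rw [Submodule.span_le]
      rintro _ ⟨i, rfl⟩
      fin_cases i
      · exact (hWmem v).2 hvv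
      · exact huW
      · exact (hWmem z).2 hzv
    rw [Submodule.eq_of_le_of_finrank_le hle (by
      rw [finrank_span_eq_card hli, hWdim, Fintype.card_fin])]
    exact hWinv z ((hWmem z).2 hzv)
  obtain ⟨k, hk⟩ := (Submodule.mem_span_range_iff_exists_fun F).1 hgz
  simp [Fin.sum_univ_three] at hk
  have hgzv : h (g z) v = 0 := (hWmem _).1 (hWinv z ((hWmem z).2 hzv))
  have hgzu : h (g z) u = 0 := by
    have h1 := hg z u
    rw [hgu, hαl, hh.add_right, hh.smul_right, hh.smul_right, hgzv, mul_zero, add_zero, hzu] at h1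
    exact (mul_eq_zero.1 h1).resolve_left ((map_ne_zero σ).2 hl0)
  have hk1 : k 1 = 0 := by
    rw [← hk, hh.add_left, hh.add_left, hh.smul_left, hh.smul_left, hh.smul_left, hvu0, hzu,
      mul_zero, mul_zero, zero_add, add_zero] at hgzu
    exact (mul_eq_zero.1 hgzu).resolve_right huu
  have hgz' : g z = k 2 • z + k 0 • v := by rw [← hk, hk1, zero_smul, add_zero, add_comm]
  have hzv' : z ∉ Submodule.span F {v} := fun h1 =>
    hzS (Submodule.span_mono (by simp) h1)
  by_cases hzz : h z z = 0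
  · exact mkplane z _ _ hzv' hzz hzv hgz'
  have hk2 : k 2 = l := by
    by_contra hne'
    exact hzz (mkpoint z _ _ hne' hzv hgz')
  obtain ⟨t, ht⟩ := Hermitian.exists_norm hh.ne_id hh.invol (x := -(h u u) / h z z)
    (by rw [map_div₀, map_neg, hh.self_fixed, hh.self_fixed])
  refine mkplane (u + t • z) l (c + t * k 0) ?_ ?_ ?_ ?_
  · intro h1
    obtain ⟨a, ha⟩ := Submodule.mem_span_singleton.1 h1
    have := Fintype.linearIndependent_iff.1 hli ![-a, 1, t] (by
      simp [Fin.sum_univ_three]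
      linear_combination (norm := module) (-1 : ℤ) • ha) 1
    simp at this
  · have huz : h u z = 0 := hh.eq_zero_comm.1 hzu
    simp only [hh.add_left, hh.add_right, hh.smul_left, hh.smul_right, huz, hzu, mul_zero,
      add_zero, zero_add]
    rw [← mul_assoc, ht, div_mul_cancel₀ _ hzz, add_neg_cancel]
  · rw [hh.add_left, hh.smul_left, huv0, hzv, mul_zero, add_zero]
  · rw [map_add, map_smul, hgu, hgz', hαl, hk2]
    module

/-- the unitary group of degree four -/
theorem coveredMod_su_four (hdim : finrank F V = 4) {G : Type*} [Group G] (ρ : G →* (V ≃ₗ[F] V))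
    (hmem : ∀ g u v, h (ρ g u) (ρ g v) = h u v)
    (hsurj : ∀ P : V ≃ₗ[F] V, (∀ u v, h (P u) (P v) = h u v) →
      LinearMap.det (P : Module.End F V) = 1 → ∃ g, ρ g = P) :
    CoveredMod ρ := by
  classical
  obtain ⟨b, hb⟩ := Hermitian.exists_orthonormal (n := 4) hh hdim
  obtain ⟨ζ, hζ⟩ := Hermitian.exists_norm hh.ne_id hh.invol (x := (-1 : F)) (by simp)
  obtain ⟨ε, hε, hε1⟩ : ∃ ε : F, ε * σ ε = 1 ∧ ε ≠ 1 := by
    obtain ⟨t, ht⟩ : ∃ t, σ t ≠ t := by
      by_contra hcon
      push Not at hcon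
      exact hh.ne_id (RingHom.ext hcon)
    have ht0 : t ≠ 0 := fun h0 => ht (by rw [h0, map_zero])
    have hst : σ t ≠ 0 := (map_ne_zero σ).2 ht0
    refine ⟨t / σ t, ?_, fun h1 => ht ((div_eq_one_iff_eq hst).1 h1).symm⟩
    rw [map_div₀, hh.invol]
    field_simp
  have hζ' : ζ * ε * σ (ζ * ε) = -1 := by
    rw [map_mul]; linear_combination (σ ε * ε) * hζ - hε
  obtain ⟨e, he⟩ : ∃ e, e = b 0 + ζ • b 1 := ⟨_, rfl⟩
  obtain ⟨e', he'⟩ : ∃ e', e' = b 2 + ζ • b 3 := ⟨_, rfl⟩
  obtain ⟨f0, hf0⟩ : ∃ f0, f0 = b 0 + (ζ * ε) • b 1 := ⟨_, rfl⟩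
  have hee : h e e = 0 := by
    simp only [he, hh.add_left, hh.add_right, hh.smul_left, hh.smul_right, hb]
    norm_num; linear_combination hζ
  have he'e' : h e' e' = 0 := by
    simp [he', hh.add_left, hh.add_right, hh.smul_left, hh.smul_right, hb]
    linear_combination hζ
  have hee' : h e e' = 0 := by
    simp [he, he', hh.add_left, hh.add_right, hh.smul_left, hh.smul_right, hb]
  have hf00 : h f0 f0 = 0 := by
    simp only [hf0, hh.add_left, hh.add_right, hh.smul_left, hh.smul_right, hb]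
    norm_num
    rw [map_mul] at hζ'
    linear_combination hζ'
  have hef0 : h e f0 = 1 - σ ε := by
    simp only [he, hf0, hh.add_left, hh.add_right, hh.smul_left, hh.smul_right, hb]
    norm_num; linear_combination (σ ε) * hζ
  have hne : (1 - σ ε) ≠ 0 := fun h1 => hε1 (by
    have h2 := congrArg σ (sub_eq_zero.1 h1); rwa [map_one, hh.invol, eq_comm] at h2)
  obtain ⟨f, hf⟩ : ∃ f, f = σ (1 - σ ε)⁻¹ • f0 := ⟨_, rfl⟩
  have hff : h f f = 0 := by rw [hf, hh.smul_left, hh.smul_right, hf00, mul_zero, mul_zero]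
  have hef : h e f = 1 := by rw [hf, hh.smul_right, hh.invol, hef0, inv_mul_cancel₀ hne]
  obtain ⟨S, hS⟩ : ∃ S : Submodule F V, S = Submodule.span F {e, e'} := ⟨_, rfl⟩
  have hSti : ∀ x ∈ S, ∀ y ∈ S, h x y = 0 := by
    subst hS
    intro p1 hp1 p2 hp2
    obtain ⟨a1, b1, rfl⟩ := Submodule.mem_span_pair.1 hp1
    obtain ⟨a2, b2, rfl⟩ := Submodule.mem_span_pair.1 hp2
    simp [hh.add_left, hh.add_right, hh.smul_left, hh.smul_right, hee, he'e', hee',
      hh.eq_zero_comm.1 hee']
  have he0 : e ≠ 0 := fun h0 => by rw [h0, hh.zero_left] at hef; exact zero_ne_one hef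
  have hSdim : finrank F S = 2 := by
    rw [hS]
    refine finrank_span_pair_eq hh he0 fun h1 => ?_
    obtain ⟨a, ha⟩ := Submodule.mem_span_singleton.1 h1
    have := congrArg (fun x => h x (b 2)) ha
    simp [he, he', hh.add_left, hh.smul_left, hb] at this
  have heS : e ∈ S := by rw [hS]; exact Submodule.subset_span (by simp)
  have hfS : f ∉ S := fun h1 => by
    have := hSti e heS f h1
    rw [hef] at this
    exact one_ne_zero this
  have hb0 : h (b 0) (b 0) = 1 := by simp [hb]
  obtain ⟨c, hc0, hc⟩ := exists_trace_zero hh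
  obtain ⟨T, hT, hTdet, hTx⟩ := exists_transvection hh hff hc
  obtain ⟨t, ht⟩ := hsurj T hT hTdet
  refine ⟨setStab ρ (Submodule.span F {b 0} : Submodule F V), setStab ρ (S : Submodule F V), ?_, ?_,
    fun g c hg => ⟨scalar_mem_setStab _ hg, scalar_mem_setStab _ hg⟩, fun g => ?_⟩
  · refine setStab_ne_top t (Submodule.mem_span_singleton_self (b 0)) ?_
    rw [ht, hTx, SetLike.mem_coe, Submodule.mem_span_singleton]
    rintro ⟨a, ha⟩
    have hb0f : h (b 0) f ≠ 0 := by
      rw [hf, hh.smul_right, hh.invol, show h (b 0) f0 = 1 by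
        simp [hf0, hh.add_right, hh.smul_right, hb], mul_one]
      exact inv_ne_zero hne
    have hfb : f ∈ Submodule.span F {b 0} := by
      refine (Submodule.smul_mem_iff _ (mul_ne_zero hc0 hb0f)).1
        (Submodule.mem_span_singleton.2 ⟨a - 1, ?_⟩)
      rw [sub_smul, one_smul, ha, add_sub_cancel_left]
    obtain ⟨z, hz⟩ := Submodule.mem_span_singleton.1 hfb
    rw [← hz, hh.smul_left, hh.smul_right, hb0, mul_one] at hff
    have hz0 : z = 0 := (mul_eq_zero.1 hff).elim id fun h1 => (map_eq_zero σ).1 h1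
    rw [← hz, hz0, zero_smul, hh.zero_right] at hef
    exact zero_ne_one hef
  · refine setStab_ne_top t heS ?_
    rw [ht, hTx, hef, mul_one, SetLike.mem_coe]
    intro h1
    exact hfS (by
      have h2 := S.smul_mem c⁻¹ (S.sub_mem h1 heS)
      rwa [add_sub_cancel_left, inv_smul_smul₀ hc0] at h2)
  rcases point_or_plane hh hdim (g := ρ g) (hmem g) with ⟨v, hv, l, hl⟩ | ⟨S', hS'2, hS'ti, hS'g⟩
  · obtain ⟨P, hP, hPdet, hPv⟩ := exists_su_point hh hv hb0
    obtain ⟨x, hx⟩ := hsurj P hP hPdet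
    refine ⟨x, Or.inl (conj_mem_setStab_of_le (S' := Submodule.span F {v}) ?_ ?_ ?_)⟩
    · intro w hw
      obtain ⟨a, rfl⟩ := Submodule.mem_span_singleton.1 hw
      rw [map_smul, hl]
      exact Submodule.smul_mem _ _ (Submodule.smul_mem _ _ (Submodule.mem_span_singleton_self v))
    · intro w hw
      obtain ⟨a, rfl⟩ := Submodule.mem_span_singleton.1 hw
      rw [map_smul, hx]
      exact Submodule.smul_mem _ _ hPv
    · rw [finrank_span_singleton (fun h0 => hv (by rw [h0, hh.zero_left])),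
        finrank_span_singleton (fun h0 => by rw [h0, hh.zero_left] at hb0; exact zero_ne_one hb0)]
  · obtain ⟨P, hP, hPdet, hPS⟩ := exists_su_plane hh hS'ti hSti hS'2 hSdim heS hff hef
    obtain ⟨x, hx⟩ := hsurj P hP hPdet
    refine ⟨x, Or.inr (conj_mem_setStab_of_le hS'g (fun w hw => ?_) (hS'2.trans hSdim.symm))⟩
    rw [hx]
    exact hPS w hw

end Cfsg.Agent.UnionTwoClasses
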