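import Cfsg.Agent.Lib.UnionTwoClasses.Unitary

/-!
# The Hermitian trace form of an extension of odd degree
-/

set_option autoImplicit false

namespace Cfsg.Agent.UnionTwoClasses

open Module

variable {F : Type*} [Field F] [Finite F] {σ : F →+* F} {L : Type*} [Field L] [Algebra F L]
  [Module.Finite F L]

/-- a ring endomorphism over `σ` commutes with the trace and the norm -/
theorem trace_norm_semilinear (τ : L →+* L) (hτ : ∀ c, τ (algebraMap F L c) = algebraMap F L (σ c))
    (x : L) :
    Algebra.trace F L (τ x) = σ (Algebra.trace F L x) ∧ Algebra.norm F (τ x) = σ (Algebra.norm F x) := by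
  haveI : Finite L := Module.finite_of_finite F
  constructor <;> apply (algebraMap F L).injective <;> rw [← hτ]
  · rw [FiniteField.algebraMap_trace_eq_sum_pow, FiniteField.algebraMap_trace_eq_sum_pow, map_sum]
    simp [map_pow]
  · rw [FiniteField.algebraMap_norm_eq_prod_pow, FiniteField.algebraMap_norm_eq_prod_pow, map_prod]
    simp [map_pow]

/-- the conjugation of an extension of odd degree -/
theorem exists_tau (hne : σ ≠ RingHom.id F) (hinv : ∀ a, σ (σ a) = a) (hodd : Odd (finrank F L)) :
    ∃ τ : L →+* L, τ ≠ RingHom.id L ∧ (∀ x, τ (τ x) = x) ∧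
      ∀ c, τ (algebraMap F L c) = algebraMap F L (σ c) := by
  haveI : Finite L := Module.finite_of_finite F
  haveI := Fintype.ofFinite L
  haveI := Fintype.ofFinite (Hermitian.fixed σ)
  obtain ⟨r, hr⟩ := CharP.exists F
  haveI : CharP F r := hr
  haveI hrp : Fact r.Prime := ⟨CharP.char_is_prime F r⟩
  haveI : CharP (Hermitian.fixed σ) r :=
    RingHom.charP (Hermitian.fixed σ).subtype (Hermitian.fixed σ).subtype.injective r
  obtain ⟨b, -, hb⟩ := FiniteField.card (Hermitian.fixed σ) r
  haveI : CharP L r := charP_of_injective_algebraMap (algebraMap F L).injective r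
  haveI : ExpChar L r := ExpChar.prime hrp.out
  obtain ⟨k, hk⟩ := hodd
  obtain ⟨τ, hτ⟩ : ∃ τ, τ = iterateFrobenius L r ((b : ℕ) * finrank F L) := ⟨_, rfl⟩
  have hQ : Nat.card F = (r ^ (b : ℕ)) ^ 2 := by
    rw [Hermitian.card_eq_sq hne hinv, Nat.card_eq_fintype_card, hb]
  have hτc : ∀ c, τ (algebraMap F L c) = algebraMap F L (σ c) := by
    intro c
    haveI := Fintype.ofFinite F
    rw [hτ, iterateFrobenius_def, ← map_pow, Hermitian.apply_eq_pow hne hinv,
      Nat.card_eq_fintype_card, hb]
    congr 1
    have e : r ^ ((b : ℕ) * finrank F L) = Fintype.card F ^ k * r ^ (b : ℕ) := by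
      rw [hk, ← Nat.card_eq_fintype_card, hQ]; ring
    rw [e, pow_mul, FiniteField.pow_card_pow]
  refine ⟨τ, fun h => hne (RingHom.ext fun c => (algebraMap F L).injective ?_), fun x => ?_, hτc⟩
  · rw [← hτc, h]; rfl
  · rw [hτ, iterateFrobenius_def, iterateFrobenius_def, ← pow_mul, ← pow_add, ← two_mul,
      show r ^ (2 * ((b : ℕ) * finrank F L)) = Fintype.card L by
        rw [← mul_assoc, pow_mul, mul_comm 2, pow_mul, ← hQ, ← Module.natCard_eq_pow_finrank,
          Nat.card_eq_fintype_card],
      FiniteField.pow_card]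

/-- the trace form is Hermitian -/
theorem traceHerm {τ : L →+* L} (hne : σ ≠ RingHom.id F) (hinv : ∀ a, σ (σ a) = a)
    (hττ : ∀ x, τ (τ x) = x) (hτ : ∀ c, τ (algebraMap F L c) = algebraMap F L (σ c)) :
    Hermitian.IsHerm σ (fun x y : L => Algebra.trace F L (x * τ y)) where
  ne_id := hne
  invol := hinv
  add_left x y v := by rw [add_mul, map_add]
  smul_left c x v := by rw [smul_mul_assoc, map_smul, smul_eq_mul]
  symm v w := by
    rw [← (trace_norm_semilinear τ hτ _).1, τ.map_mul, hττ, mul_comm]
  nondeg v hv := (traceForm_nondegenerate F L).1 v fun w => by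
    have := hv (τ w)
    rwa [hττ] at this

/-- two Hermitian spaces of the same dimension are isometric -/
theorem exists_isometry_herm {V W : Type*} [AddCommGroup V] [Module F V] [FiniteDimensional F V]
    [AddCommGroup W] [Module F W] [FiniteDimensional F W] {h : V → V → F} {k : W → W → F}
    (hh : Hermitian.IsHerm σ h) (hk : Hermitian.IsHerm σ k) (hdim : finrank F W = finrank F V) :
    ∃ ψ : W ≃ₗ[F] V, ∀ x y, h (ψ x) (ψ y) = k x y := by
  classical
  obtain ⟨b, hb⟩ := Hermitian.exists_orthonormal (n := finrank F V) hh rfl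
  obtain ⟨c, hc⟩ := Hermitian.exists_orthonormal (n := finrank F V) hk hdim
  let B : Basis (Fin (finrank F V)) F V := basisOfLinearIndependentOfCardEqFinrank' b
    (hh.linearIndependent_of_gram (hh.orthonormal_gram hb)) (by simp)
  let C : Basis (Fin (finrank F V)) F W := basisOfLinearIndependentOfCardEqFinrank' c
    (hk.linearIndependent_of_gram (hk.orthonormal_gram hc)) (by simp [hdim])
  refine ⟨C.equiv B (Equiv.refl _), fun x y => ?_⟩
  have hψ : ∀ i, C.equiv B (Equiv.refl _) (c i) = b i := fun i => by
    have h1 := C.equiv_apply i B (Equiv.refl _)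
    rwa [show C i = c i by simp [C], show B ((Equiv.refl _) i) = b i by simp [B]] at h1
  have hspan : ∀ z, ∃ a : Fin (finrank F V) → F, z = ∑ i, a i • c i := fun z =>
    ⟨fun i => C.repr z i, by conv_lhs => rw [← C.sum_repr z]
                             simp [C]⟩
  obtain ⟨a, rfl⟩ := hspan x
  obtain ⟨a', rfl⟩ := hspan y
  simp only [map_sum, map_smul, hψ, hh.sum_left, hk.sum_left, hh.smul_left, hk.smul_left]
  refine Finset.sum_congr rfl fun i _ => ?_
  congr 1
  rw [hh.symm, hk.symm, hh.sum_left, hk.sum_left]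
  simp [hh.smul_left, hk.smul_left, hb, hc]

end Cfsg.Agent.UnionTwoClasses
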