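import Cfsg.Agent.Lib.UnionTwoClasses.Basic
import Cfsg.Agent.Lib.Classical.Hermitian
import Cfsg.Agent.Lib.Spectra.Projective

/-!
# Polynomials in an isometry of a Hermitian form

Adjoints of polynomials, and the kernel of an irreducible polynomial of even degree is totally
isotropic.
-/

set_option autoImplicit false

namespace Cfsg.Agent.UnionTwoClasses

open Polynomial Module

variable {F : Type*} [Field F] {σ : F →+* F} {V : Type*} [AddCommGroup V] [Module F V]

/-- An orbit of an endomorphism spans at least as much as the degree of an irreducible annihilator. -/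
theorem natDegree_le_finrank [FiniteDimensional F V] {g : Module.End F V} {a : F[X]}
    (ha : Irreducible a) {S : Submodule F V} (hS : ∀ y ∈ S, g y ∈ S) {x : V} (hx : x ≠ 0)
    (hxS : x ∈ S) (hax : aeval g a x = 0) : a.natDegree ≤ finrank F S := by
  have hpow : ∀ i : ℕ, (g ^ i) x ∈ S := fun i => by
    induction i with
    | zero => simpa using hxS
    | succ i ih =>
      rw [pow_succ', Module.End.mul_apply]
      exact hS _ ih
  have hmem : ∀ p : F[X], aeval g p x ∈ S := fun p => by
    rw [aeval_eq_sum_range, LinearMap.sum_apply]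
    exact S.sum_mem fun i _ => S.smul_mem _ (hpow i)
  let φ : degreeLT F a.natDegree →ₗ[F] S :=
    { toFun := fun p => ⟨aeval g (p : F[X]) x, hmem _⟩
      map_add' := fun p r => Subtype.ext (by simp)
      map_smul' := fun c p => Subtype.ext (by simp) }
  have hφ : Function.Injective φ := by
    refine (injective_iff_map_eq_zero _).2 fun p hp => ?_
    obtain ⟨p, hpd⟩ := p
    by_contra hne
    have hp0 : p ≠ 0 := fun h => hne (Subtype.ext h)
    have hp' : aeval g p x = 0 := congrArg Subtype.val hp
    have hdeg : p.natDegree < a.natDegree :=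
      (natDegree_lt_iff_degree_lt hp0).2 (mem_degreeLT.1 hpd)
    have hndvd : ¬ a ∣ p := fun h => absurd (natDegree_le_of_dvd h hp0) (by omega)
    obtain ⟨u, w, huw⟩ := ha.coprime_iff_not_dvd.2 hndvd
    have h1 := LinearMap.congr_fun (congrArg (aeval g) huw) x
    rw [map_add, map_mul, map_mul, map_one, LinearMap.add_apply, Module.End.mul_apply,
      Module.End.mul_apply, hax, hp', map_zero, map_zero, add_zero] at h1
    exact hx h1.symm
  have h2 := LinearMap.finrank_le_finrank_of_injective hφ
  rwa [(degreeLTEquiv F a.natDegree).finrank_eq, finrank_fin_fun] at h2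

/-- an irreducible factor of the characteristic polynomial kills a non-zero vector -/
theorem exists_aeval_eq_zero [FiniteDimensional F V] (g : Module.End F V) {a : F[X]}
    (ha : Irreducible a) (hd : a ∣ g.charpoly) : ∃ x : V, x ≠ 0 ∧ aeval g a x = 0 := by
  classical
  by_contra h
  push Not at h
  obtain ⟨b⟩ : Nonempty (Basis (Fin (finrank F V)) F V) := ⟨Module.finBasis F V⟩
  have h1 : a ∣ minpoly F g := by
    rw [← LinearMap.minpoly_toMatrix b]
    exact Spectra.dvd_minpoly_of_dvd_charpoly _ ha (by rwa [LinearMap.charpoly_toMatrix])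
  obtain ⟨w, hw⟩ := h1
  have hmne : minpoly F g ≠ 0 := minpoly.ne_zero (Algebra.IsIntegral.isIntegral g)
  have hw0 : aeval g w = 0 := by
    refine LinearMap.ext fun y => ?_
    by_contra hy
    refine h _ hy ?_
    rw [← Module.End.mul_apply, ← map_mul, ← hw, minpoly.aeval]; rfl
  have hwne : w ≠ 0 := fun e => hmne (by rw [hw, e, mul_zero])
  have h2 := natDegree_le_of_dvd (minpoly.dvd F g hw0) hwne
  rw [hw, natDegree_mul ha.ne_zero hwne] at h2
  have := ha.natDegree_pos
  omega

section herm

variable {h : V → V → F}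

/-- the adjoint of a polynomial in an isometry -/
theorem form_aeval (hh : Hermitian.IsHerm σ h) {g : V ≃ₗ[F] V} (hg : ∀ u v, h (g u) (g v) = h u v)
    (p : F[X]) (x y : V) :
    h (aeval (g : Module.End F V) p x) y = h x (aeval (g.symm : Module.End F V) (p.map σ) y) := by
  induction p using Polynomial.induction_on generalizing x y with
  | C a =>
    rw [Polynomial.map_C, aeval_C, aeval_C, Module.algebraMap_end_apply, Module.algebraMap_end_apply,
      hh.smul_left, hh.smul_right, hh.invol]
  | add p r hp hr =>
    rw [Polynomial.map_add, map_add, map_add, LinearMap.add_apply, LinearMap.add_apply, hh.add_left,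
      hh.add_right, hp, hr]
  | monomial n a ih =>
    rw [pow_succ, ← mul_assoc]
    generalize C a * X ^ n = P at ih ⊢
    rw [Polynomial.map_mul, map_mul, map_mul, Polynomial.map_X, aeval_X,
      aeval_X, Module.End.mul_apply, Module.End.mul_apply, ih]
    have hc : Commute (aeval (g.symm : Module.End F V) (P.map σ))
        (g.symm : Module.End F V) := by
      nth_rewrite 2 [← aeval_X (R := F) (g.symm : Module.End F V)]
      exact (Commute.all _ X).map (aeval (g.symm : Module.End F V))
    simp only [LinearEquiv.coe_coe]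
    rw [show aeval (g.symm : Module.End F V) (P.map σ) (g.symm y) =
      g.symm (aeval (g.symm : Module.End F V) (P.map σ) y) from
      LinearMap.congr_fun hc.eq y, ← hg x, LinearEquiv.apply_symm_apply]

variable {a : F[X]} [Fact (Irreducible a)]

/-- the conjugate-reciprocal polynomial vanishes at the root, or the kernel is totally isotropic -/
theorem isotropic_or_reciprocal (hh : Hermitian.IsHerm σ h) {g : V ≃ₗ[F] V}
    (hg : ∀ u v, h (g u) (g v) = h u v) (ha0 : a.coeff 0 ≠ 0) :
    (∀ x y : V, aeval (g : Module.End F V) a x = 0 → aeval (g : Module.End F V) a y = 0 →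
      h x y = 0) ∨
    (a.eval₂ ((algebraMap F (AdjoinRoot a)).comp σ) (AdjoinRoot.root a)⁻¹ = 0) := by
  rw [or_iff_not_imp_right]
  intro hz x y hx hy
  obtain ⟨r, hr⟩ := AdjoinRoot.mk_surjective (AdjoinRoot.root a)⁻¹
  obtain ⟨P, hP⟩ : ∃ P, P = (a.map σ).comp r := ⟨_, rfl⟩
  have hθ : AdjoinRoot.root a ≠ 0 := by
    intro h0
    have h1 : a ∣ X := AdjoinRoot.mk_eq_zero.1 (by rwa [AdjoinRoot.mk_X])
    obtain ⟨c, hc⟩ := h1
    have hu : IsUnit c := ((irreducible_X).isUnit_or_isUnit hc).resolve_left
      (Fact.out : Irreducible a).not_isUnit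
    obtain ⟨d, -, rfl⟩ := Polynomial.isUnit_iff.1 hu
    have := congrArg (fun p : F[X] => p.coeff 0) hc
    simp at this
    rcases this with h2 | h2
    · exact ha0 h2
    · subst h2; simp at hc
  have hPne : AdjoinRoot.mk a P ≠ 0 := by
    rw [hP, ← AdjoinRoot.aeval_eq, Polynomial.aeval_comp, AdjoinRoot.aeval_eq, hr, aeval_def,
      Polynomial.eval₂_map]
    exact hz
  have hco : IsCoprime a P := (Fact.out : Irreducible a).coprime_iff_not_dvd.2 fun hd =>
    hPne (AdjoinRoot.mk_eq_zero.2 hd)
  obtain ⟨u, w, huw⟩ := hco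
  have hcm : ∀ (p : F[X]) (z : V), aeval (g : Module.End F V) a z = 0 →
      aeval (g : Module.End F V) a (aeval (g : Module.End F V) p z) = 0 := by
    intro p z hz'
    rw [← Module.End.mul_apply, ← map_mul, mul_comm, map_mul, Module.End.mul_apply, hz', map_zero]
  have hinv : ∀ z : V, aeval (g : Module.End F V) a z = 0 →
      g.symm z = aeval (g : Module.End F V) r z := by
    intro z hz'
    apply g.injective
    rw [LinearEquiv.apply_symm_apply]
    have h1 : a ∣ X * r - 1 := by
      rw [← AdjoinRoot.mk_eq_zero, map_sub, map_mul, AdjoinRoot.mk_X, hr, map_one,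
        mul_inv_cancel₀ hθ, sub_self]
    obtain ⟨k, hk⟩ := h1
    have h2 := LinearMap.congr_fun (congrArg (aeval (g : Module.End F V)) hk) z
    rw [mul_comm a k, map_sub, map_mul, map_mul, map_one, aeval_X, LinearMap.sub_apply,
      Module.End.mul_apply, Module.End.mul_apply, hz', map_zero, sub_eq_zero] at h2
    exact h2.symm
  have key : ∀ (Q : F[X]) (z : V), aeval (g : Module.End F V) a z = 0 →
      aeval (g.symm : Module.End F V) Q z = aeval (g : Module.End F V) (Q.comp r) z := by
    intro Q
    induction Q using Polynomial.induction_on with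
    | C c => intro z _; rw [C_comp, aeval_C, aeval_C]
    | add p q hp hq =>
      intro z hz'
      rw [add_comp, map_add, map_add, LinearMap.add_apply, LinearMap.add_apply, hp z hz', hq z hz']
    | monomial n c ih =>
      intro z hz'
      rw [pow_succ, ← mul_assoc]
      generalize C c * X ^ n = P' at ih ⊢
      rw [mul_comp, X_comp, map_mul, map_mul, aeval_X, Module.End.mul_apply,
        Module.End.mul_apply, LinearEquiv.coe_coe, hinv z hz', ih _ (hcm r z hz')]
  have hy' : y = aeval (g.symm : Module.End F V) (a.map σ) (aeval (g : Module.End F V) w y) := by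
    rw [key _ _ (hcm w y hy), ← hP]
    have h2 := LinearMap.congr_fun (congrArg (aeval (g : Module.End F V)) huw) y
    rw [map_add, map_mul, mul_comm w P, map_mul, map_one, LinearMap.add_apply, Module.End.mul_apply,
      Module.End.mul_apply, hy, map_zero, zero_add] at h2
    exact h2.symm
  rw [hy', ← form_aeval hh hg, hx, hh.zero_left]

/-- the conjugation of the field of a conjugate-reciprocal polynomial -/
theorem exists_conjugation [Finite F] (hne : σ ≠ RingHom.id F) (hinv : ∀ c, σ (σ c) = c)
    (ha : a.Monic)
    (hz : a.eval₂ ((algebraMap F (AdjoinRoot a)).comp σ) (AdjoinRoot.root a)⁻¹ = 0) :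
    ∃ τ : AdjoinRoot a →+* AdjoinRoot a,
      τ ≠ RingHom.id _ ∧ (∀ x, τ (τ x) = x) ∧
      (∀ c, τ (algebraMap F _ c) = algebraMap F _ (σ c)) ∧
      τ (AdjoinRoot.root a) = (AdjoinRoot.root a)⁻¹ ∧ Odd a.natDegree := by
  haveI : Module.Finite F (AdjoinRoot a) := ha.finite_adjoinRoot
  haveI : Finite (AdjoinRoot a) := Module.finite_of_finite F
  haveI := Fintype.ofFinite F
  let τ : AdjoinRoot a →+* AdjoinRoot a :=
    AdjoinRoot.lift ((algebraMap F (AdjoinRoot a)).comp σ) (AdjoinRoot.root a)⁻¹ hz
  have hτc : ∀ c, τ (algebraMap F _ c) = algebraMap F _ (σ c) := fun c => by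
    rw [AdjoinRoot.algebraMap_eq]
    exact AdjoinRoot.lift_of hz
  have hτr : τ (AdjoinRoot.root a) = (AdjoinRoot.root a)⁻¹ := AdjoinRoot.lift_root hz
  have hττ : ∀ x, τ (τ x) = x := by
    intro x
    induction x using AdjoinRoot.induction_on with
    | ih p =>
      induction p using Polynomial.induction_on' with
      | add p q hp hq => rw [map_add, map_add, map_add, hp, hq]
      | monomial n c =>
        rw [← C_mul_X_pow_eq_monomial, map_mul, map_pow, AdjoinRoot.mk_C, AdjoinRoot.mk_X,
          ← AdjoinRoot.algebraMap_eq, map_mul, map_mul, map_pow, map_pow, hτc, hτc, hinv, hτr,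
          map_inv₀, hτr, inv_inv]
  have hτne : τ ≠ RingHom.id _ := by
    intro h
    refine hne (RingHom.ext fun c => (algebraMap F (AdjoinRoot a)).injective ?_)
    rw [← hτc, h]; rfl
  refine ⟨τ, hτne, hττ, hτc, hτr, ?_⟩
  rw [← Nat.not_even_iff_odd]
  rintro ⟨k, hk⟩
  refine hne (RingHom.ext fun c => (algebraMap F (AdjoinRoot a)).injective ?_)
  have hcard : Nat.card (AdjoinRoot a) = Fintype.card F ^ (k + k) := by
    rw [Module.natCard_eq_pow_finrank (K := F), (AdjoinRoot.powerBasis ha.ne_zero).finrank,
      AdjoinRoot.powerBasis_dim, hk, Nat.card_eq_fintype_card]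
  have hN : Nat.card (Hermitian.fixed τ) = Fintype.card F ^ k := by
    apply Nat.pow_left_injective (two_ne_zero)
    show Nat.card (Hermitian.fixed τ) ^ 2 = (Fintype.card F ^ k) ^ 2
    rw [← Hermitian.card_eq_sq hτne hττ, hcard, ← pow_mul, ← two_mul, mul_comm k]
  rw [← hτc, Hermitian.apply_eq_pow hτne hττ, hN, RingHom.id_apply, ← map_pow,
    FiniteField.pow_card_pow]

/-- the kernel of an irreducible polynomial of even degree is totally isotropic -/
theorem isotropic_of_even [Finite F] (hh : Hermitian.IsHerm σ h) {g : V ≃ₗ[F] V}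
    (hg : ∀ u v, h (g u) (g v) = h u v) (ha : a.Monic) (ha0 : a.coeff 0 ≠ 0)
    (heven : Even a.natDegree) (x y : V) (hx : aeval (g : Module.End F V) a x = 0)
    (hy : aeval (g : Module.End F V) a y = 0) : h x y = 0 := by
  rcases isotropic_or_reciprocal hh hg ha0 with h1 | h1
  · exact h1 x y hx hy
  · obtain ⟨τ, -, -, -, -, hodd⟩ := exists_conjugation hh.ne_id hh.invol ha h1
    exact absurd heven (Nat.not_even_iff_odd.2 hodd)

end herm

/-- totally isotropic subspaces have at most half the dimension -/
theorem two_mul_finrank_le {h : V → V → F} (hh : Hermitian.IsHerm σ h) [FiniteDimensional F V]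
    {W : Submodule F V} (hW : ∀ x ∈ W, ∀ y ∈ W, h x y = 0) :
    2 * finrank F W ≤ finrank F V := by
  let b := Module.finBasis F W
  have hmem : ∀ i, hh.form (b i : V) ∈ W.dualAnnihilator := fun i => by
    rw [Submodule.mem_dualAnnihilator]
    intro x hx
    exact hW x hx _ (b i).2
  have hli : LinearIndependent F fun i => (⟨hh.form (b i : V), hmem i⟩ : W.dualAnnihilator) := by
    refine LinearIndependent.of_comp W.dualAnnihilator.subtype ?_
    rw [Fintype.linearIndependent_iff]
    intro c hc
    have h0 : ∑ i, σ (c i) • (b i : V) = 0 := by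
      refine hh.nondeg _ fun x => ?_
      have h1 := LinearMap.congr_fun hc x
      simp only [Function.comp_apply, Submodule.subtype_apply, LinearMap.sum_apply,
        LinearMap.smul_apply, smul_eq_mul, Hermitian.IsHerm.form_apply, LinearMap.zero_apply] at h1
      rw [hh.sum_left]
      have : σ (∑ i, c i * h x (b i : V)) = 0 := by rw [h1, map_zero]
      rw [map_sum] at this
      simpa [hh.smul_left, ← hh.symm] using this
    intro i
    have h2 := Fintype.linearIndependent_iff.1 (b.linearIndependent.map' W.subtype W.ker_subtype)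
      (fun i => σ (c i)) (by simpa using h0) i
    exact σ.injective (by rw [h2, map_zero])
  have h3 := hli.fintype_card_le_finrank
  have h4 := Subspace.finrank_add_finrank_dualAnnihilator_eq W
  rw [Fintype.card_fin] at h3
  omega

end Cfsg.Agent.UnionTwoClasses
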